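import Groth.Agent.EGA2.K35.UnivIso
import Groth.Agent.EGA2.K36.SymAlg
import Groth.Agent.EGA2.K43.CanMap
import Groth.Agent.EGA2.K43.Piece

/-!
# Projective bundles satisfy the universal property

For `IsGrSymAlg E 𝒮 j`, `IsRelProj 𝒮 p chart`, `IsRelTwist 𝒮 p chart 1 O1 lam`, `E` quasi-coherent:
* `pack`: `K43.CanMap.Pack j`; `eq_canMap`: the canonical map is `K43.CanMap.canMap`;
* `isUniv_canMap : K35.Univ.IsUniv p (canMap ..)`.
-/

set_option autoImplicit false
universe u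
open CategoryTheory CategoryTheory.Limits AlgebraicGeometry TopologicalSpace Opposite

noncomputable section
namespace K35.PE
open Groth.Agent.Fdesc.LocGen Groth.Agent.Ega2.Nv K43.GrFrac K43.RelTw K43.VADef K43.CanMap K42.VATens K35.Univ RelProj

variable {Y P : Scheme.{u}} {E : Y.Modules} {𝒮 : QCGrAlg Y} {j : E ⟶ 𝒮.toModule}

theorem gen (hE : Coh.IsQCoh E) (hj : IsGrSymAlg E 𝒮 j) (U : Y.Opens) (hU : IsAffineOpen U) :
    Subring.closure (Set.range (𝒮.str.app (op U)).hom ∪ Set.range (jv j (U := U))) = ⊤ := by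
  rw [eq_top_iff]
  intro x hx
  clear hx
  obtain ⟨y, rfl⟩ := (K36.SymAlg.bijective_symHom hE hj.1 U hU).2 x
  induction y using SymmetricAlgebra.induction with
  | algebraMap r =>
    rw [K36.SymAlg.symHom_algebraMap]
    exact Subring.subset_closure (Or.inl ⟨r, rfl⟩)
  | ι m =>
    rw [K36.SymAlg.symHom_ι]
    exact Subring.subset_closure (Or.inr ⟨m, rfl⟩)
  | mul a b ha hb => rw [map_mul]; exact mul_mem ha hb
  | add a b ha hb => rw [map_add]; exact add_mem ha hb

theorem pack (hE : Coh.IsQCoh E) (hj : IsGrSymAlg E 𝒮 j) : Pack j :=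
  K43.Piece.pack_of_gen hj.2 (gen hE hj)

/-- Homomorphisms out of the symmetric algebra. -/
theorem exists_ringHom (hE : Coh.IsQCoh E) (hj : IsGrSymAlg E 𝒮 j) {U : Y.Opens} (hU : IsAffineOpen U)
    (C : Type u) [CommRing C] (γ : Γ(Y, U) →+* C) (l : Γ(E, U) →+ C) (hl : ∀ a t, l (a • t) = γ a * l t) :
    ∃ v : 𝒮.presheaf.obj (op U) →+* C, (∀ a, v ((𝒮.str.app (op U)).hom a) = γ a) ∧ ∀ t, v (jv j t) = l t := by
  let e := RingEquiv.ofBijective _ (K36.SymAlg.bijective_symHom hE hj.1 U hU)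
  refine ⟨(Groth.Agent.CohqB.SymLoc.desc γ l hl).comp e.symm.toRingHom, fun a => ?_, fun t => ?_⟩
  · have h1 : e.symm ((𝒮.str.app (op U)).hom a) = algebraMap _ _ a := by
      rw [RingEquiv.symm_apply_eq]
      exact (K36.SymAlg.symHom_algebraMap E 𝒮.toQCAlg j U a).symm
    change Groth.Agent.CohqB.SymLoc.desc γ l hl (e.symm _) = _
    rw [h1, Groth.Agent.CohqB.SymLoc.desc_algebraMap]
  · have h1 : e.symm (jv j t) = SymmetricAlgebra.ι _ _ t := by
      rw [RingEquiv.symm_apply_eq]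
      exact (K36.SymAlg.symHom_ι E 𝒮.toQCAlg j U t).symm
    change Groth.Agent.CohqB.SymLoc.desc γ l hl (e.symm _) = _
    rw [h1, Groth.Agent.CohqB.SymLoc.desc_ι]

variable {p : P ⟶ Y}
  {chart : ∀ (U : Y.Opens) (hU : IsAffineOpen U), (((p ⁻¹ᵁ U : P.Opens) : Scheme.{u}) ≅ Proj (𝒮.deg U hU))}
  {L : P.Modules}
  {lam : ∀ (U : Y.Opens) (hU : IsAffineOpen U),
    L ⟶ (Scheme.Modules.pushforward (emb p chart U hU)).obj (GrTwist.twist (𝒮.deg U hU) 1)}
  (hP : IsRelProj 𝒮 p chart) (hL : IsRelTwist 𝒮 p chart 1 L lam)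

open HomogeneousLocalization in
/-- The functions on `nz e`, in terms of the homogeneous localization. -/
theorem exists_away (hpk : Pack j) {U : Y.Opens} (hU : IsAffineOpen U) (e : Γ(E, U)) :
    ∃ θ : Γ(P, nz p (canMap hP hL hpk.mem) e) →+* Away (𝒮.deg U hU) (jv j e),
      (∀ a : Γ(Y, U), θ (ores (nz_le p _ e) (p.app U a)) = fromZeroRingHom (𝒮.deg U hU) _ ((𝒮.strZero U hU).hom a)) ∧
      ∀ (t : Γ(E, U)) (a : Γ(P, nz p (canMap hP hL hpk.mem) e)),
        res L (nz_le p (canMap hP hL hpk.mem) e) (se p (canMap hP hL hpk.mem) t) =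
          a • res L (nz_le p (canMap hP hL hpk.mem) e) (se p (canMap hP hL hpk.mem) e) →
        θ a = Away.mk (𝒮.deg U hU) (hpk.mem U hU e) 1 (jv j t) (by simpa using hpk.mem U hU t) := by
  set φ := canMap hP hL hpk.mem
  have hW : nz p φ e ≤ p ⁻¹ᵁ U := nz_le p φ e
  have hWD : nz p φ e = Dp chart hU (jv j e) := nz_canMap hP hL hpk hU e
  have hV : emb p chart U hU ⁻¹ᵁ nz p φ e = Proj.basicOpen (𝒮.deg U hU) (jv j e) := by
    rw [hWD, emb_preimage_Dp]
  let ρ : Γ(P, nz p φ e) →+* Γ(Proj (𝒮.deg U hU), Proj.basicOpen (𝒮.deg U hU) (jv j e)) :=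
    (ores hV.ge).comp ((emb p chart U hU).app (nz p φ e)).hom
  let iso := Proj.basicOpenIsoAway (𝒮.deg U hU) (jv j e) (hpk.mem U hU e) one_pos
  have hiso : ∀ x, iso.hom x = (Proj.awayToSection (𝒮.deg U hU) (jv j e)).hom x := fun _ => rfl
  have hiso' : ∀ x y, (Proj.awayToSection (𝒮.deg U hU) (jv j e)).hom x = y → iso.inv y = x := by
    rintro x _ rfl
    rw [← hiso]
    exact congr($(iso.hom_inv_id) x)
  refine ⟨iso.inv.hom.comp ρ, ?_, ?_⟩
  · intro a
    apply hiso'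
    have h1 := appLE_basicOpen (emb p chart U hU ≫ p) hU (𝒮.strZero U hU) (emb_p' hU hP) one_pos
      (⟨jv j e, hpk.mem U hU e⟩ : 𝒮.deg U hU 1) (le_preimage _ hU (𝒮.strZero U hU) (emb_p' hU hP) _)
    have h2 : (emb p chart U hU ≫ p).appLE U (Proj.basicOpen (𝒮.deg U hU) (jv j e))
        (le_preimage _ hU (𝒮.strZero U hU) (emb_p' hU hP) _) = p.app U ≫ P.presheaf.map (homOfLE hW).op ≫
          (emb p chart U hU).app (nz p φ e) ≫ (Proj (𝒮.deg U hU)).presheaf.map (homOfLE hV.ge).op := by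
      rw [(emb p chart U hU).naturality_assoc, Scheme.Hom.appLE, Scheme.Hom.comp_app, ← Functor.map_comp]
      exact Category.assoc _ _ _
    rw [h2] at h1
    exact congr(($h1).hom a).symm
  · intro t a ha
    apply hiso'
    have hores : ∀ {V V' : (Proj (𝒮.deg U hU)).Opens} (h : V = V') (hg : IsGen (globSec (n := 1) (i := 1) rfl
        (j1 hpk.mem hU e) V')), IsGen (globSec (n := 1) (i := 1) rfl (j1 hpk.mem hU e) V) := by
      rintro V _ rfl hg
      exact hg
    have hgen : IsGen (globSec (n := 1) (i := 1) rfl (j1 hpk.mem hU e)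
        (Proj.basicOpen (𝒮.deg U hU) (jv j e))) := isGen_globSec _ _ _ fun y hy => hy
    have h0 := ha
    rw [canMap_app hP hL hpk.mem hU, canMap_app hP hL hpk.mem hU, rdU_ratio hL hU rfl hW] at h0
    have h1 := congrArg (res _ hV.ge) h0
    rw [res_smul] at h1
    have h2 := awayToSection_mk_smul (hpk.mem U hU e) (n := 1) rfl (jv j t) (hpk.mem U hU t)
    apply hgen.ext
    exact h2.symm.trans h1

open HomogeneousLocalization in
/-- A ring homomorphism out of a graded ring sending `f` to `1` extends to the homogeneous localization at `f`. -/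
theorem exists_extend_away {A σ : Type u} [CommRing A] [SetLike σ A] [AddSubgroupClass σ A] {𝒜 : ℕ → σ} [GradedRing 𝒜]
    {f : A} {C : Type u} [CommRing C] (v : A →+* C) (hv : v f = 1) :
    ∃ v' : Away 𝒜 f →+* C, (∀ a : 𝒜 0, v' (fromZeroRingHom 𝒜 _ a) = v a) ∧
      ∀ {d : ℕ} (hf : f ∈ 𝒜 d) (n : ℕ) (x : A) (hx : x ∈ 𝒜 (n • d)), v' (Away.mk 𝒜 hf n x hx) = v x := by
  have hu : IsUnit (v f) := by rw [hv]; exact isUnit_one
  let w : Localization.Away f →+* C := IsLocalization.Away.lift f hu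
  have hw : ∀ x, w (algebraMap A _ x) = v x := IsLocalization.Away.lift_eq f hu
  refine ⟨w.comp (algebraMap (Away 𝒜 f) (Localization.Away f)), fun a => ?_, fun {d} hf n x hx => ?_⟩
  · change w (fromZeroRingHom 𝒜 (Submonoid.powers f) a).val = _
    rw [← hw]
    rfl
  · change w (Away.mk 𝒜 hf n x hx).val = _
    rw [Away.val_mk, Localization.mk_eq_mk']
    have h1 : w (IsLocalization.mk' (Localization.Away f) x (⟨f ^ n, n, rfl⟩ : Submonoid.powers f)) * w (algebraMap A _ (f ^ n)) = w (algebraMap A _ x) := by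
      rw [← map_mul]
      congr 1
      exact IsLocalization.mk'_spec _ _ _
    rw [hw, hw, map_pow, hv, one_pow, mul_one] at h1
    exact h1

/-- **Projective bundles satisfy the universal property.** -/
theorem isUniv_canMap (hE : Coh.IsQCoh E) (hj : IsGrSymAlg E 𝒮 j) :
    IsUniv p (canMap hP hL (pack hE hj).mem) where
  affine hU e := isAffineOpen_nz hP hL (pack hE hj) hU e
  gen hU e := ratioRing_canMap hP hL (pack hE hj) hU e
  gn := (va_canMap hP hL (pack hE hj)).gn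
  lift := by
    intro U hU e C γ l hl he
    obtain ⟨θ, hθ1, hθ2⟩ := exists_away hP hL (pack hE hj) hU e
    obtain ⟨v, hv1, hv2⟩ := exists_ringHom hE hj hU C γ l hl
    obtain ⟨v', hv'1, hv'2⟩ := exists_extend_away (𝒜 := 𝒮.deg U hU) v ((hv2 e).trans he)
    refine ⟨v'.comp θ, fun a => ?_, fun t a ha => ?_⟩
    · rw [RingHom.comp_apply, hθ1, hv'1, ← hv1]
      rfl
    · rw [RingHom.comp_apply, hθ2 t a ha, hv'2, hv2]

/-- The canonical map is characterised by its values. -/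
theorem eq_canMap (hj : DegOne j) (φ : E ⟶ (Scheme.Modules.pushforward p).obj L)
    (hφ : ∀ (U : Y.Opens) (hU : IsAffineOpen U) (e : Γ(E, U))
      (y : ↥(RelProj.emb p chart U hU ⁻¹ᵁ (p ⁻¹ᵁ U))),
      GrTwist.val (V := RelProj.emb p chart U hU ⁻¹ᵁ (p ⁻¹ᵁ U))
          ((lam U hU).app (p ⁻¹ᵁ U) ((φ.app U) e)) y =
        algebraMap (𝒮.presheaf.obj (op U)) (GrTwist.Loc (𝒮.deg U hU) y.1)
          ((j.app U) e : 𝒮.presheaf.obj (op U))) : φ = canMap hP hL hj := by
  apply Groth.Agent.Fdesc.GlueAff.hom_ext_affine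
  intro V x
  change se p φ x = se p (canMap hP hL hj) x
  rw [canMap_app hP hL hj V.2]
  apply rdU_injective hL V.2 le_rfl
  dsimp only
  rw [rdU_can]
  refine sec_ext fun y => ?_
  rw [val_globSec]
  exact hφ V.1 V.2 x y

include hP hL in
theorem isUniv (hE : Coh.IsQCoh E) (hj : IsGrSymAlg E 𝒮 j) (φ : E ⟶ (Scheme.Modules.pushforward p).obj L)
    (hφ : ∀ (U : Y.Opens) (hU : IsAffineOpen U) (e : Γ(E, U))
      (y : ↥(RelProj.emb p chart U hU ⁻¹ᵁ (p ⁻¹ᵁ U))),
      GrTwist.val (V := RelProj.emb p chart U hU ⁻¹ᵁ (p ⁻¹ᵁ U))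
          ((lam U hU).app (p ⁻¹ᵁ U) ((φ.app U) e)) y =
        algebraMap (𝒮.presheaf.obj (op U)) (GrTwist.Loc (𝒮.deg U hU) y.1)
          ((j.app U) e : 𝒮.presheaf.obj (op U))) : IsUniv p φ := by
  rw [eq_canMap hP hL (pack hE hj).mem φ hφ]
  exact isUniv_canMap hP hL hE hj

end K35.PE
end
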