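import Mathlib.AlgebraicGeometry.ProjectiveSpectrum.Functor

/-!
# `Proj.map` and `Proj.toSpecZero`, for gradings by additive subgroups

`map_toSpecZero : Proj.map ψ hψ ≫ Proj.toSpecZero 𝒜 = Proj.toSpecZero ℬ ≫ Spec.map (zeroMap ψ)`,
`map_toSpecZero_comp`: the same after composing with ring maps `R → 𝒜 0`, `R' → ℬ 0` over `R → R'`;
`map_congr`: `Proj.map` only depends on the underlying function.
-/

set_option autoImplicit false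
universe u

open CategoryTheory CategoryTheory.Limits AlgebraicGeometry HomogeneousLocalization
open scoped HomogeneousIdeal

namespace K35.ProjZero

section ring

variable {A B : Type*} [CommRing A] [CommRing B] {σ τ : Type*} [SetLike σ A] [AddSubgroupClass σ A]
  [SetLike τ B] [AddSubgroupClass τ B] {𝒜 : ℕ → σ} {ℬ : ℕ → τ} [GradedRing 𝒜] [GradedRing ℬ]
  (ψ : 𝒜 →+*ᵍ ℬ)

/-- The degree-zero part of a graded ring homomorphism. -/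
def zeroMap : 𝒜 0 →+* ℬ 0 where
  toFun x := ⟨ψ x.1, ψ.map_mem x.2⟩
  map_one' := Subtype.ext (map_one ψ)
  map_mul' x y := Subtype.ext (map_mul ψ x.1 y.1)
  map_zero' := Subtype.ext (map_zero ψ)
  map_add' x y := Subtype.ext (map_add ψ x.1 y.1)

@[simp] theorem zeroMap_coe (x : 𝒜 0) : (zeroMap ψ x : B) = ψ x.1 := rfl

theorem awayMap_fromZero (s : A) :
    (Away.map ψ s).comp (fromZeroRingHom 𝒜 _) = (fromZeroRingHom ℬ _).comp (zeroMap ψ) := by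
  ext r
  change (Away.map ψ s (mk _)).val = (mk _).val
  rw [Away.map]
  erw [map_mk]
  rw [val_mk, val_mk]
  congr 1
  exact Subtype.ext (map_one ψ)

end ring

section scheme

variable {A B σ τ : Type u} [CommRing A] [CommRing B] [SetLike σ A] [AddSubgroupClass σ A]
  [SetLike τ B] [AddSubgroupClass τ B] {𝒜 : ℕ → σ} {ℬ : ℕ → τ} [GradedRing 𝒜] [GradedRing ℬ]
  (ψ : 𝒜 →+*ᵍ ℬ) (hψ : ℬ₊ ≤ (𝒜₊).map ψ)

theorem awayι_map_toSpecZero {s : A} {d : ℕ} (hd : 0 < d) (hs : s ∈ 𝒜 d) :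
    Proj.awayι ℬ (ψ s) (ψ.map_mem hs) hd ≫ Proj.map ψ hψ ≫ Proj.toSpecZero 𝒜 =
      Proj.awayι ℬ (ψ s) (ψ.map_mem hs) hd ≫ Proj.toSpecZero ℬ ≫ Spec.map (CommRingCat.ofHom (zeroMap ψ)) := by
  rw [Proj.awayι_toSpecZero_assoc, Proj.awayι_comp_map_assoc ψ hψ hd _ hs, Proj.awayι_toSpecZero,
    ← Spec.map_comp, ← Spec.map_comp, ← CommRingCat.ofHom_comp, ← CommRingCat.ofHom_comp, awayMap_fromZero ψ]

@[reassoc]
theorem map_toSpecZero :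
    Proj.map ψ hψ ≫ Proj.toSpecZero 𝒜 = Proj.toSpecZero ℬ ≫ Spec.map (CommRingCat.ofHom (zeroMap ψ)) :=
  (Proj.mapAffineOpenCover ψ hψ).openCover.hom_ext _ _ fun s => awayι_map_toSpecZero ψ hψ s.1.2 s.2.2

/-- `Proj.map` over the bases: for ring maps `s : R → 𝒜 0`, `t : R' → ℬ 0` and `ρ : R → R'` with `t ∘ ρ = ψ₀ ∘ s`. -/
theorem map_toSpecZero_comp {R R' : CommRingCat.{u}} (s : R ⟶ CommRingCat.of (𝒜 0)) (t : R' ⟶ CommRingCat.of (ℬ 0))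
    (ρ : R ⟶ R') (h : ∀ r : R, ((t.hom (ρ.hom r) : ℬ 0) : B) = ψ ((s.hom r : 𝒜 0) : A)) :
    Proj.map ψ hψ ≫ Proj.toSpecZero 𝒜 ≫ Spec.map s = (Proj.toSpecZero ℬ ≫ Spec.map t) ≫ Spec.map ρ := by
  rw [map_toSpecZero_assoc, Category.assoc, ← Spec.map_comp, ← Spec.map_comp]
  congr 2
  ext r : 2
  exact Subtype.ext (h r).symm

theorem map_congr {ψ ψ' : 𝒜 →+*ᵍ ℬ} (h : ∀ a, ψ a = ψ' a) (hψ : ℬ₊ ≤ (𝒜₊).map ψ) (hψ' : ℬ₊ ≤ (𝒜₊).map ψ') :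
    Proj.map ψ hψ = Proj.map ψ' hψ' := by
  obtain rfl : ψ = ψ' := DFunLike.ext _ _ h
  rfl

theorem map_eq_id {ψ : 𝒜 →+*ᵍ 𝒜} (h : ∀ a, ψ a = a) (hψ : 𝒜₊ ≤ (𝒜₊).map ψ) : Proj.map ψ hψ = 𝟙 _ := by
  obtain rfl : ψ = .id 𝒜 := DFunLike.ext _ _ h
  exact Proj.map_id

theorem map_map {C υ : Type u} [CommRing C] [SetLike υ C] [AddSubgroupClass υ C] {𝒞 : ℕ → υ} [GradedRing 𝒞]
    (f : 𝒜 →+*ᵍ ℬ) (g : ℬ →+*ᵍ 𝒞) (h : 𝒜 →+*ᵍ 𝒞) (e : ∀ a, g (f a) = h a)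
    (hf : ℬ₊ ≤ (𝒜₊).map f) (hg : 𝒞₊ ≤ (ℬ₊).map g) (hh : 𝒞₊ ≤ (𝒜₊).map h) :
    Proj.map g hg ≫ Proj.map f hf = Proj.map h hh := by
  rw [← Proj.map_comp f g hf hg]
  exact map_congr e _ _

end scheme

end K35.ProjZero
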