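import Mathlib.AlgebraicGeometry.ProjectiveSpectrum.Functor

/-!
# Regrading: a graded ring graded by additive subgroups as a graded algebra over a ring mapping to degree zero

For `𝒜 : ℕ → σ` a grading of the commutative ring `A` by additive subgroups and an `R`-algebra structure on `A` with
`algebraMap R A r ∈ 𝒜 0`, `subm 𝒜 h0 : ℕ → Submodule R A` is the same grading by `R`-submodules
(`GradedAlgebra`), and `projIso 𝒜 h0 : Proj (subm 𝒜 h0) ≅ Proj 𝒜` is induced by the identity of `A`.
-/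

set_option autoImplicit false
universe u

open CategoryTheory CategoryTheory.Limits AlgebraicGeometry HomogeneousLocalization
open scoped HomogeneousIdeal

namespace K35.Regrade

section ring

variable {R A : Type*} [CommRing R] [CommRing A] [Algebra R A]
  {σ : Type*} [SetLike σ A] [AddSubgroupClass σ A] (𝒜 : ℕ → σ) [GradedRing 𝒜]
  (h0 : ∀ r : R, algebraMap R A r ∈ 𝒜 0)

/-- The grading by `R`-submodules with the same pieces. -/
def subm (i : ℕ) : Submodule R A where
  carrier := 𝒜 i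
  add_mem' := add_mem
  zero_mem' := zero_mem _
  smul_mem' r x hx := by
    rw [Algebra.smul_def]
    have h := SetLike.mul_mem_graded (A := 𝒜) (h0 r) hx
    rwa [zero_add] at h

@[simp] theorem mem_subm {i : ℕ} {x : A} : x ∈ subm 𝒜 h0 i ↔ x ∈ 𝒜 i := Iff.rfl

/-- The identity on pieces. -/
def pieceTo (i : ℕ) : 𝒜 i →+ subm 𝒜 h0 i where
  toFun x := ⟨x.1, x.2⟩
  map_zero' := rfl
  map_add' _ _ := rfl

theorem coe_map_pieceTo (z : DirectSum ℕ (fun i => 𝒜 i)) :
    DirectSum.coeAddMonoidHom (subm 𝒜 h0) (DirectSum.map (pieceTo 𝒜 h0) z) =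
      DirectSum.coeAddMonoidHom 𝒜 z := by
  induction z using DirectSum.induction_on with
  | zero => simp
  | of i x => simp [DirectSum.map_of]; rfl
  | add x y hx hy => simp only [map_add, hx, hy]

noncomputable instance decomp : DirectSum.Decomposition (subm 𝒜 h0) where
  decompose' x := DirectSum.map (pieceTo 𝒜 h0) (DirectSum.decompose 𝒜 x)
  left_inv x := by
    rw [coe_map_pieceTo]
    exact DirectSum.Decomposition.left_inv x
  right_inv z := by
    change DirectSum.map (pieceTo 𝒜 h0) (DirectSum.decompose 𝒜 (DirectSum.coeAddMonoidHom (subm 𝒜 h0) z)) = z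
    induction z using DirectSum.induction_on with
    | zero => simp
    | of i x =>
      rw [DirectSum.coeAddMonoidHom_of]
      have h := DirectSum.decompose_coe 𝒜 (⟨x.1, x.2⟩ : 𝒜 i)
      change DirectSum.decompose 𝒜 (x.1) = _ at h
      rw [h, DirectSum.map_of]
      rfl
    | add x y hx hy => rw [map_add, DirectSum.decompose_add, map_add, hx, hy]

noncomputable instance gradedAlgebra : GradedAlgebra (subm 𝒜 h0) where
  one_mem := SetLike.GradedOne.one_mem (A := 𝒜)
  mul_mem _ _ _ _ hx hy := SetLike.mul_mem_graded (A := 𝒜) hx hy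
  __ := decomp 𝒜 h0

/-- The identity, as a graded ring homomorphism to the regraded ring. -/
def toSub : 𝒜 →+*ᵍ subm 𝒜 h0 := { RingHom.id A with map_mem := fun h => h }

/-- The identity, as a graded ring homomorphism from the regraded ring. -/
def ofSub : subm 𝒜 h0 →+*ᵍ 𝒜 := { RingHom.id A with map_mem := fun h => h }

@[simp] theorem toSub_apply (x : A) : toSub 𝒜 h0 x = x := rfl
@[simp] theorem ofSub_apply (x : A) : ofSub 𝒜 h0 x = x := rfl

theorem toSub_comp_ofSub : (toSub 𝒜 h0).comp (ofSub 𝒜 h0) = .id _ := rfl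
theorem ofSub_comp_toSub : (ofSub 𝒜 h0).comp (toSub 𝒜 h0) = .id _ := rfl

theorem irr_toSub : (subm 𝒜 h0)₊ ≤ (𝒜₊).map (toSub 𝒜 h0) := by
  rw [HomogeneousIdeal.irrelevant_le]
  intro i hi b hb
  exact Ideal.mem_map_of_mem (toSub 𝒜 h0) (HomogeneousIdeal.mem_irrelevant_of_mem 𝒜 hi hb)

theorem irr_ofSub : 𝒜₊ ≤ ((subm 𝒜 h0)₊).map (ofSub 𝒜 h0) := by
  rw [HomogeneousIdeal.irrelevant_le]
  intro i hi b hb
  exact Ideal.mem_map_of_mem (ofSub 𝒜 h0)
    (HomogeneousIdeal.mem_irrelevant_of_mem (subm 𝒜 h0) hi (x := b) hb)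

end ring

section scheme

variable {R A σ : Type u} [CommRing R] [CommRing A] [Algebra R A]
  [SetLike σ A] [AddSubgroupClass σ A] (𝒜 : ℕ → σ) [GradedRing 𝒜]
  (h0 : ∀ r : R, algebraMap R A r ∈ 𝒜 0)

/-- `Proj` does not see the regrading. -/
noncomputable def projIso : Proj (subm 𝒜 h0) ≅ Proj 𝒜 where
  hom := Proj.map (toSub 𝒜 h0) (irr_toSub 𝒜 h0)
  inv := Proj.map (ofSub 𝒜 h0) (irr_ofSub 𝒜 h0)
  hom_inv_id := by rw [← Proj.map_comp]; exact Proj.map_id
  inv_hom_id := by rw [← Proj.map_comp]; exact Proj.map_id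

end scheme

end K35.Regrade
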