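import Groth.Agent.Ega2.H267.ProjBC
import Groth.Agent.EGA2.K35.Regrade
import Groth.Agent.EGA2.K35.ProjZero
import Mathlib.Algebra.Category.Ring.Constructions

/-!
# `Proj` commutes with base change, gradings by additive subgroups

`isPullback_map`: for a graded homomorphism `ψ : 𝒜 → ℬ` exhibiting `B` as the pushout `A ⊗_R R'` (with `R → 𝒜 0`,
`R' → ℬ 0`), the square of `Proj.map ψ`, the structure morphisms to `Spec R'`, `Spec R` and `Spec R' → Spec R` is
cartesian.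
-/

set_option autoImplicit false
universe u

open CategoryTheory CategoryTheory.Limits AlgebraicGeometry HomogeneousLocalization
open scoped HomogeneousIdeal

namespace K35.ProjPull

open K35.Regrade K35.ProjZero

variable {A B σ τ : Type u} [CommRing A] [CommRing B] [SetLike σ A] [AddSubgroupClass σ A]
  [SetLike τ B] [AddSubgroupClass τ B] {𝒜 : ℕ → σ} {ℬ : ℕ → τ} [GradedRing 𝒜] [GradedRing ℬ]
  (ψ : 𝒜 →+*ᵍ ℬ) (hψ : ℬ₊ ≤ (𝒜₊).map ψ)

/-- The projection `Proj 𝒜 ⟶ Spec R` and the regrading. -/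
theorem projIso_hom_toSpec {R : Type u} [CommRing R] [Algebra R A] (h0 : ∀ r : R, algebraMap R A r ∈ 𝒜 0)
    (s : CommRingCat.of R ⟶ CommRingCat.of (𝒜 0)) (hs : ∀ r, ((s.hom r : 𝒜 0) : A) = algebraMap R A r) :
    (projIso 𝒜 h0).hom ≫ Proj.toSpecZero 𝒜 ≫ Spec.map s =
      Proj.toSpecZero (subm 𝒜 h0) ≫ Spec.map (CommRingCat.ofHom (algebraMap R (subm 𝒜 h0 0))) := by
  have h := map_toSpecZero_comp (toSub 𝒜 h0) (irr_toSub 𝒜 h0) s
    (CommRingCat.ofHom (algebraMap R (subm 𝒜 h0 0))) (𝟙 _) (fun r => by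
      change algebraMap R A r = ((s.hom r : 𝒜 0) : A)
      rw [hs])
  rw [Spec.map_id, Category.comp_id] at h
  exact h

/-- **Base change of `Proj`.** -/
theorem isPullback_map {R R' : CommRingCat.{u}} (s : R ⟶ CommRingCat.of (𝒜 0)) (t : R' ⟶ CommRingCat.of (ℬ 0))
    (ρ : R ⟶ R') (a : R ⟶ CommRingCat.of A) (b : R' ⟶ CommRingCat.of B)
    (ha : ∀ r, a.hom r = ((s.hom r : 𝒜 0) : A)) (hb : ∀ r, b.hom r = ((t.hom r : ℬ 0) : B))
    (hpo : IsPushout ρ a b (CommRingCat.ofHom (ψ : A →+* B))) :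
    IsPullback (Proj.map ψ hψ) (Proj.toSpecZero ℬ ≫ Spec.map t) (Proj.toSpecZero 𝒜 ≫ Spec.map s) (Spec.map ρ) := by
  let _ : Algebra R R' := ρ.hom.toAlgebra
  let _ : Algebra R A := a.hom.toAlgebra
  let _ : Algebra R' B := b.hom.toAlgebra
  let _ : Algebra A B := (ψ : A →+* B).toAlgebra
  let _ : Algebra R B := (b.hom.comp ρ.hom).toAlgebra
  have : IsScalarTower R R' B := .of_algebraMap_eq' rfl
  have : IsScalarTower R A B := .of_algebraMap_eq' (by
    have := hpo.w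
    exact congrArg CommRingCat.Hom.hom this)
  have : Algebra.IsPushout R R' A B := CommRingCat.isPushout_iff_isPushout.1 hpo
  have h0 : ∀ r : R, algebraMap R A r ∈ 𝒜 0 := fun r => by
    change a.hom r ∈ 𝒜 0
    rw [ha]; exact SetLike.coe_mem _
  have h0' : ∀ r : R', algebraMap R' B r ∈ ℬ 0 := fun r => by
    change b.hom r ∈ ℬ 0
    rw [hb]; exact SetLike.coe_mem _
  let ψ' : subm 𝒜 h0 →+*ᵍ subm ℬ h0' := { (ψ : A →+* B) with map_mem := fun h => ψ.map_mem h }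
  have hψ' : (subm ℬ h0')₊ ≤ ((subm 𝒜 h0)₊).map ψ' := by
    rw [HomogeneousIdeal.irrelevant_le]
    intro i hi x hx
    have h1 : x ∈ ((𝒜₊).map ψ).toIdeal := hψ (HomogeneousIdeal.mem_irrelevant_of_mem ℬ hi hx)
    have h2 : ((𝒜₊).toIdeal).map ψ ≤ (((subm 𝒜 h0)₊).toIdeal).map ψ' := by
      rw [Ideal.map_le_iff_le_comap, HomogeneousIdeal.toIdeal_irrelevant_le]
      intro j hj y hy
      exact Ideal.mem_map_of_mem ψ' (HomogeneousIdeal.mem_irrelevant_of_mem (subm 𝒜 h0) hj (x := y) hy)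
    exact h2 h1
  have key := Groth.Agent.Ega2.H267.ProjBC.isPullback_proj_map (R := R') (R' := R) ψ' (fun _ => rfl) hψ'
  refine IsPullback.of_iso key (projIso ℬ h0') (projIso 𝒜 h0) (Iso.refl _) (Iso.refl _) ?_ ?_ ?_ ?_
  · change Proj.map ψ' hψ' ≫ Proj.map (toSub 𝒜 h0) _ = Proj.map (toSub ℬ h0') _ ≫ Proj.map ψ hψ
    rw [← Proj.map_comp, ← Proj.map_comp]
    exact map_congr (fun _ => rfl) _ _
  · rw [Iso.refl_hom, Category.comp_id, projIso_hom_toSpec h0' t (fun r => (hb r).symm)]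
  · rw [Iso.refl_hom, Category.comp_id, projIso_hom_toSpec h0 s (fun r => (ha r).symm)]
  · rw [Iso.refl_hom, Iso.refl_hom, Category.comp_id, Category.id_comp]
    rfl

end K35.ProjPull
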