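import Groth.Prelude.Def_RelProj
import Groth.Agent.EGA2.K35.ProjPull

/-!
# Existence of the relative homogeneous spectrum

`exists_isRelProj`: for every quasi-coherent graded algebra `𝒮` on `S` there are `P`, `p : P ⟶ S` and charts with
`RelProj.IsRelProj 𝒮 p chart`.  Also `isPullback_res`: the square of `Proj 𝒮(V) → Proj 𝒮(U)` over
`Spec O(V) → Spec O(U)` for `V` a basic open of the affine open `U` is cartesian.
-/

set_option autoImplicit false
universe u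

open CategoryTheory CategoryTheory.Limits AlgebraicGeometry TopologicalSpace Opposite
open scoped HomogeneousIdeal

noncomputable section

namespace K35.RelProjExists

open K35.ProjZero K35.ProjPull

variable {S : Scheme.{u}} (𝒮 : RelProj.QCGrAlg S)

theorem irr_le {U V : S.AffineZariskiSite} (h : V ≤ U) :
    (𝒮.deg V.1 V.2)₊ ≤ ((𝒮.deg U.1 U.2)₊).map (𝒮.res U.2 V.2 (Scheme.AffineZariskiSite.toOpens_mono h)) := by
  obtain ⟨r, hr⟩ := h
  obtain ⟨V, hV⟩ := V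
  change S.basicOpen r = V at hr
  subst hr
  exact 𝒮.irrelevant_le_map U.1 U.2 r

/-- The functor `U ↦ Proj 𝒮(U)` on the small affine Zariski site. -/
def projFunctor : S.AffineZariskiSite ⥤ Scheme.{u} where
  obj U := Proj (𝒮.deg U.1 U.2)
  map {V U} i := Proj.map (𝒮.res U.2 V.2 (Scheme.AffineZariskiSite.toOpens_mono i.le)) (irr_le 𝒮 i.le)
  map_id U := map_eq_id (fun a => by
    change (𝒮.presheaf.map (𝟙 (op U.1))).hom a = a
    rw [CategoryTheory.Functor.map_id]; rfl) _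
  map_comp {W V U} i j := (map_map _ _ _ (fun a => by
    change (𝒮.presheaf.map _).hom ((𝒮.presheaf.map _).hom a) = (𝒮.presheaf.map _).hom a
    rw [← CommRingCat.comp_apply, ← Functor.map_comp]
    rfl) _ _ _).symm

/-- The structure morphism `Proj 𝒮(U) ⟶ Spec O(U)`. -/
def toSpecO (U : S.Opens) (hU : IsAffineOpen U) : Proj (𝒮.deg U hU) ⟶ Spec (S.presheaf.obj (op U)) :=
  Proj.toSpecZero (𝒮.deg U hU) ≫ Spec.map (𝒮.strZero U hU)

theorem isPullback_res {U V : S.AffineZariskiSite} (i : V ⟶ U) :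
    IsPullback ((projFunctor 𝒮).map i) (toSpecO 𝒮 V.1 V.2) (toSpecO 𝒮 U.1 U.2)
      (Spec.map (S.presheaf.map (homOfLE (Scheme.AffineZariskiSite.toOpens_mono i.le)).op)) :=
  isPullback_map _ (irr_le 𝒮 i.le) (𝒮.strZero U.1 U.2) (𝒮.strZero V.1 V.2) _ (𝒮.str.app (op U.1))
    (𝒮.str.app (op V.1)) (fun _ => rfl) (fun _ => rfl) (𝒮.toQCAlg.coequifibered i.op)

/-- The structure morphism `Proj 𝒮(U) ⟶ U`. -/
def toOpen (U : S.Opens) (hU : IsAffineOpen U) : Proj (𝒮.deg U hU) ⟶ (U : Scheme.{u}) :=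
  toSpecO 𝒮 U hU ≫ hU.isoSpec.inv

@[reassoc]
theorem toOpen_ι (U : S.Opens) (hU : IsAffineOpen U) :
    toOpen 𝒮 U hU ≫ U.ι = Proj.toSpecZero (𝒮.deg U hU) ≫ Spec.map (𝒮.strZero U hU) ≫ hU.fromSpec := by
  rw [toOpen, toSpecO, Category.assoc, Category.assoc, IsAffineOpen.isoSpec_inv_ι]

theorem isPullback_toOpen {U V : S.AffineZariskiSite} (i : V ⟶ U) :
    IsPullback ((projFunctor 𝒮).map i) (toOpen 𝒮 V.1 V.2) (toOpen 𝒮 U.1 U.2)
      (S.homOfLE (Scheme.AffineZariskiSite.toOpens_mono i.le)) := by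
  have h := isPullback_res 𝒮 i
  refine h.paste_vert (IsPullback.of_vert_isIso ⟨?_⟩)
  rw [← cancel_mono U.2.isoSpec.hom, Category.assoc, Category.assoc, Iso.inv_hom_id, Category.comp_id,
    ← cancel_epi V.2.isoSpec.hom, Iso.hom_inv_id_assoc, IsAffineOpen.isoSpec_hom, IsAffineOpen.isoSpec_hom]
  exact (Scheme.Opens.toSpecΓ_SpecMap_presheaf_map ..)

/-- The relative gluing datum of the `Proj 𝒮(U)`. -/
def glueData : (Scheme.AffineZariskiSite.directedCover S).RelativeGluingData where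
  functor := projFunctor 𝒮
  natTrans :=
    { app := fun U => toOpen 𝒮 U.1 U.2
      naturality := fun _ _ i => (isPullback_toOpen 𝒮 i).w }
  equifibered := fun _ _ i => isPullback_toOpen 𝒮 i

instance : ((glueData 𝒮).functor ⋙ Scheme.forget).IsLocallyDirected :=
  Scheme.Cover.RelativeGluingData.instIsLocallyDirectedI₀CompFunctorForgetOfIsThin ..

/-- The relative homogeneous spectrum. -/
def relProj : Scheme.{u} := (glueData 𝒮).glued

/-- The structure morphism. -/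
def relProjπ : relProj 𝒮 ⟶ S := (glueData 𝒮).toBase

/-- The charts. -/
def relProjι (U : S.Opens) (hU : IsAffineOpen U) : Proj (𝒮.deg U hU) ⟶ relProj 𝒮 :=
  (glueData 𝒮).cover.f ⟨U, hU⟩

instance (U : S.Opens) (hU : IsAffineOpen U) : IsOpenImmersion (relProjι 𝒮 U hU) := (glueData 𝒮).cover.map_prop _

@[reassoc]
theorem relProjι_π (U : S.Opens) (hU : IsAffineOpen U) :
    relProjι 𝒮 U hU ≫ relProjπ 𝒮 = Proj.toSpecZero (𝒮.deg U hU) ≫ Spec.map (𝒮.strZero U hU) ≫ hU.fromSpec := by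
  rw [← toOpen_ι]
  exact colimit.ι_desc _ _

theorem preimage_π (U : S.Opens) (hU : IsAffineOpen U) :
    relProjπ 𝒮 ⁻¹ᵁ U = (relProjι 𝒮 U hU).opensRange := by
  simpa using! (glueData 𝒮).toBase_preimage_eq_opensRange_ι ⟨U, hU⟩

@[reassoc]
theorem map_relProjι {U V : S.AffineZariskiSite} (i : V ⟶ U) :
    (projFunctor 𝒮).map i ≫ relProjι 𝒮 U.1 U.2 = relProjι 𝒮 V.1 V.2 :=
  colimit.w (glueData 𝒮).functor i

theorem map_res_relProjι (U : S.AffineZariskiSite) (r : Γ(S, U.1)) :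
    Proj.map (𝒮.res U.2 (U.2.basicOpen r) (S.basicOpen_le r)) (𝒮.irrelevant_le_map U.1 U.2 r) ≫
      relProjι 𝒮 U.1 U.2 = relProjι 𝒮 (S.basicOpen r) (U.2.basicOpen r) :=
  map_relProjι 𝒮 (homOfLE (U.basicOpen_le r))

/-- The chart isomorphisms. -/
def chart (U : S.Opens) (hU : IsAffineOpen U) :
    ((relProjπ 𝒮 ⁻¹ᵁ U : (relProj 𝒮).Opens) : Scheme.{u}) ≅ Proj (𝒮.deg U hU) :=
  (relProj 𝒮).isoOfEq (preimage_π 𝒮 U hU) ≪≫ (relProjι 𝒮 U hU).isoOpensRange.symm

@[reassoc]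
theorem chart_inv_ι (U : S.Opens) (hU : IsAffineOpen U) :
    (chart 𝒮 U hU).inv ≫ (relProjπ 𝒮 ⁻¹ᵁ U).ι = relProjι 𝒮 U hU := by
  simp [chart]

theorem chart_hom_relProjι (U : S.Opens) (hU : IsAffineOpen U) :
    (chart 𝒮 U hU).hom ≫ relProjι 𝒮 U hU = (relProjπ 𝒮 ⁻¹ᵁ U).ι := by
  rw [← chart_inv_ι, Iso.hom_inv_id_assoc]

theorem isRelProj : RelProj.IsRelProj 𝒮 (relProjπ 𝒮) (chart 𝒮) where
  chart_over U hU := by
    rw [← relProjι_π, ← Category.assoc, chart_hom_relProjι]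
  chart_res U hU r := by
    rw [← cancel_mono (relProjι 𝒮 U hU), Category.assoc, chart_hom_relProjι, Scheme.homOfLE_ι, Category.assoc]
    rw [map_res_relProjι 𝒮 ⟨U, hU⟩ r, chart_hom_relProjι]

end K35.RelProjExists

end
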