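import Groth.Agent.EGA2.K35.RelProjExists
import Groth.Prelude.Def_RelProj2

/-!
# Basic facts on relative homogeneous spectra

For `hP : RelProj.IsRelProj 𝒮 p chart`:
* `emb_p`: the chart immersion `emb` over `S`; `opensRange_emb = p⁻¹(U)`; `emb_jointly`: they cover `P`;
* `restrict_eq`: `p ∣_ U = chart ≫ (Proj 𝒮(U) → U)`;
* `of_charts`: a property of morphisms local at the target holds for `p` if it holds for all `Proj 𝒮(U) ⟶ Spec O(U)`;
* `map_emb`: compatibility of the charts for `V ≤ U` in the small affine Zariski site.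
-/

set_option autoImplicit false
universe u

open CategoryTheory CategoryTheory.Limits AlgebraicGeometry TopologicalSpace Opposite
open scoped HomogeneousIdeal

noncomputable section

namespace K35.RelProjBasic

open K35.ProjZero K35.ProjPull K35.RelProjExists RelProj

variable {S P : Scheme.{u}} {𝒮 : RelProj.QCGrAlg S} {p : P ⟶ S}
  {chart : ∀ (U : S.Opens) (hU : IsAffineOpen U), (((p ⁻¹ᵁ U : P.Opens) : Scheme.{u}) ≅ Proj (𝒮.deg U hU))}

theorem emb_eq (U : S.Opens) (hU : IsAffineOpen U) :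
    emb p chart U hU = (chart U hU).inv ≫ (p ⁻¹ᵁ U).ι := rfl

theorem chart_hom_emb (U : S.Opens) (hU : IsAffineOpen U) :
    (chart U hU).hom ≫ emb p chart U hU = (p ⁻¹ᵁ U).ι := by
  rw [emb_eq, Iso.hom_inv_id_assoc]

theorem opensRange_emb (U : S.Opens) (hU : IsAffineOpen U) :
    (emb p chart U hU).opensRange = p ⁻¹ᵁ U := by
  change ((chart U hU).inv ≫ (p ⁻¹ᵁ U).ι).opensRange = p ⁻¹ᵁ U
  rw [Scheme.Hom.opensRange_comp_of_isIso, Scheme.Opens.opensRange_ι]

theorem range_emb (U : S.Opens) (hU : IsAffineOpen U) :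
    Set.range (emb p chart U hU) = (p ⁻¹ᵁ U : P.Opens) :=
  congrArg (fun W : P.Opens => (W : Set P)) (opensRange_emb U hU)

theorem emb_preimage (U : S.Opens) (hU : IsAffineOpen U) :
    emb p chart U hU ⁻¹ᵁ (p ⁻¹ᵁ U) = ⊤ := by
  rw [← opensRange_emb (chart := chart) U hU, Scheme.Hom.preimage_opensRange]

theorem exists_emb (x : P) : ∃ (U : S.Opens) (hU : IsAffineOpen U) (y : Proj (𝒮.deg U hU)),
    emb p chart U hU y = x := by
  obtain ⟨U, hxU⟩ := TopologicalSpace.Opens.mem_iSup.mp ((iSup_affineOpens_eq_top S).ge (Set.mem_univ (p x)))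
  have h : x ∈ (emb p chart U.1 U.2).opensRange := by rw [opensRange_emb]; exact hxU
  obtain ⟨y, hy⟩ := h
  exact ⟨U.1, U.2, y, hy⟩

variable (hP : IsRelProj 𝒮 p chart)
include hP

@[reassoc]
theorem emb_p (U : S.Opens) (hU : IsAffineOpen U) :
    emb p chart U hU ≫ p = Proj.toSpecZero (𝒮.deg U hU) ≫ Spec.map (𝒮.strZero U hU) ≫ hU.fromSpec := by
  rw [emb_eq, Category.assoc, ← hP.chart_over U hU, Iso.inv_hom_id_assoc]

theorem restrict_eq (U : S.Opens) (hU : IsAffineOpen U) :
    p ∣_ U = (chart U hU).hom ≫ toSpecO 𝒮 U hU ≫ hU.isoSpec.inv := by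
  rw [← cancel_mono U.ι, morphismRestrict_ι, ← hP.chart_over U hU, toSpecO]
  simp only [Category.assoc, IsAffineOpen.isoSpec_inv_ι]

theorem of_charts (Q : MorphismProperty Scheme.{u}) [IsZariskiLocalAtTarget Q]
    (h : ∀ (U : S.Opens) (hU : IsAffineOpen U), Q (toSpecO 𝒮 U hU)) : Q p := by
  rw [IsZariskiLocalAtTarget.iff_of_iSup_eq_top (P := Q) (fun U : S.affineOpens => U.1)
    (iSup_affineOpens_eq_top S)]
  intro U
  rw [restrict_eq hP U.1 U.2, MorphismProperty.cancel_left_of_respectsIso (P := Q),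
    MorphismProperty.cancel_right_of_respectsIso (P := Q)]
  exact h U.1 U.2

theorem of_base (Q : MorphismProperty Scheme.{u}) [IsZariskiLocalAtTarget Q] (h : Q p)
    (U : S.Opens) (hU : IsAffineOpen U) : Q (toSpecO 𝒮 U hU) := by
  have h1 := IsZariskiLocalAtTarget.restrict (P := Q) h U
  rwa [restrict_eq hP U hU, MorphismProperty.cancel_left_of_respectsIso (P := Q),
    MorphismProperty.cancel_right_of_respectsIso (P := Q)] at h1

@[reassoc]
theorem map_emb {U V : S.AffineZariskiSite} (i : V ⟶ U) :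
    (projFunctor 𝒮).map i ≫ emb p chart U.1 U.2 = emb p chart V.1 V.2 := by
  obtain ⟨r, hr⟩ := i.le
  obtain ⟨V, hV⟩ := V
  change S.basicOpen r = V at hr
  subst hr
  exact map_res_emb hP U.1 U.2 r

/-- The chart immersions and the morphism to the base: a cartesian square. -/
theorem isPullback_emb (U : S.Opens) (hU : IsAffineOpen U) :
    IsPullback (emb p chart U hU) (toOpen 𝒮 U hU) p U.ι := by
  refine (IsOpenImmersion.isPullback (toOpen 𝒮 U hU) (emb p chart U hU) U.ι p ?_ ?_).flip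
  · rw [emb_p hP, toOpen_ι]
  · rw [opensRange_emb, Scheme.Opens.opensRange_ι]

end K35.RelProjBasic

end
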