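import Mathlib.AlgebraicGeometry.ProjectiveSpectrum.Functor

/-!
# The preimage of a basic open under `Proj.toSpecZero`

`toSpecZero_preimage : Proj.toSpecZero 𝒜 ⁻¹ᵁ D(a) = D₊(a)` for `a` of degree zero.
-/

set_option autoImplicit false
universe u

open CategoryTheory CategoryTheory.Limits AlgebraicGeometry HomogeneousLocalization TopologicalSpace
open scoped HomogeneousIdeal

namespace K35.ProjBasicZero

variable {A σ : Type u} [CommRing A] [SetLike σ A] [AddSubgroupClass σ A] (𝒜 : ℕ → σ) [GradedRing 𝒜]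

/-- Opens of `Proj` are determined by their preimages in the standard charts. -/
theorem opens_ext {U V : (Proj 𝒜).Opens}
    (h : ∀ (d : ℕ) (hd : 0 < d) (f : A) (hf : f ∈ 𝒜 d), Proj.awayι 𝒜 f hf hd ⁻¹ᵁ U = Proj.awayι 𝒜 f hf hd ⁻¹ᵁ V) :
    U = V := by
  ext x
  obtain ⟨y, hy⟩ := (Proj.affineOpenCover 𝒜).covers x
  let i := (Proj.affineOpenCover 𝒜).idx x
  have h1 := h i.1 i.1.2 i.2 i.2.2
  have hy' : Proj.awayι 𝒜 (i.2 : A) i.2.2 i.1.2 y = x := hy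
  have h2 : y ∈ Proj.awayι 𝒜 (i.2 : A) i.2.2 i.1.2 ⁻¹ᵁ U ↔ y ∈ Proj.awayι 𝒜 (i.2 : A) i.2.2 i.1.2 ⁻¹ᵁ V := by rw [h1]
  change Proj.awayι 𝒜 (i.2 : A) i.2.2 i.1.2 y ∈ U ↔ Proj.awayι 𝒜 (i.2 : A) i.2.2 i.1.2 y ∈ V at h2
  rwa [hy'] at h2

theorem awayι_preimage_basicOpen_zero {d : ℕ} (hd : 0 < d) (f : A) (hf : f ∈ 𝒜 d) (a : 𝒜 0) :
    Proj.awayι 𝒜 f hf hd ⁻¹ᵁ Proj.basicOpen 𝒜 (a : A) =
      PrimeSpectrum.basicOpen (fromZeroRingHom 𝒜 (.powers f) a) := by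
  have haf : (a : A) * f ∈ 𝒜 d := by
    have := SetLike.mul_mem_graded a.2 hf
    rwa [zero_add] at this
  have h1 : Proj.awayι 𝒜 f hf hd ⁻¹ᵁ Proj.basicOpen 𝒜 (a : A) =
      Proj.awayι 𝒜 f hf hd ⁻¹ᵁ Proj.basicOpen 𝒜 ((a : A) * f) := by
    have h2 : Proj.awayι 𝒜 f hf hd ⁻¹ᵁ Proj.basicOpen 𝒜 f = ⊤ := by
      rw [← Proj.opensRange_awayι 𝒜 f hf hd, Scheme.Hom.preimage_opensRange]
    rw [Proj.basicOpen_mul]
    change _ = (Proj.awayι 𝒜 f hf hd ⁻¹ᵁ Proj.basicOpen 𝒜 (a : A)) ⊓ (Proj.awayι 𝒜 f hf hd ⁻¹ᵁ Proj.basicOpen 𝒜 f)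
    rw [h2, inf_top_eq]
  rw [h1, Proj.awayι_preimage_basicOpen 𝒜 hf hd haf hd]
  have h3 : Away.isLocalizationElem hf haf = (fromZeroRingHom 𝒜 (.powers f) a) ^ d := by
    apply HomogeneousLocalization.val_injective
    rw [val_pow, Away.isLocalizationElem, Away.val_mk]
    change _ = (Localization.mk (a : A) _) ^ d
    rw [Localization.mk_pow, Localization.mk_eq_mk_iff, Localization.r_iff_exists]
    refine ⟨1, ?_⟩
    simp [mul_pow]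
    ring
  rw [h3, PrimeSpectrum.basicOpen_pow _ _ hd]

/-- The preimage of `D(a)` under `Proj 𝒜 ⟶ Spec 𝒜₀` is `D₊(a)`. -/
theorem toSpecZero_preimage (a : 𝒜 0) :
    Proj.toSpecZero 𝒜 ⁻¹ᵁ (PrimeSpectrum.basicOpen a : (Spec (CommRingCat.of (𝒜 0))).Opens) =
      Proj.basicOpen 𝒜 (a : A) := by
  refine opens_ext 𝒜 fun d hd f hf => ?_
  rw [awayι_preimage_basicOpen_zero, ← Scheme.Hom.comp_preimage, Proj.awayι_toSpecZero]
  rfl

end K35.ProjBasicZero
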