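import Mathlib.RingTheory.GradedAlgebra.HomogeneousLocalization
import Mathlib.RingTheory.GradedAlgebra.Homogeneous.Ideal
import Mathlib.RingTheory.FiniteType

/-!
# Dehomogenization at an element of degree one

For `t ∈ 𝒜 1`, `dehom 𝒜 ht : A →+* A_(t)` is the ring homomorphism `a ↦ a / t^i` for `a` homogeneous of degree `i`.
It is surjective; `dehom_eq_zero_iff` for homogeneous elements.
`finiteType_away`: finiteness of `A_(t)` when `A` is generated in degree one with `𝒜 1` a finite `R`-module.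
-/

set_option autoImplicit false

open HomogeneousLocalization

noncomputable section

namespace K35.Dehom

variable {A σ : Type*} [SetLike σ A]

theorem mem_one_smul (𝒜 : ℕ → σ) {i : ℕ} {a : A} (ha : a ∈ 𝒜 i) : a ∈ 𝒜 (i • 1) := by
  rwa [smul_eq_mul, mul_one]

variable [CommRing A]

theorem pow_mem' (t : A) (i : ℕ) : t ^ i ∈ Submonoid.powers t := ⟨i, rfl⟩

variable [AddSubgroupClass σ A] (𝒜 : ℕ → σ) [GradedRing 𝒜] {t : A} (ht : t ∈ 𝒜 1)

/-- `a ↦ a / t^i` on degree `i`. -/
def piece (i : ℕ) : 𝒜 i →+ Away 𝒜 t where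
  toFun a := Away.mk 𝒜 ht i a.1 (mem_one_smul 𝒜 a.2)
  map_zero' := by
    apply HomogeneousLocalization.val_injective
    rw [Away.val_mk, val_zero]
    simp [Localization.mk_zero]
  map_add' a b := by
    apply HomogeneousLocalization.val_injective
    rw [val_add, Away.val_mk, Away.val_mk, Away.val_mk, Localization.add_mk_self]
    rfl

theorem piece_val (i : ℕ) (a : 𝒜 i) :
    (piece 𝒜 ht i a).val = Localization.mk (S := Submonoid.powers t) a.1 ⟨t ^ i, pow_mem' t i⟩ := by
  change (Away.mk 𝒜 ht i a.1 _).val = _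
  rw [Away.val_mk]

theorem piece_one : piece 𝒜 ht 0 (GradedMonoid.GOne.one (A := fun i => 𝒜 i)) = 1 := by
  apply HomogeneousLocalization.val_injective
  rw [piece_val, val_one, ← Localization.mk_one]
  congr 1
  exact Subtype.ext (pow_zero t)

theorem piece_mul {i j : ℕ} (a : 𝒜 i) (b : 𝒜 j) :
    piece 𝒜 ht (i + j) (GradedMonoid.GMul.mul (A := fun i => 𝒜 i) a b) = piece 𝒜 ht i a * piece 𝒜 ht j b := by
  apply HomogeneousLocalization.val_injective
  rw [piece_val, val_mul, piece_val, piece_val, Localization.mk_mul]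
  congr 1
  exact Subtype.ext (pow_add t i j)

/-- The dehomogenization `A →+* A_(t)`, `a ↦ a / t^i` for `a` homogeneous of degree `i`. -/
def dehom : A →+* Away 𝒜 t :=
  (DirectSum.toSemiring (fun i => piece 𝒜 ht i) (piece_one 𝒜 ht) (piece_mul 𝒜 ht)).comp
    (DirectSum.decomposeRingEquiv 𝒜).toRingHom

variable {𝒜}

theorem dehom_of_mem {i : ℕ} {a : A} (ha : a ∈ 𝒜 i) :
    dehom 𝒜 ht a = Away.mk 𝒜 ht i a (mem_one_smul 𝒜 ha) := by
  change DirectSum.toSemiring (fun i => piece 𝒜 ht i) (piece_one 𝒜 ht) (piece_mul 𝒜 ht)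
    (DirectSum.decompose 𝒜 a) = _
  rw [DirectSum.decompose_of_mem 𝒜 ha, DirectSum.toSemiring_of]
  rfl

theorem dehom_of_mem_val {i : ℕ} {a : A} (ha : a ∈ 𝒜 i) :
    (dehom 𝒜 ht a).val = Localization.mk (S := Submonoid.powers t) a ⟨t ^ i, pow_mem' t i⟩ := by
  rw [dehom_of_mem ht ha, Away.val_mk]

theorem dehom_zero (a : 𝒜 0) : dehom 𝒜 ht a.1 = fromZeroRingHom 𝒜 _ a := by
  apply HomogeneousLocalization.val_injective
  rw [dehom_of_mem_val ht a.2]
  change _ = Localization.mk a.1 _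
  congr 1
  exact Subtype.ext (pow_zero t)

@[simp] theorem dehom_self : dehom 𝒜 ht t = 1 := by
  apply HomogeneousLocalization.val_injective
  rw [dehom_of_mem_val ht ht, val_one, ← Localization.mk_self (⟨t, 1, pow_one t⟩ : Submonoid.powers t)]
  congr 1
  exact Subtype.ext (pow_one t)

theorem dehom_surjective : Function.Surjective (dehom 𝒜 ht) := by
  intro z
  obtain ⟨n, a, ha, rfl⟩ := Away.mk_surjective 𝒜 ht z
  have ha' : a ∈ 𝒜 n := by rwa [smul_eq_mul, mul_one] at ha
  exact ⟨a, by rw [dehom_of_mem ht ha']⟩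

theorem dehom_eq_zero_iff {i : ℕ} {a : A} (ha : a ∈ 𝒜 i) : dehom 𝒜 ht a = 0 ↔ ∃ k, t ^ k * a = 0 := by
  constructor
  · intro h
    have h1 := congrArg HomogeneousLocalization.val h
    rw [dehom_of_mem_val ht ha, val_zero, ← Localization.mk_zero 1, Localization.mk_eq_mk_iff,
      Localization.r_iff_exists] at h1
    obtain ⟨⟨_, k, rfl⟩, hk⟩ := h1
    exact ⟨k, by simpa using hk⟩
  · rintro ⟨k, hk⟩
    apply HomogeneousLocalization.val_injective
    rw [dehom_of_mem_val ht ha, val_zero, ← Localization.mk_zero 1, Localization.mk_eq_mk_iff,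
      Localization.r_iff_exists]
    exact ⟨⟨_, k, rfl⟩, by simpa using hk⟩

/-- If `A` is generated by `𝒜 0` and `𝒜 1`, every subring of `A_(t)` containing the `a / t`, `a ∈ 𝒜 1`, is everything. -/
theorem subring_eq_top (hgen : Subring.closure ((𝒜 0 : Set A) ∪ (𝒜 1 : Set A)) = ⊤) (C : Subring (Away 𝒜 t))
    (h1 : ∀ a ∈ 𝒜 1, dehom 𝒜 ht a ∈ C) : C = ⊤ := by
  have h : Subring.closure ((𝒜 0 : Set A) ∪ (𝒜 1 : Set A)) ≤ C.comap (dehom 𝒜 ht) := by
    rw [Subring.closure_le]
    rintro a (ha | ha)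
    · have h2 : dehom 𝒜 ht (a * t) = dehom 𝒜 ht a := by rw [map_mul, dehom_self, mul_one]
      change dehom 𝒜 ht a ∈ C
      rw [← h2]
      refine h1 _ ?_
      have := SetLike.mul_mem_graded (A := 𝒜) ha ht
      rwa [zero_add] at this
    · exact h1 a ha
  rw [hgen, top_le_iff] at h
  rw [eq_top_iff]
  rintro z -
  obtain ⟨a, rfl⟩ := dehom_surjective ht z
  have : a ∈ C.comap (dehom 𝒜 ht) := by rw [h]; trivial
  exact this

include ht in
/-- If `A` is generated by `𝒜 0` and `𝒜 1`, and `𝒜 1` is spanned by the finite set `T` over the ring `R` mapping to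
`𝒜 0`, then `A_(t)` is a finitely generated `R`-algebra. -/
theorem finiteType_away {R : Type*} [CommRing R] (s : R →+* 𝒜 0)
    (hgen : Subring.closure ((𝒜 0 : Set A) ∪ (𝒜 1 : Set A)) = ⊤) (T : Finset A)
    (hT : ∀ x ∈ 𝒜 1, ∃ c : A → R, x = ∑ y ∈ T, (s (c y) : A) * y) :
    ((fromZeroRingHom 𝒜 (.powers t)).comp s).FiniteType := by
  classical
  algebraize [(fromZeroRingHom 𝒜 (.powers t)).comp s]
  refine ⟨⟨T.image (dehom 𝒜 ht), ?_⟩⟩
  have key : (Algebra.adjoin R ((T.image (dehom 𝒜 ht) : Finset (Away 𝒜 t)) : Set (Away 𝒜 t))).toSubring = ⊤ := by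
    refine subring_eq_top ht hgen _ fun a ha => ?_
    obtain ⟨c, rfl⟩ := hT a ha
    rw [map_sum]
    refine Subring.sum_mem _ fun y hy => ?_
    rw [map_mul, dehom_zero]
    refine Subring.mul_mem _ ?_ (Algebra.subset_adjoin (by simpa using ⟨y, hy, rfl⟩))
    exact Subalgebra.algebraMap_mem _ (c y)
  rw [eq_top_iff]
  rintro z -
  have : z ∈ (⊤ : Subring (Away 𝒜 t)) := trivial
  rwa [← key] at this

/-- If `A` is generated by `𝒜 0` and `𝒜 1`, elements of positive degree lie in the ideal generated by `𝒜 1`. -/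
theorem irrelevant_le_span (hgen : Subring.closure ((𝒜 0 : Set A) ∪ (𝒜 1 : Set A)) = ⊤) :
    (HomogeneousIdeal.irrelevant 𝒜).toIdeal ≤ Ideal.span (𝒜 1 : Set A) := by
  classical
  intro x hx
  have hx0 : GradedRing.projZeroRingHom 𝒜 x = 0 := by
    rw [GradedRing.projZeroRingHom_apply, ← GradedRing.proj_apply,
      (HomogeneousIdeal.mem_irrelevant_iff _ _).mp hx]
  suffices h : x - GradedRing.projZeroRingHom 𝒜 x ∈ Ideal.span (𝒜 1 : Set A) by rwa [hx0, sub_zero] at h
  have hx' : x ∈ Subring.closure ((𝒜 0 : Set A) ∪ (𝒜 1 : Set A)) := by rw [hgen]; trivial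
  clear hx hx0
  induction hx' using Subring.closure_induction with
  | mem a ha =>
    rcases ha with ha | ha
    · rw [GradedRing.projZeroRingHom_apply, DirectSum.decompose_of_mem_same 𝒜 ha, sub_self]
      exact zero_mem _
    · rw [GradedRing.projZeroRingHom_apply, DirectSum.decompose_of_mem_ne 𝒜 ha one_ne_zero, sub_zero]
      exact Ideal.subset_span ha
  | zero => simp
  | one => rw [map_one, sub_self]; exact zero_mem _
  | add x y _ _ hx hy => rw [map_add, add_sub_add_comm]; exact add_mem hx hy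
  | neg x _ hx =>
    rw [map_neg]
    have h := neg_mem hx
    convert h using 1
    ring
  | mul x y _ _ hx hy =>
    have h := add_mem (Ideal.mul_mem_left _ x hy) (Ideal.mul_mem_right (GradedRing.projZeroRingHom 𝒜 y) _ hx)
    rw [map_mul]
    convert h using 1
    ring

end K35.Dehom

end
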