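import Groth.Prelude.Def_RelSpec

/-!
# The direct image algebra of a relative spectrum

* `isIso_gammaAff`, `isIso_gammaMap : IsIso A.gammaMap` (S8255);
* `isIso_of_affine`: a morphism of sheaves of rings (as presheaves) which is bijective on the affine opens is an
  isomorphism; `hom_ext_affine`: two morphisms to a sheaf of rings agreeing on the affine opens agree;
* `homOfAffine`: construction of morphisms of quasi-coherent algebras from compatible ring maps on affine opens.
-/

set_option autoImplicit false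
universe u

open CategoryTheory CategoryTheory.Limits AlgebraicGeometry TopologicalSpace Opposite

noncomputable section

namespace K35.GammaIso

variable {S : Scheme.{u}}

theorem isIso_of_affine {F G : TopCat.Presheaf CommRingCat.{u} S.carrier} (hF : F.IsSheaf) (hG : G.IsSheaf)
    (α : F ⟶ G) (h : ∀ U : S.Opens, IsAffineOpen U → IsIso (α.app (op U))) : IsIso α := by
  let F' : TopCat.Sheaf CommRingCat.{u} S.carrier := ⟨F, hF⟩
  let G' : TopCat.Sheaf CommRingCat.{u} S.carrier := ⟨G, hG⟩
  let α' : F' ⟶ G' := ⟨α⟩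
  have h1 : IsIso (Functor.whiskerLeft (Scheme.AffineZariskiSite.toOpensFunctor S).op α'.hom) := by
    rw [NatTrans.isIso_iff_isIso_app]
    intro U
    exact h U.unop.1 U.unop.2
  have h2 : IsIso α' := Functor.IsCoverDense.iso_of_restrict_iso
    (G := Scheme.AffineZariskiSite.toOpensFunctor S) (K := Opens.grothendieckTopology S) α' h1
  exact @Functor.map_isIso _ _ _ _ _ _ (sheafToPresheaf (Opens.grothendieckTopology S) CommRingCat.{u}) α' h2

theorem hom_ext_affine {F G : TopCat.Presheaf CommRingCat.{u} S.carrier} (hG : G.IsSheaf)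
    {α β : F ⟶ G} (h : ∀ U : S.Opens, IsAffineOpen U → α.app (op U) = β.app (op U)) : α = β := by
  apply (Functor.IsCoverDense.restrictHomEquivHom (G := Scheme.AffineZariskiSite.toOpensFunctor S)
    (K := Opens.grothendieckTopology S) (ℱ := F)
    (ℱ' := (⟨G, hG⟩ : TopCat.Sheaf CommRingCat.{u} S.carrier))).symm.injective
  ext U : 2
  exact h U.unop.1 U.unop.2

theorem isIso_gammaAff (A : RelSpec.QCAlg S) (U : S.Opens) (hU : IsAffineOpen U) : IsIso (A.gammaAff U hU) := by
  have h1 : IsIso ((A.ι U hU).app (A.π ⁻¹ᵁ U)) :=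
    (A.ι U hU).isIso_app _ (A.π_preimage U hU).le
  have h2 : (A.ι U hU) ⁻¹ᵁ (A.π ⁻¹ᵁ U) = ⊤ := top_le_iff.mp (A.top_le_preimage U hU)
  have h3 : IsIso ((A.ι U hU).appLE (A.π ⁻¹ᵁ U) ⊤ (A.top_le_preimage U hU)) := by
    rw [Scheme.Hom.appLE]
    have : (homOfLE (A.top_le_preimage U hU)) = eqToHom h2.symm := Subsingleton.elim _ _
    rw [this]
    infer_instance
  unfold RelSpec.QCAlg.gammaAff
  infer_instance

theorem isIso_gammaMap (A : RelSpec.QCAlg S) : IsIso A.gammaMap := by
  refine isIso_of_affine (TopCat.Sheaf.pushforward_sheaf_of_sheaf _ A.spec.sheaf.property) A.isSheaf _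
    fun U hU => ?_
  rw [A.gammaMap_app U hU]
  exact isIso_gammaAff A U hU

/-- A morphism of quasi-coherent algebras from compatible ring maps over the affine opens. -/
def homOfAffine {A B : RelSpec.QCAlg S}
    (g : ∀ (U : S.Opens) (_ : IsAffineOpen U), A.presheaf.obj (op U) ⟶ B.presheaf.obj (op U))
    (hres : ∀ (U : S.Opens) (hU : IsAffineOpen U) (r : Γ(S, U)),
      A.presheaf.map (homOfLE (S.basicOpen_le r)).op ≫ g (S.basicOpen r) (hU.basicOpen r) =
        g U hU ≫ B.presheaf.map (homOfLE (S.basicOpen_le r)).op)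
    (hstr : ∀ (U : S.Opens) (hU : IsAffineOpen U), A.str.app (op U) ≫ g U hU = B.str.app (op U)) : A ⟶ B where
  hom := Functor.IsCoverDense.restrictHomEquivHom (G := Scheme.AffineZariskiSite.toOpensFunctor S)
    (K := Opens.grothendieckTopology S) (ℱ := A.presheaf)
    (ℱ' := (⟨B.presheaf, B.isSheaf⟩ : TopCat.Sheaf CommRingCat.{u} S.carrier))
    { app := fun U => g U.unop.1 U.unop.2
      naturality := fun U V i => by
        obtain ⟨⟨U, hU⟩⟩ := U
        obtain ⟨⟨V, hV⟩⟩ := V
        obtain ⟨r, hr⟩ := i.unop.le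
        change S.basicOpen r = V at hr
        subst hr
        exact hres U hU r }
  comm := by
    apply hom_ext_affine B.isSheaf
    intro U hU
    rw [NatTrans.comp_app, ← hstr U hU]
    congr 1
    exact NatTrans.congr_app ((Functor.IsCoverDense.restrictHomEquivHom
      (G := Scheme.AffineZariskiSite.toOpensFunctor S)
      (K := Opens.grothendieckTopology S) (ℱ := A.presheaf)
      (ℱ' := (⟨B.presheaf, B.isSheaf⟩ : TopCat.Sheaf CommRingCat.{u} S.carrier))).symm_apply_apply _)
      (op (⟨U, hU⟩ : S.AffineZariskiSite))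

theorem homOfAffine_app {A B : RelSpec.QCAlg S}
    (g : ∀ (U : S.Opens) (_ : IsAffineOpen U), A.presheaf.obj (op U) ⟶ B.presheaf.obj (op U))
    (hres : ∀ (U : S.Opens) (hU : IsAffineOpen U) (r : Γ(S, U)),
      A.presheaf.map (homOfLE (S.basicOpen_le r)).op ≫ g (S.basicOpen r) (hU.basicOpen r) =
        g U hU ≫ B.presheaf.map (homOfLE (S.basicOpen_le r)).op)
    (hstr : ∀ (U : S.Opens) (hU : IsAffineOpen U), A.str.app (op U) ≫ g U hU = B.str.app (op U))
    (U : S.Opens) (hU : IsAffineOpen U) : (homOfAffine g hres hstr).hom.app (op U) = g U hU :=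
  NatTrans.congr_app ((Functor.IsCoverDense.restrictHomEquivHom
      (G := Scheme.AffineZariskiSite.toOpensFunctor S)
      (K := Opens.grothendieckTopology S) (ℱ := A.presheaf)
      (ℱ' := (⟨B.presheaf, B.isSheaf⟩ : TopCat.Sheaf CommRingCat.{u} S.carrier))).symm_apply_apply _)
      (op (⟨U, hU⟩ : S.AffineZariskiSite))

theorem qcAlg_hom_ext {A B : RelSpec.QCAlg S} {α β : A ⟶ B}
    (h : ∀ U : S.Opens, IsAffineOpen U → α.hom.app (op U) = β.hom.app (op U)) : α = β :=
  RelSpec.QCAlg.hom_ext (hom_ext_affine B.isSheaf h)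

end K35.GammaIso

end
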