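import Groth.Agent.EGA2.K35.RelProjBasic
import Groth.Agent.EGA2.K35.Dehom
import Mathlib.AlgebraicGeometry.ProjectiveSpectrum.Proper

/-!
# Finiteness of relative homogeneous spectra

* `finiteType_of_finiteType`: `𝒮` of finite type gives `Proj 𝒮` of finite type over the base;
* `iSup_basicOpen_eq_top_of_span`, `awayCover`: for `A` generated in degree one, `D₊(t)`, `t ∈ T` generating `𝒜 1`, cover;
* `finiteType_of_genDegOne`: `𝒮` generated in degree one with `𝒮₁` of finite type.
-/

set_option autoImplicit false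
universe u

open CategoryTheory CategoryTheory.Limits AlgebraicGeometry TopologicalSpace Opposite HomogeneousLocalization
open scoped HomogeneousIdeal

noncomputable section

namespace K35.RelProjFT

open K35.ProjZero K35.ProjPull K35.RelProjExists K35.RelProjBasic RelProj

section ring

variable {R A σ : Type u} [CommRing R] [CommRing A] [SetLike σ A] [AddSubgroupClass σ A] (𝒜 : ℕ → σ)
  [GradedRing 𝒜] (s : R →+* 𝒜 0)

theorem finiteType_zero (h : ((algebraMap (𝒜 0) A).comp s).FiniteType) :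
    s.FiniteType ∧ Algebra.FiniteType (𝒜 0) A := by
  constructor
  · have h1 : s = (GradedRing.projZeroRingHom' 𝒜).comp ((algebraMap (𝒜 0) A).comp s) := by
      ext r
      change ((s r : 𝒜 0) : A) = GradedRing.projZeroRingHom' 𝒜 ((s r : 𝒜 0) : A)
      simp
    rw [h1]
    exact RingHom.FiniteType.comp (RingHom.FiniteType.of_surjective _
      (GradedRing.projZeroRingHom'_surjective 𝒜)) h
  · exact RingHom.FiniteType.of_comp_finiteType h

theorem locallyOfFiniteType_of_finiteType (h : ((algebraMap (𝒜 0) A).comp s).FiniteType) :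
    LocallyOfFiniteType (Proj.toSpecZero 𝒜 ≫ Spec.map (CommRingCat.ofHom s)) ∧
      QuasiCompact (Proj.toSpecZero 𝒜 ≫ Spec.map (CommRingCat.ofHom s)) := by
  obtain ⟨h1, h2⟩ := finiteType_zero 𝒜 s h
  have : LocallyOfFiniteType (Spec.map (CommRingCat.ofHom s)) :=
    (HasRingHomProperty.Spec_iff (P := @LocallyOfFiniteType)).2 h1
  constructor <;> infer_instance

theorem locallyOfFiniteType_of_genDegOne
    (hgen : Subring.closure ((𝒜 0 : Set A) ∪ (𝒜 1 : Set A)) = ⊤) (T : Finset A) (hT1 : (↑T : Set A) ⊆ (𝒜 1 : Set A))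
    (hT : ∀ x ∈ 𝒜 1, ∃ c : A → R, x = ∑ y ∈ T, (s (c y) : A) * y) :
    LocallyOfFiniteType (Proj.toSpecZero 𝒜 ≫ Spec.map (CommRingCat.ofHom s)) ∧
      QuasiCompact (Proj.toSpecZero 𝒜 ≫ Spec.map (CommRingCat.ofHom s)) := by
  have hspan : (HomogeneousIdeal.irrelevant 𝒜).toIdeal ≤ Ideal.span (Set.range ((↑) : T → A)) := by
    refine (Dehom.irrelevant_le_span hgen).trans (Ideal.span_le.2 fun x hx => ?_)
    obtain ⟨c, rfl⟩ := hT x hx
    exact Ideal.sum_mem _ fun y hy => Ideal.mul_mem_left _ _ (Ideal.subset_span ⟨⟨y, hy⟩, rfl⟩)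
  have hcov := Proj.iSup_basicOpen_eq_top 𝒜 ((↑) : T → A) hspan
  constructor
  · rw [IsZariskiLocalAtSource.iff_of_iSup_eq_top (P := @LocallyOfFiniteType) _ hcov]
    intro i
    rw [← MorphismProperty.cancel_left_of_respectsIso (P := @LocallyOfFiniteType)
      (Proj.basicOpenIsoSpec 𝒜 (i : A) (hT1 i.2) one_pos).inv, ← Category.assoc,
      ← Proj.awayι, Proj.awayι_toSpecZero_assoc, ← Spec.map_comp, HasRingHomProperty.Spec_iff (P := @LocallyOfFiniteType)]
    exact Dehom.finiteType_away (hT1 i.2) s hgen T hT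
  · rw [HasAffineProperty.iff_of_isAffine (P := @QuasiCompact)]
    have H (i : T) : IsCompact (Proj.basicOpen 𝒜 (i : A)).1 := by
      rw [← Proj.opensRange_awayι _ _ (hT1 i.2) one_pos]
      exact isCompact_range (Proj.awayι _ _ (hT1 i.2) one_pos).continuous
    have := congr($(hcov).1)
    simp only [TopologicalSpace.Opens.iSup_mk, TopologicalSpace.Opens.carrier_eq_coe,
      TopologicalSpace.Opens.coe_mk, TopologicalSpace.Opens.coe_top] at this
    rw [← isCompact_univ_iff, ← this]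
    exact isCompact_iUnion H

end ring

variable {S P : Scheme.{u}} {𝒮 : RelProj.QCGrAlg S} {p : P ⟶ S}
  {chart : ∀ (U : S.Opens) (hU : IsAffineOpen U), (((p ⁻¹ᵁ U : P.Opens) : Scheme.{u}) ≅ Proj (𝒮.deg U hU))}

theorem finiteType_of_finiteType (hP : IsRelProj 𝒮 p chart)
    (hft : ∀ (U : S.Opens) (_ : IsAffineOpen U), (𝒮.str.app (op U)).hom.FiniteType) :
    LocallyOfFiniteType p ∧ QuasiCompact p :=
  ⟨of_charts hP @LocallyOfFiniteType fun U hU =>
      (locallyOfFiniteType_of_finiteType (𝒮.deg U hU) (𝒮.strZero U hU).hom (hft U hU)).1,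
    of_charts hP @QuasiCompact fun U hU =>
      (locallyOfFiniteType_of_finiteType (𝒮.deg U hU) (𝒮.strZero U hU).hom (hft U hU)).2⟩

theorem finiteType_of_genDegOne (hP : IsRelProj 𝒮 p chart) (hgen : 𝒮.IsGenDegOne) (hft : 𝒮.IsFTDeg 1) :
    LocallyOfFiniteType p ∧ QuasiCompact p := by
  have h : ∀ (U : S.Opens) (hU : IsAffineOpen U), LocallyOfFiniteType (toSpecO 𝒮 U hU) ∧
      QuasiCompact (toSpecO 𝒮 U hU) := by
    intro U hU
    obtain ⟨T, hT1, hT⟩ := hft U hU
    exact locallyOfFiniteType_of_genDegOne (𝒮.deg U hU) (𝒮.strZero U hU).hom (hgen U hU) T hT1 hT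
  exact ⟨of_charts hP @LocallyOfFiniteType fun U hU => (h U hU).1,
    of_charts hP @QuasiCompact fun U hU => (h U hU).2⟩

end K35.RelProjFT

end
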