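import Groth.Agent.EGA2.K35.Univ
import Groth.Agent.Ega3B.PullTensor

/-!
# The universal property of projective bundles, in terms of invertible quotients
-/

set_option autoImplicit false
universe u
open CategoryTheory CategoryTheory.Limits AlgebraicGeometry TopologicalSpace Opposite

noncomputable section
namespace K35.UnivIso
open Groth.Agent.Fdesc.LocGen Groth.Agent.Ega2.Nv K43.VADef K42.VATens K35.Univ

variable {X Y P Z : Scheme.{u}}

variable {p : P ⟶ Y} {E : Y.Modules} {L : X.Modules} {O1 : P.Modules}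
  {φ : E ⟶ (Scheme.Modules.pushforward p).obj O1} {r : X ⟶ P}
  {ρ : E ⟶ (Scheme.Modules.pushforward (r ≫ p)).obj L}

/-- An isomorphism `r^* O(1) ≅ L` carrying `φ` to `ρ` gives compatibility. -/
theorem comp_of_hom (τ : (Scheme.Modules.pullback r).obj O1 ⟶ L) [IsIso τ]
    (h : ∀ (V : Y.Opens) (t : Γ(E, V)), τ.app (r ⁻¹ᵁ (p ⁻¹ᵁ V)) (pullSec r (se p φ t)) = se (r ≫ p) ρ t) :
    Comp ρ φ r rfl := by
  intro V V' e t D hD hD' a he ha
  have key : ∀ {V : Y.Opens} (hD : D ≤ p ⁻¹ᵁ V) (t : Γ(E, V)),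
      τ.app (r ⁻¹ᵁ D) (pullSec r (res O1 hD (se p φ t))) = res L (pre_le rfl hD) (se (r ≫ p) ρ t) := by
    intro V hD t
    rw [← res_pullSec, app_res, h]
    rfl
  refine ⟨?_, ?_⟩
  · rw [← key hD]
    exact (he.pullSec r).app τ
  · rw [← key hD, ← key hD', ha, pullSec_smul, Scheme.Modules.Hom.app_smul]

/-- Compatibility gives an isomorphism `r^* O(1) ≅ L`. -/
theorem exists_iso_of_comp (hP : Gn p φ) (h : Comp ρ φ r rfl) :
    ∃ τ : (Scheme.Modules.pullback r).obj O1 ≅ L,
      ∀ (V : Y.Opens) (t : Γ(E, V)), τ.hom.app (r ⁻¹ᵁ (p ⁻¹ᵁ V)) (pullSec r (se p φ t)) = se (r ≫ p) ρ t := by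
  choose U e he using hP
  have hcov : ⨆ y, nz p φ (e y) = ⊤ := top_le_iff.mp fun y _ => Opens.mem_iSup.mpr ⟨y, he y⟩
  have hD : ∀ y, nz p φ (e y) ≤ p ⁻¹ᵁ U y := fun y => nz_le p φ (e y)
  obtain ⟨θ, hθ⟩ := Groth.Agent.Picfga.LineHom.exists_hom (L := O1) (N := (Scheme.Modules.pushforward r).obj L)
    (U := fun y => nz p φ (e y)) hcov (e := fun y => res O1 (hD y) (se p φ (e y))) (fun y => isGen_nz p φ (e y))
    (n := fun y => (res L (pre_le rfl (hD y)) (se (r ≫ p) ρ (e y)) : Γ(L, r ⁻¹ᵁ nz p φ (e y)))) (by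
      intro i j V hi hj a ha
      have h1 : IsGen (res O1 (hj.trans (hD j)) (se p φ (e j))) := by
        have := (isGen_nz p φ (e j)).res hj
        rwa [res_res] at this
      rw [res_res, res_res] at ha
      have h2 := (h _ _ (e j) (e i) V (hj.trans (hD j)) (hi.trans (hD i)) a h1 ha).2
      change res L (r.preimage_mono hi) (res L _ _) = (r.app V a : Γ(X, r ⁻¹ᵁ V)) •
        res L (r.preimage_mono hj) (res L _ _)
      rw [res_res, res_res]
      exact h2)
  have hθ' : ∀ (y : P) {D : P.Opens} (hy : D ≤ nz p φ (e y)), (θ.app D (res O1 (hy.trans (hD y)) (se p φ (e y))) :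
      Γ(L, r ⁻¹ᵁ D)) = res L (pre_le rfl (hy.trans (hD y))) (se (r ≫ p) ρ (e y)) := by
    intro y D hy
    have h1 := congrArg (res ((Scheme.Modules.pushforward r).obj L) hy) (hθ y)
    rw [← app_res, res_res] at h1
    refine h1.trans ?_
    change res L (r.preimage_mono hy) (res L _ _) = _
    rw [res_res]
  let τ := ((Scheme.Modules.pullbackPushforwardAdjunction r).homEquiv O1 L).symm θ
  have hτ : ∀ {D : P.Opens} (x : Γ(O1, D)), τ.app (r ⁻¹ᵁ D) (pullSec r x) = (θ.app D x : Γ(L, r ⁻¹ᵁ D)) := by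
    intro D x
    have h1 := homEquiv_app r τ x
    rw [Equiv.apply_symm_apply] at h1
    exact h1.symm
  have hiso : IsIso τ := by
    apply Groth.Agent.Ega3B.PullTensor.isIso_of_isGen
    intro x
    refine ⟨r ⁻¹ᵁ (nz p φ (e (r x))), pullSec r (res O1 (hD _) (se p φ (e (r x)))), he (r x),
      (isGen_nz p φ (e (r x))).pullSec r, ?_⟩
    rw [hτ]
    have h1 := hθ (r x)
    have h2 := h.isGen (e (r x)) (hD _) (isGen_nz p φ (e (r x)))
    have aux : ∀ {W : X.Opens} (a b : Γ(L, W)), a = b → IsGen b → IsGen a := by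
      rintro W a b rfl h
      exact h
    exact aux _ _ h1 h2
  refine ⟨asIso τ, fun V t => ?_⟩
  change τ.app _ _ = _
  rw [hτ]
  refine res_ext L (fun y => r ⁻¹ᵁ (p ⁻¹ᵁ V ⊓ nz p φ (e y))) (fun y => r.preimage_mono inf_le_left) ?_ fun y => ?_
  · intro x hx
    exact Opens.mem_iSup.mpr ⟨r x, hx, he (r x)⟩
  · have hDy : p ⁻¹ᵁ V ⊓ nz p φ (e y) ≤ nz p φ (e y) := inf_le_right
    have h1 : IsGen (res O1 (hDy.trans (hD y)) (se p φ (e y))) := by
      have := (isGen_nz p φ (e y)).res hDy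
      rwa [res_res] at this
    obtain ⟨a, ha⟩ := h1.exists_eq (res O1 (inf_le_left : p ⁻¹ᵁ V ⊓ nz p φ (e y) ≤ p ⁻¹ᵁ V) (se p φ t))
    have h2 := (h _ _ (e y) t _ (hDy.trans (hD y)) inf_le_left a h1 ha).2
    have h3 := app_res θ (inf_le_left : p ⁻¹ᵁ V ⊓ nz p φ (e y) ≤ p ⁻¹ᵁ V) (se p φ t)
    rw [ha, Scheme.Modules.Hom.app_smul] at h3
    refine h3.symm.trans ?_
    refine Eq.trans ?_ h2.symm
    exact congrArg (fun z : Γ(L, r ⁻¹ᵁ (p ⁻¹ᵁ V ⊓ nz p φ (e y))) => (r.app _ a : Γ(X, r ⁻¹ᵁ _)) • z) (hθ' y hDy)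

/-- The equation of the universal property, in terms of sections. -/
theorem eq_iff (φ : E ⟶ (Scheme.Modules.pushforward p).obj O1) (τ : (Scheme.Modules.pullback r).obj O1 ⟶ L)
    (s : (Scheme.Modules.pullback (r ≫ p)).obj E ⟶ L) :
    (Scheme.Modules.pullbackComp r p).inv.app E ≫ (Scheme.Modules.pullback r).map
          (((Scheme.Modules.pullbackPushforwardAdjunction p).homEquiv E O1).symm φ) ≫ τ = s ↔
      ∀ (V : Y.Opens) (t : Γ(E, V)), τ.app (r ⁻¹ᵁ (p ⁻¹ᵁ V)) (pullSec r (se p φ t)) =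
        se (r ≫ p) ((Scheme.Modules.pullbackPushforwardAdjunction (r ≫ p)).homEquiv E L s) t := by
  rw [← ((Scheme.Modules.pullbackPushforwardAdjunction (r ≫ p)).homEquiv E L).apply_eq_iff_eq]
  have key : ∀ (V : Y.Opens) (t : Γ(E, V)), se (r ≫ p)
      ((Scheme.Modules.pullbackPushforwardAdjunction (r ≫ p)).homEquiv E L
        ((Scheme.Modules.pullbackComp r p).inv.app E ≫ (Scheme.Modules.pullback r).map
          (((Scheme.Modules.pullbackPushforwardAdjunction p).homEquiv E O1).symm φ) ≫ τ)) t =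
      τ.app (r ⁻¹ᵁ (p ⁻¹ᵁ V)) (pullSec r (se p φ t)) := by
    intro V t
    refine (homEquiv_app (r ≫ p) _ t).trans ?_
    change τ.app _ (((Scheme.Modules.pullback r).map _).app _
      (((Scheme.Modules.pullbackComp r p).inv.app E).app _ (pullSec (r ≫ p) t))) = _
    rw [pullSec_comp]
    congr 1
    refine (pullback_map_pullSec r _ (pullSec p t)).trans ?_
    congr 1
    have h1 := homEquiv_app p (((Scheme.Modules.pullbackPushforwardAdjunction p).homEquiv E O1).symm φ) t
    rw [Equiv.apply_symm_apply] at h1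
    exact h1.symm
  constructor
  · intro h V t
    rw [← key, h]
  · intro h
    apply Scheme.Modules.hom_ext
    intro V
    ext t
    exact (key V t).trans (h V t)

variable (φ) in
/-- The formula of the universal property is compatibility. -/
theorem exists_iff_comp (hφ : Gn p φ) {g : X ⟶ Y} (L : X.Modules) (s : (Scheme.Modules.pullback g).obj E ⟶ L)
    (r : X ⟶ P) : (∃ (hr : r ≫ p = g) (τ : (Scheme.Modules.pullback r).obj O1 ≅ L),
      (Scheme.Modules.pullbackCongr hr).inv.app E ≫ (Scheme.Modules.pullbackComp r p).inv.app E ≫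
        (Scheme.Modules.pullback r).map
          (((Scheme.Modules.pullbackPushforwardAdjunction p).homEquiv E O1).symm φ) ≫ τ.hom = s) ↔
      ∃ hr : r ≫ p = g, Comp ((Scheme.Modules.pullbackPushforwardAdjunction g).homEquiv E L s) φ r hr := by
  refine exists_congr fun hr => ?_
  subst hr
  have h0 : ∀ τ : (Scheme.Modules.pullback r).obj O1 ≅ L,
      (Scheme.Modules.pullbackCongr (rfl : r ≫ p = r ≫ p)).inv.app E ≫ (Scheme.Modules.pullbackComp r p).inv.app E ≫
        (Scheme.Modules.pullback r).map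
          (((Scheme.Modules.pullbackPushforwardAdjunction p).homEquiv E O1).symm φ) ≫ τ.hom = s ↔
      (Scheme.Modules.pullbackComp r p).inv.app E ≫
        (Scheme.Modules.pullback r).map
          (((Scheme.Modules.pullbackPushforwardAdjunction p).homEquiv E O1).symm φ) ≫ τ.hom = s := by
    intro τ
    have h1 : (Scheme.Modules.pullbackCongr (rfl : r ≫ p = r ≫ p)).inv.app E = 𝟙 _ := rfl
    rw [h1, Category.id_comp]
  constructor
  · rintro ⟨τ, hτ⟩
    rw [h0, eq_iff] at hτ
    exact comp_of_hom τ.hom hτ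
  · intro h
    obtain ⟨τ, hτ⟩ := exists_iso_of_comp hφ h
    exact ⟨τ, (h0 τ).mpr ((eq_iff φ τ.hom s).mpr hτ)⟩

/-- **The universal property**: morphisms to `P` over `Y` are invertible quotients of the inverse image of `E`. -/
theorem existsUnique_of_isUniv (hφ : IsUniv p φ) (hE : Coh.IsQCoh E) (g : X ⟶ Y) (L : X.Modules)
    (hL : PicF.IsInvertible L) (s : (Scheme.Modules.pullback g).obj E ⟶ L) (hs : Epi s) :
    ∃! r : X ⟶ P, ∃ (hr : r ≫ p = g) (τ : (Scheme.Modules.pullback r).obj O1 ≅ L),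
      (Scheme.Modules.pullbackCongr hr).inv.app E ≫ (Scheme.Modules.pullbackComp r p).inv.app E ≫
        (Scheme.Modules.pullback r).map
          (((Scheme.Modules.pullbackPushforwardAdjunction p).homEquiv E O1).symm φ) ≫ τ.hom = s := by
  have h1 := gn_of_epi hL s
  have h2 := existsUnique_comp (ρ := (Scheme.Modules.pullbackPushforwardAdjunction g).homEquiv E L s) hφ hE h1
  have h3 : (fun r : X ⟶ P => ∃ (hr : r ≫ p = g) (τ : (Scheme.Modules.pullback r).obj O1 ≅ L),
      (Scheme.Modules.pullbackCongr hr).inv.app E ≫ (Scheme.Modules.pullbackComp r p).inv.app E ≫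
        (Scheme.Modules.pullback r).map
          (((Scheme.Modules.pullbackPushforwardAdjunction p).homEquiv E O1).symm φ) ≫ τ.hom = s) =
      fun r => ∃ hr : r ≫ p = g, Comp ((Scheme.Modules.pullbackPushforwardAdjunction g).homEquiv E L s) φ r hr :=
    funext fun r => propext (exists_iff_comp φ hφ.gn L s r)
  rw [h3]
  exact h2

end K35.UnivIso
end
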