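import Groth.Agent.EGA2.K35.VBSum
import Groth.Agent.EGA2.K34.FtSub
import Groth.Agent.QCohSup.K27.QCAlgBasic

/-!
# Affine schemes of finite type over `Y` are closed subschemes of vector bundles
-/

set_option autoImplicit false
universe u
open CategoryTheory CategoryTheory.Limits AlgebraicGeometry TopologicalSpace Opposite

noncomputable section
namespace K35.AffVB
open K36.SymAlg K36.SpecLocal AlgebraicGeometry.Scheme.AffineZariskiSite Groth.Agent.CohqB

variable {X S : Scheme.{u}} {A : RelSpec.QCAlg S} (f : X ⟶ S) [IsAffineHom f] (ψ : A ⟶ RelSpec.QCAlg.directImage f)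

/-- The ring maps. -/
def psi (U : S.Opens) : A.presheaf.obj (op U) ⟶ Γ(X, f ⁻¹ᵁ U) := ψ.hom.app (op U)

/-- The morphism attached to `A ⟶ f_* O_X`. -/
def liftData : RelSpec.LiftData (Functor.whiskerLeft (toOpensFunctor S).op A.str) f where
  ψ U := psi f ψ U.1
  nat {U V} i := ψ.hom.naturality (homOfLE (toOpens_mono i.le)).op
  comp U := NatTrans.congr_app ψ.comm (op U.1)

/-- The morphism `X ⟶ Spec A`. -/
def toSpec : X ⟶ A.spec := RelSpec.lift A.coequifibered (liftData f ψ)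

theorem toSpec_π : toSpec f ψ ≫ A.π = f := RelSpec.lift_toBase A.coequifibered (liftData f ψ)

theorem isPullback_toSpec (U : S.Opens) (hU : IsAffineOpen U) :
    IsPullback ((f ⁻¹ᵁ U).toSpecΓ ≫ Spec.map (psi f ψ U)) (f ⁻¹ᵁ U).ι (A.ι U hU) (toSpec f ψ) :=
  RelSpec.isPullback_lift A.coequifibered (liftData f ψ) ⟨U, hU⟩

/-- The closed immersion criterion on an affine cover. -/
theorem isClosedImmersion {ι : Type u} (V : ι → S.Opens) (hV : ∀ i, IsAffineOpen (V i)) (hcov : ∀ x : S, ∃ i, x ∈ V i)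
    (hs : ∀ i, Function.Surjective (psi f ψ (V i)).hom) : IsClosedImmersion (toSpec f ψ) := by
  let 𝒰 : A.spec.OpenCover :=
    { I₀ := ι
      X := fun i => Spec (A.presheaf.obj (op (V i)))
      f := fun i => A.ι (V i) (hV i)
      mem₀ := by
        rw [Scheme.presieve₀_mem_precoverage_iff]
        refine ⟨fun x => ?_, inferInstance⟩
        obtain ⟨i, hi⟩ := hcov (A.π x)
        have : x ∈ A.π ⁻¹ᵁ V i := hi
        rw [A.π_preimage (V i) (hV i)] at this
        exact ⟨i, this⟩ }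
  rw [IsZariskiLocalAtTarget.iff_of_openCover (P := @IsClosedImmersion) 𝒰]
  intro i
  have h1 := isPullback_toSpec f ψ (V i) (hV i)
  have h2 : IsClosedImmersion ((f ⁻¹ᵁ (V i)).toSpecΓ ≫ Spec.map (psi f ψ (V i))) := by
    have : IsIso (f ⁻¹ᵁ (V i)).toSpecΓ := by
      rw [← IsAffineOpen.isoSpec_hom ((hV i).preimage f)]
      infer_instance
    have : IsClosedImmersion (Spec.map (psi f ψ (V i))) := IsClosedImmersion.spec_of_surjective _ (hs i)
    infer_instance
  have h3 : pullback.snd (toSpec f ψ) (A.ι (V i) (hV i)) =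
      h1.flip.isoPullback.inv ≫ (f ⁻¹ᵁ (V i)).toSpecΓ ≫ Spec.map (psi f ψ (V i)) := by
    simp
  change IsClosedImmersion (pullback.snd (toSpec f ψ) (A.ι (V i) (hV i)))
  rw [h3]
  infer_instance

/-- A homomorphism of algebras whose image contains algebra generators is surjective. -/
theorem surjective_of_generators {R B C : Type*} [CommRing R] [CommRing B] [CommRing C] (a : R →+* B) (b : R →+* C)
    (w : B →+* C) (h : w.comp a = b) (T : Set C)
    (hT : letI := b.toAlgebra; Algebra.adjoin R T = ⊤) (hw : ∀ t ∈ T, ∃ x, w x = t) : Function.Surjective w := by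
  let _ : Algebra R C := b.toAlgebra
  let _ : Algebra R B := a.toAlgebra
  let w' : B →ₐ[R] C := { w with commutes' := fun r => congr($h r) }
  have h1 : w'.range = ⊤ := by
    rw [eq_top_iff, ← hT, Algebra.adjoin_le_iff]
    intro t ht
    obtain ⟨x, hx⟩ := hw t ht
    exact ⟨x, hx⟩
  intro c
  have : c ∈ w'.range := by rw [h1]; trivial
  obtain ⟨x, hx⟩ := this
  exact ⟨x, hx⟩

theorem main (f : X ⟶ S) [IsAffineHom f] [LocallyOfFiniteType f] [CompactSpace S] [QuasiSeparatedSpace S] :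
    ∃ (E : S.Modules) (_ : Coh.IsCoh E) (A : RelSpec.QCAlg S) (j : E ⟶ A.toModule)
      (_ : RelSpec.IsSymAlg E A j) (i : X ⟶ A.spec), IsClosedImmersion i ∧ i ≫ A.π = f := by
  classical
  -- a finite affine cover
  obtain ⟨s, hs⟩ : ∃ s : Finset S.affineOpens, ∀ x : S, ∃ V ∈ s, x ∈ V.1 := by
    obtain ⟨s, hs⟩ := isCompact_univ.elim_finite_subcover (fun V : S.affineOpens => (V.1 : Set S))
      (fun V => V.1.isOpen) (by
        intro x _
        obtain ⟨V, hV, hx, -⟩ := exists_isAffineOpen_mem_and_subset (x := x) (U := ⊤) trivial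
        exact Set.mem_iUnion.2 ⟨⟨V, hV⟩, hx⟩)
    refine ⟨s, fun x => ?_⟩
    obtain ⟨V, hV, hx⟩ := Set.mem_iUnion₂.1 (hs (Set.mem_univ x))
    exact ⟨V, hV, hx⟩
  have hgen : ∀ V : S.affineOpens, ∃ T : Finset Γ(X, f ⁻¹ᵁ V.1),
      letI := (f.app V.1).hom.toAlgebra; Algebra.adjoin Γ(S, V.1) (T : Set Γ(X, f ⁻¹ᵁ V.1)) = ⊤ := by
    intro V
    have h1 : (f.app V.1).hom.FiniteType := by
      rw [Scheme.Hom.app_eq_appLE]
      exact f.finiteType_appLE V.2 (V.2.preimage f) _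
    exact h1.out
  choose T hT using hgen
  obtain ⟨E, k, hk, hE, hE', hsec⟩ := K34.FtSub.exists_ft_sub (G := (RelSpec.QCAlg.directImage f).toModule)
    (K27.QCAlgBasic.isQCoh_toModule _) (ι := Σ V : s, T V.1) (fun a => a.1.1.1)
    (fun a => a.1.1.2) (fun a => a.2.1)
  obtain ⟨A, j, hA, -⟩ := exists_symAlg E hE
  obtain ⟨ψ, hψ, -⟩ := hA (RelSpec.QCAlg.directImage f) k
  refine ⟨E, ⟨hE, hE'⟩, A, j, hA, toSpec f ψ, ?_, toSpec_π f ψ⟩
  refine isClosedImmersion f ψ (ι := s) (fun V => V.1.1) (fun V => V.1.2) (fun x => ?_) fun V => ?_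
  · obtain ⟨V, hV, hx⟩ := hs x
    exact ⟨⟨V, hV⟩, hx⟩
  · refine surjective_of_generators (A.str.app (op V.1.1)).hom (f.app V.1.1).hom _ ?_ (T V.1) (hT V.1) fun t ht => ?_
    · exact congrArg CommRingCat.Hom.hom (NatTrans.congr_app ψ.comm (op V.1.1))
    · obtain ⟨x, hx⟩ := hsec ⟨V, ⟨t, ht⟩⟩
      exact ⟨j.app V.1.1 x, (congr(($hψ).app V.1.1 x)).trans hx⟩

end K35.AffVB
end
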