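import Groth.Agent.EGA2.K35.GammaIso
import Groth.Agent.Pi1C.SecOver
import Groth.Prelude.Def_AffAlg

/-!
# The direct image algebra of a fibre product of affine morphisms is a pushout (tensor product)

`isPushout_of_affine`: a square of quasi-coherent algebras is a pushout if it is one over every affine open.
-/

set_option autoImplicit false
universe u

open CategoryTheory CategoryTheory.Limits AlgebraicGeometry TopologicalSpace Opposite

noncomputable section

namespace K35.AlgPushout

open K35.GammaIso

variable {S : Scheme.{u}}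

/-- A square of quasi-coherent algebras is a pushout if it is one on sections over every affine open. -/
theorem isPushout_of_affine {A B C D : RelSpec.QCAlg S} (f : A ⟶ B) (g : A ⟶ C) (inl : B ⟶ D) (inr : C ⟶ D)
    (h : ∀ U : S.Opens, IsAffineOpen U → IsPushout (f.hom.app (op U)) (g.hom.app (op U)) (inl.hom.app (op U))
      (inr.hom.app (op U))) : IsPushout f g inl inr := by
  have w : f ≫ inl = g ≫ inr := qcAlg_hom_ext fun U hU => (h U hU).w
  refine ⟨⟨w⟩, ⟨PushoutCocone.IsColimit.mk w (fun s => ?_) (fun s => ?_) (fun s => ?_) (fun s m h1 h2 => ?_)⟩⟩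
  · refine homOfAffine (fun U hU => (h U hU).desc (s.inl.hom.app (op U)) (s.inr.hom.app (op U)) ?_) ?_ ?_
    · have := s.condition
      exact congrArg (fun k : A ⟶ s.pt => k.hom.app (op U)) this
    · intro U hU r
      refine (h U hU).hom_ext ?_ ?_
      · rw [← Category.assoc, ← NatTrans.naturality, Category.assoc, IsPushout.inl_desc, IsPushout.inl_desc_assoc,
          NatTrans.naturality]
      · rw [← Category.assoc, ← NatTrans.naturality, Category.assoc, IsPushout.inr_desc, IsPushout.inr_desc_assoc,
          NatTrans.naturality]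
    · intro U hU
      have e1 : D.str = B.str ≫ inl.hom := inl.comm.symm
      rw [e1, NatTrans.comp_app, Category.assoc, IsPushout.inl_desc]
      exact NatTrans.congr_app s.inl.comm (op U)
  · refine qcAlg_hom_ext fun U hU => ?_
    rw [RelSpec.QCAlg.comp_hom, NatTrans.comp_app, homOfAffine_app _ _ _ U hU, IsPushout.inl_desc]
  · refine qcAlg_hom_ext fun U hU => ?_
    rw [RelSpec.QCAlg.comp_hom, NatTrans.comp_app, homOfAffine_app _ _ _ U hU, IsPushout.inr_desc]
  · refine qcAlg_hom_ext fun U hU => ?_
    rw [homOfAffine_app _ _ _ U hU]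
    refine (h U hU).hom_ext ?_ ?_
    · rw [IsPushout.inl_desc]
      exact congrArg (fun k : B ⟶ s.pt => k.hom.app (op U)) h1
    · rw [IsPushout.inr_desc]
      exact congrArg (fun k : C ⟶ s.pt => k.hom.app (op U)) h2

open Groth.Agent.Pi1C.SecOver

theorem algHom_app {X Y : Scheme.{u}} (f : X ⟶ S) (g : Y ⟶ S) (h : Y ⟶ X) (w : h ≫ f = g) (U : S.Opens) :
    (AffAlg.algHom f g h w).app (op U) = sec U h f g w := by
  subst w
  rw [sec_rfl]
  simp [AffAlg.algHom]
  rfl

end K35.AlgPushout

end
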