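import Groth.Agent.EGA2.K35.RelProjMap
import Groth.Agent.EGA2.K36.GlueAff

/-!
# Existence and uniqueness of the morphism of relative homogeneous spectra induced by a graded homomorphism
-/

set_option autoImplicit false
universe u

open CategoryTheory CategoryTheory.Limits AlgebraicGeometry TopologicalSpace Opposite
open scoped HomogeneousIdeal

noncomputable section

namespace K35.RelProjMap

open K35.ProjZero K35.ProjPull K35.RelProjExists K35.RelProjBasic RelProj

variable {S PA PB : Scheme.{u}} {𝒜 ℬ : RelProj.QCGrAlg S}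
    (φ : 𝒜.toQCAlg ⟶ ℬ.toQCAlg) (hφ : RelProj.IsGradedHom φ)
    (hirr : ∀ (U : S.Opens) (hU : IsAffineOpen U),
      (ℬ.deg U hU)₊ ≤ ((𝒜.deg U hU)₊).map (RelProj.gradedHomAt φ hφ U hU))

/-- `Proj.map` of a graded homomorphism commutes with the restrictions to basic opens. -/
theorem map_res_comm (U : S.Opens) (hU : IsAffineOpen U) (r : Γ(S, U)) :
    Proj.map (ℬ.res hU (hU.basicOpen r) (S.basicOpen_le r)) (ℬ.irrelevant_le_map U hU r) ≫
        Proj.map (gradedHomAt φ hφ U hU) (hirr U hU) =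
      Proj.map (gradedHomAt φ hφ (S.basicOpen r) (hU.basicOpen r)) (hirr _ _) ≫
        Proj.map (𝒜.res hU (hU.basicOpen r) (S.basicOpen_le r)) (𝒜.irrelevant_le_map U hU r) := by
  rw [← Proj.map_comp, ← Proj.map_comp]
  refine map_congr (fun a => ?_) _ _
  change (ℬ.presheaf.map _).hom ((φ.hom.app (op U)).hom a) =
    (φ.hom.app (op (S.basicOpen r))).hom ((𝒜.presheaf.map _).hom a)
  rw [← CommRingCat.comp_apply, ← CommRingCat.comp_apply, φ.hom.naturality]

variable {pA : PA ⟶ S} {pB : PB ⟶ S}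
    {chartA : ∀ (U : S.Opens) (hU : IsAffineOpen U), (((pA ⁻¹ᵁ U : PA.Opens) : Scheme.{u}) ≅ Proj (𝒜.deg U hU))}
    {chartB : ∀ (U : S.Opens) (hU : IsAffineOpen U), (((pB ⁻¹ᵁ U : PB.Opens) : Scheme.{u}) ≅ Proj (ℬ.deg U hU))}
    (hA : IsRelProj 𝒜 pA chartA) (hB : IsRelProj ℬ pB chartB)
include hA hB

theorem existsUnique : ∃! h : PB ⟶ PA, IsRelProjMap φ hφ hirr chartA chartB h := by
  refine K36.GlueAff.existsUnique_glue pB (fun U hU => (chartB U hU).hom ≫
    Proj.map (gradedHomAt φ hφ U hU) (hirr U hU) ≫ (chartA U hU).inv ≫ (pA ⁻¹ᵁ U).ι) fun U hU r => ?_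
  rw [reassoc_of% (hB.chart_res U hU r), ← emb_eq, ← emb_eq, ← map_res_emb hA U hU r,
    reassoc_of% (map_res_comm φ hφ hirr U hU r)]

end K35.RelProjMap

end
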