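import Groth.Agent.EGA2.K35.PE
import Groth.Agent.Fdesc.PullbackSec
import Groth.Agent.FormalA.PullbackQC
import Groth.Prelude.Def_RelProj4

/-!
# Base change of symmetric algebras

* `exists_pre_hom`, `pre_hom_ext`: morphisms of presheaves of rings into a sheaf, from / on the affine opens.
* `map_mem_of_closure`: a ring homomorphism preserving the degrees of generators in degrees 0, 1 preserves degrees.
* `ringHom_ext`: homomorphisms out of `𝒮(U)`, `𝒮 = Sym(E)`.
* `exists_extend`, `extend_ext`: the universal property of the sections of `ψ^* E` over affine pairs.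
* `exists_qGrHom : Sym(E) → Sym(ψ^* E)` over `ψ` (target any `𝒮'` with `j' : ψ^* E ⟶ 𝒮'` in degree one);
  `exists_isQBaseChange`: for `𝒮' = Sym(ψ^* E)` it exhibits `𝒮'` as the base change of `𝒮`.
-/

set_option autoImplicit false
universe u
open CategoryTheory CategoryTheory.Limits AlgebraicGeometry TopologicalSpace Opposite

noncomputable section
namespace K35.SymPull
open Groth.Agent.Fdesc.LocGen K43.CanMap RelProj

section pre

variable {S : Scheme.{u}} {F G : TopCat.Presheaf CommRingCat.{u} S.carrier} (hG : G.IsSheaf)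

include hG in
/-- Maps of presheaves of rings into a sheaf of rings from components on the affine opens compatible with restriction to
basic opens. -/
theorem exists_pre_hom (f : ∀ (U : S.Opens) (_ : IsAffineOpen U), F.obj (op U) ⟶ G.obj (op U))
    (hf : ∀ (U : S.Opens) (hU : IsAffineOpen U) (r : Γ(S, U)),
      F.map (homOfLE (S.basicOpen_le r)).op ≫ f (S.basicOpen r) (hU.basicOpen r) =
        f U hU ≫ G.map (homOfLE (S.basicOpen_le r)).op) :
    ∃ g : F ⟶ G, ∀ (U : S.Opens) (hU : IsAffineOpen U), g.app (op U) = f U hU := by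
  let α : (Scheme.AffineZariskiSite.toOpensFunctor S).op ⋙ F ⟶ (Scheme.AffineZariskiSite.toOpensFunctor S).op ⋙ G :=
    { app := fun U => f U.unop.1 U.unop.2
      naturality := by
        rintro ⟨U⟩ ⟨V⟩ ⟨i⟩
        obtain ⟨V, hV⟩ := V
        obtain ⟨r, rfl⟩ := i.le
        exact hf U.1 U.2 r }
  refine ⟨Functor.IsCoverDense.restrictHomEquivHom (G := Scheme.AffineZariskiSite.toOpensFunctor S)
    (K := Opens.grothendieckTopology S) (ℱ := F)
    (ℱ' := (⟨G, hG⟩ : TopCat.Sheaf CommRingCat.{u} S.carrier)) α, fun U hU => ?_⟩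
  have h := (Functor.IsCoverDense.restrictHomEquivHom (G := Scheme.AffineZariskiSite.toOpensFunctor S)
    (K := Opens.grothendieckTopology S) (ℱ := F)
    (ℱ' := (⟨G, hG⟩ : TopCat.Sheaf CommRingCat.{u} S.carrier))).symm_apply_apply α
  exact NatTrans.congr_app h (op ⟨U, hU⟩)

include hG in
theorem pre_hom_ext {f g : F ⟶ G} (h : ∀ (U : S.Opens), IsAffineOpen U → f.app (op U) = g.app (op U)) : f = g := by
  apply (Functor.IsCoverDense.restrictHomEquivHom (G := Scheme.AffineZariskiSite.toOpensFunctor S)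
    (K := Opens.grothendieckTopology S) (ℱ := F)
    (ℱ' := (⟨G, hG⟩ : TopCat.Sheaf CommRingCat.{u} S.carrier))).symm.injective
  ext U : 2
  exact h U.unop.1 U.unop.2

end pre

section ring

/-- A ring homomorphism preserving degrees of generators preserves degrees. -/
theorem map_mem_of_closure {A B σ τ : Type u} [CommRing A] [SetLike σ A] [AddSubgroupClass σ A]
    [CommRing B] [SetLike τ B] [AddSubgroupClass τ B] {𝒜 : ℕ → σ} {ℬ : ℕ → τ} [GradedRing 𝒜] [GradedRing ℬ]
    (S₀ S₁ : Set A) (h0 : ∀ x ∈ S₀, x ∈ 𝒜 0) (h1 : ∀ x ∈ S₁, x ∈ 𝒜 1) (hgen : Subring.closure (S₀ ∪ S₁) = ⊤)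
    (φ : A →+* B) (hφ0 : ∀ x ∈ S₀, φ x ∈ ℬ 0) (hφ1 : ∀ x ∈ S₁, φ x ∈ ℬ 1) {d : ℕ} {x : A} (hx : x ∈ 𝒜 d) :
    φ x ∈ ℬ d := by
  classical
  have key : ∀ x : A, ∀ d : ℕ, φ (DirectSum.decompose 𝒜 x d : A) ∈ ℬ d := by
    intro x
    have hx : x ∈ Subring.closure (S₀ ∪ S₁) := by rw [hgen]; trivial
    induction hx using Subring.closure_induction with
    | mem x hx =>
      intro d
      rcases hx with hx | hx
      · by_cases hd : 0 = d
        · subst hd
          rw [DirectSum.decompose_of_mem_same 𝒜 (h0 x hx)]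
          exact hφ0 x hx
        · rw [DirectSum.decompose_of_mem_ne 𝒜 (h0 x hx) hd, map_zero]
          exact zero_mem _
      · by_cases hd : 1 = d
        · subst hd
          rw [DirectSum.decompose_of_mem_same 𝒜 (h1 x hx)]
          exact hφ1 x hx
        · rw [DirectSum.decompose_of_mem_ne 𝒜 (h1 x hx) hd, map_zero]
          exact zero_mem _
    | zero =>
      intro d
      rw [DirectSum.decompose_zero]
      change φ ((0 : 𝒜 d) : A) ∈ _
      rw [ZeroMemClass.coe_zero, map_zero]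
      exact zero_mem _
    | one =>
      intro d
      by_cases hd : 0 = d
      · subst hd
        rw [DirectSum.decompose_of_mem_same 𝒜 SetLike.GradedOne.one_mem, map_one]
        exact SetLike.GradedOne.one_mem
      · rw [DirectSum.decompose_of_mem_ne 𝒜 SetLike.GradedOne.one_mem hd, map_zero]
        exact zero_mem _
    | add x y _ _ hx hy =>
      intro d
      rw [DirectSum.decompose_add, DirectSum.add_apply, AddMemClass.coe_add, map_add]
      exact add_mem (hx d) (hy d)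
    | neg x _ hx =>
      intro d
      rw [DirectSum.decompose_neg]
      have h : ((-(DirectSum.decompose 𝒜 x)) d : 𝒜 d) = -(DirectSum.decompose 𝒜 x d) := DFinsupp.neg_apply _ _
      rw [h, NegMemClass.coe_neg, map_neg]
      exact neg_mem (hx d)
    | mul x y _ _ hx hy =>
      intro d
      rw [DirectSum.decompose_mul, DirectSum.coe_mul_apply, map_sum]
      refine sum_mem fun ij hij => ?_
      rw [Finset.mem_filter] at hij
      rw [map_mul, ← hij.2]
      exact SetLike.mul_mem_graded (hx _) (hy _)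
  have := key x d
  rwa [DirectSum.decompose_of_mem_same 𝒜 hx] at this

/-- Base change of symmetric algebras, abstractly. -/
theorem isPushout_of_sym {R R' A A' : CommRingCat.{u}} (ρ : R ⟶ R') (a : R ⟶ A) (a' : R' ⟶ A') (v : A ⟶ A')
    (hsq : ρ ≫ a' = a ≫ v) {M M' : Type u} [AddCommGroup M] [AddCommGroup M'] [Module R M] [Module R' M']
    (i : M →+ A) (i' : M' →+ A') (m : M →+ M') (hi : ∀ (r : R) x, i (r • x) = a r * i x) (hv : ∀ x, v (i x) = i' (m x))
    (univ' : ∀ (C : CommRingCat.{u}) (γ : R' →+* C) (l : M' →+ C), (∀ r x, l (r • x) = γ r * l x) →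
      ∃ w : A' →+* C, (∀ r, w (a' r) = γ r) ∧ ∀ x, w (i' x) = l x)
    (ext : ∀ (C : CommRingCat.{u}) (f g : A →+* C), (∀ r, f (a r) = g (a r)) → (∀ x, f (i x) = g (i x)) → f = g)
    (ext' : ∀ (C : CommRingCat.{u}) (f g : A' →+* C), (∀ r, f (a' r) = g (a' r)) → (∀ x, f (i' x) = g (i' x)) → f = g)
    (bc : ∀ (C : CommRingCat.{u}) (γ : R' →+* C) (l : M →+ C), (∀ (r : R) x, l (r • x) = γ (ρ r) * l x) →
      ∃ l' : M' →+ C, (∀ r x, l' (r • x) = γ r * l' x) ∧ ∀ x, l' (m x) = l x)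
    (bcext : ∀ (C : CommRingCat.{u}) (γ : R' →+* C) (l l' : M' →+ C), (∀ r x, l (r • x) = γ r * l x) →
      (∀ r x, l' (r • x) = γ r * l' x) → (∀ x, l (m x) = l' (m x)) → l = l')
    (hi' : ∀ (r : R') x, i' (r • x) = a' r * i' x) : IsPushout ρ a a' v := by
  have key : ∀ (C : CommRingCat.{u}) (f : R' ⟶ C) (g : A ⟶ C), ρ ≫ f = a ≫ g →
      ∃ w : A' ⟶ C, a' ≫ w = f ∧ v ≫ w = g := by
    intro C f g hfg
    obtain ⟨l', hl', hl'm⟩ := bc C f.hom (g.hom.toAddMonoidHom.comp i) (by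
      intro r x
      change g (i (r • x)) = _
      rw [hi, map_mul]
      exact congrArg (· * g (i x)) congr(($hfg).hom r).symm)
    obtain ⟨w, hw, hwi⟩ := univ' C f.hom l' hl'
    refine ⟨CommRingCat.ofHom w, ?_, ?_⟩
    · ext r
      exact hw r
    · have : w.comp v.hom = g.hom := by
        apply ext C
        · intro r
          have h1 : v.hom (a.hom r) = a'.hom (ρ.hom r) := congr(($hsq).hom r).symm
          change w (v.hom (a.hom r)) = _
          rw [h1]
          refine (hw _).trans ?_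
          exact congr(($hfg).hom r)
        · intro x
          change w (v (i x)) = _
          rw [hv]
          exact (hwi _).trans (hl'm x)
      ext x
      exact congr($this x)
  refine ⟨⟨hsq⟩, ⟨PushoutCocone.IsColimit.mk _ (fun s => (key s.pt s.inl s.inr s.condition).choose)
    (fun s => (key s.pt s.inl s.inr s.condition).choose_spec.1)
    (fun s => (key s.pt s.inl s.inr s.condition).choose_spec.2) ?_⟩⟩
  intro s w hw1 hw2
  have h3 := (key s.pt s.inl s.inr s.condition).choose_spec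
  ext x
  have : w.hom = (key s.pt s.inl s.inr s.condition).choose.hom := by
    apply ext' s.pt
    · intro r
      exact (congr(($hw1).hom r)).trans congr(($(h3.1)).hom r).symm
    · have h4 : w.hom.toAddMonoidHom.comp i' = (key s.pt s.inl s.inr s.condition).choose.hom.toAddMonoidHom.comp i' := by
        apply bcext s.pt s.inl.hom
        · intro r x
          change w.hom (i' (r • x)) = _
          rw [hi', map_mul]
          exact congrArg (· * w.hom (i' x)) congr(($hw1).hom r)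
        · intro r x
          change (key s.pt s.inl s.inr s.condition).choose.hom (i' (r • x)) = _
          rw [hi', map_mul]
          exact congrArg (· * (key s.pt s.inl s.inr s.condition).choose.hom (i' x)) congr(($(h3.1)).hom r)
        · intro x
          change w.hom (i' (m x)) = (key s.pt s.inl s.inr s.condition).choose.hom (i' (m x))
          rw [← hv]
          exact (congr(($hw2).hom (i x))).trans congr(($(h3.2)).hom (i x)).symm
      intro x
      exact congr($h4 x)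
  exact congr($this x)

end ring

/-! ### The homomorphism `Sym(E) → Sym(ψ^* E)` -/

variable {Y Y' : Scheme.{u}} (ψ : Y' ⟶ Y) {E : Y.Modules} {𝒮 : QCGrAlg Y} {j : E ⟶ 𝒮.toModule} {𝒮' : QCGrAlg Y'}
  (j' : (Scheme.Modules.pullback ψ).obj E ⟶ 𝒮'.toModule)

/-- `E(U) → 𝒮'(ψ⁻¹ U)`. -/
def lp (U : Y.Opens) : Γ(E, U) →+ 𝒮'.presheaf.obj (op (ψ ⁻¹ᵁ U)) :=
  AddMonoidHom.mk' (fun e => jv j' (pullSec ψ e)) (fun a b => by rw [pullSec_add, jv_add])

theorem lp_smul (U : Y.Opens) (r : Γ(Y, U)) (e : Γ(E, U)) :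
    lp ψ j' U (r • e) = ((ψ.app U ≫ 𝒮'.str.app (op (ψ ⁻¹ᵁ U))).hom r) * lp ψ j' U e := by
  change jv j' (pullSec ψ (r • e)) = _ * jv j' (pullSec ψ e)
  rw [pullSec_smul, jv_smul]
  rfl

theorem lp_res {U V : Y.Opens} (h : V ≤ U) (e : Γ(E, U)) :
    lp ψ j' V (res E h e) = (𝒮'.presheaf.map (homOfLE (ψ.preimage_mono h)).op).hom (lp ψ j' U e) := by
  change jv j' (pullSec ψ (res E h e)) = _
  rw [← res_pullSec, jv_res]
  rfl

/-- Homomorphisms out of `𝒮(U)` agreeing on functions and on `E(U)` are equal. -/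
theorem ringHom_ext (hE : Coh.IsQCoh E) (hj : IsGrSymAlg E 𝒮 j) {U : Y.Opens} (hU : IsAffineOpen U)
    {C : Type u} [CommRing C] {f g : 𝒮.presheaf.obj (op U) →+* C}
    (h0 : ∀ r, f ((𝒮.str.app (op U)).hom r) = g ((𝒮.str.app (op U)).hom r))
    (h1 : ∀ e, f (jv j e) = g (jv j e)) : f = g := by
  refine RingHom.eq_of_eqOn_set_dense (K35.PE.gen hE hj U hU) ?_
  rintro _ (⟨r, rfl⟩ | ⟨e, rfl⟩)
  · exact h0 r
  · exact h1 e

theorem exists_app (hE : Coh.IsQCoh E) (hj : IsGrSymAlg E 𝒮 j) (U : Y.Opens) (hU : IsAffineOpen U) :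
    ∃ v : 𝒮.presheaf.obj (op U) ⟶ 𝒮'.presheaf.obj (op (ψ ⁻¹ᵁ U)),
      (∀ r, v.hom ((𝒮.str.app (op U)).hom r) = (ψ.app U ≫ 𝒮'.str.app (op (ψ ⁻¹ᵁ U))).hom r) ∧
      ∀ e, v.hom (jv j e) = lp ψ j' U e := by
  obtain ⟨v, h1, h2⟩ := K35.PE.exists_ringHom hE hj hU _ (ψ.app U ≫ 𝒮'.str.app (op (ψ ⁻¹ᵁ U))).hom (lp ψ j' U)
    (lp_smul ψ j' U)
  exact ⟨CommRingCat.ofHom v, h1, h2⟩

/-- The `ψ`-homomorphism `Sym(E) → Sym(ψ^* E)`. -/
theorem exists_qHom (hE : Coh.IsQCoh E) (hj : IsGrSymAlg E 𝒮 j) :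
    ∃ u : RelSpec.QHom ψ 𝒮.toQCAlg 𝒮'.toQCAlg, ∀ (U : Y.Opens), IsAffineOpen U → ∀ e : Γ(E, U),
      (u.app U).hom (jv j e) = lp ψ j' U e := by
  have hG : ((TopCat.Presheaf.pushforward CommRingCat.{u} ψ.base).obj 𝒮'.presheaf).IsSheaf :=
    TopCat.Sheaf.pushforward_sheaf_of_sheaf _ 𝒮'.isSheaf
  choose v hv1 hv2 using fun U hU => exists_app ψ j' hE hj U hU
  obtain ⟨g, hg⟩ := exists_pre_hom (F := 𝒮.presheaf) hG v (by
    intro U hU r
    ext x
    refine congr($(ringHom_ext hE hj hU (f := (𝒮.presheaf.map (homOfLE (Y.basicOpen_le r)).op ≫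
      v (Y.basicOpen r) (hU.basicOpen r)).hom) (g := (v U hU ≫
        𝒮'.presheaf.map (homOfLE (ψ.preimage_mono (Y.basicOpen_le r))).op).hom) ?_ ?_) x)
    · intro a
      change (v (Y.basicOpen r) (hU.basicOpen r)).hom ((𝒮.presheaf.map _).hom ((𝒮.str.app (op U)).hom a)) =
        (𝒮'.presheaf.map _).hom ((v U hU).hom ((𝒮.str.app (op U)).hom a))
      have h1 : (𝒮.presheaf.map (homOfLE (Y.basicOpen_le r)).op).hom ((𝒮.str.app (op U)).hom a) =
          (𝒮.str.app (op (Y.basicOpen r))).hom ((Y.presheaf.map (homOfLE (Y.basicOpen_le r)).op).hom a) :=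
        congr(($(𝒮.str.naturality (homOfLE (Y.basicOpen_le r)).op)).hom a).symm
      rw [h1, hv1, hv1]
      have h2 := congr(($(𝒮'.str.naturality (homOfLE (ψ.preimage_mono (Y.basicOpen_le r))).op)).hom (ψ.app U a))
      have h3 := congr(($(ψ.naturality (homOfLE (Y.basicOpen_le r)).op)).hom a)
      exact (congrArg (𝒮'.str.app (op (ψ ⁻¹ᵁ (Y.basicOpen r)))).hom h3).trans h2
    · intro e
      change (v (Y.basicOpen r) (hU.basicOpen r)).hom ((𝒮.presheaf.map _).hom (jv j e)) =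
        (𝒮'.presheaf.map _).hom ((v U hU).hom (jv j e))
      rw [← jv_res, hv2, hv2, lp_res])
  refine ⟨{ app := fun U => g.app (op U), naturality := fun i => (g.naturality (homOfLE i).op).symm, str_app := ?_ }, ?_⟩
  · let β : Y.presheaf ⟶ (TopCat.Presheaf.pushforward CommRingCat.{u} ψ.base).obj 𝒮'.presheaf :=
      { app := fun U => ψ.app U.unop ≫ 𝒮'.str.app (op (ψ ⁻¹ᵁ U.unop))
        naturality := by
          intro U V i
          rw [← Category.assoc, ψ.naturality, Category.assoc, Category.assoc]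
          congr 1
          exact 𝒮'.str.naturality _ }
    have h : 𝒮.str ≫ g = β := by
      refine pre_hom_ext hG fun U hU => ?_
      ext r
      change (g.app (op U)).hom ((𝒮.str.app (op U)).hom r) = _
      rw [hg U hU, hv1]
    intro U
    exact NatTrans.congr_app h (op U)
  · intro U hU e
    change (g.app (op U)).hom (jv j e) = _
    rw [hg U hU, hv2]

/-- The graded `ψ`-homomorphism `Sym(E) → Sym(ψ^* E)`. -/
theorem exists_qGrHom (hE : Coh.IsQCoh E) (hj : IsGrSymAlg E 𝒮 j) (hj' : DegOne j') :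
    ∃ u : QGrHom ψ 𝒮 𝒮', ∀ (U : Y.Opens), IsAffineOpen U → ∀ e : Γ(E, U),
      (u.app U).hom (jv j e) = lp ψ j' U e := by
  obtain ⟨u, hu⟩ := exists_qHom ψ j' hE hj
  refine ⟨{ u with map_mem := ?_ }, hu⟩
  intro U hU U' hU' hle d x hx
  refine map_mem_of_closure (Set.range (𝒮.str.app (op U)).hom) (Set.range (jv j (U := U))) ?_ ?_
    (K35.PE.gen hE hj U hU) (u.appLE U U' hle).hom ?_ ?_ hx
  · rintro _ ⟨r, rfl⟩
    exact 𝒮.str_mem U hU r
  · rintro _ ⟨e, rfl⟩
    exact hj.2 U hU e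
  · rintro _ ⟨r, rfl⟩
    have h1 : (u.appLE U U' hle).hom ((𝒮.str.app (op U)).hom r) = (𝒮'.str.app (op U')).hom (ψ.appLE U U' hle r) :=
      congr(($(u.str_appLE U U' hle)).hom r)
    rw [h1]
    exact 𝒮'.str_mem U' hU' _
  · rintro _ ⟨e, rfl⟩
    have h1 : (u.appLE U U' hle).hom (jv j e) = jv j' (res _ hle (pullSec ψ e)) := by
      change (𝒮'.presheaf.map (homOfLE hle).op).hom ((u.app U).hom (jv j e)) = _
      rw [hu U hU, jv_res]
      rfl
    rw [h1]
    exact hj' U' hU' _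

/-! ### Base change -/

section bc

variable (hE : Coh.IsQCoh E) {U : Y.Opens} {U' : Y'.Opens} (hU : IsAffineOpen U) (hU' : IsAffineOpen U')
  (hle : U' ≤ ψ ⁻¹ᵁ U)

include hE hU hU'

open Groth.Agent.Fdesc.PullbackSec in
/-- Semilinear maps out of the sections of the pullback. -/
theorem exists_extend {C : Type u} [CommRing C] (γ : Γ(Y', U') →+* C) (l : Γ(E, U) →+ C)
    (hl : ∀ (r : Γ(Y, U)) x, l (r • x) = γ (ψ.appLE U U' hle r) * l x) :
    ∃ l' : Γ((Scheme.Modules.pullback ψ).obj E, U') →+ C, (∀ r x, l' (r • x) = γ r * l' x) ∧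
      ∀ x : Γ(E, U), l' (res _ hle (Groth.Agent.Fdesc.LocGen.pullSec ψ x)) = l x := by
  let _ := secAlg ψ hle
  let _ := secModule ψ hle ((Scheme.Modules.pullback ψ).obj E)
  have := isScalarTower_sec ψ hle ((Scheme.Modules.pullback ψ).obj E)
  have hb := isBaseChange_pullSec ψ hle hU hU' E hE (Groth.Agent.FormalA.PullbackQC.isQCoh_pullback ψ E hE)
  let _ : Module Γ(Y', U') C := Module.compHom C γ
  let _ : Module Γ(Y, U) C := Module.compHom C (γ.comp (ψ.appLE U U' hle).hom)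
  have : IsScalarTower Γ(Y, U) Γ(Y', U') C := ⟨fun r a c => by
    rw [Algebra.smul_def]
    change γ ((ψ.appLE U U' hle).hom r * a) * c = γ ((ψ.appLE U U' hle).hom r) * (γ a * c)
    rw [map_mul, mul_assoc]⟩
  let lLin : Γ(E, U) →ₗ[Γ(Y, U)] C := { l with map_smul' := fun r x => hl r x }
  refine ⟨(hb.lift lLin).toAddMonoidHom, fun r x => ?_, fun x => ?_⟩
  · exact (hb.lift lLin).map_smul r x
  · exact hb.lift_eq lLin x

open Groth.Agent.Fdesc.PullbackSec in
theorem extend_ext {C : Type u} [CommRing C] (γ : Γ(Y', U') →+* C)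
    (l l' : Γ((Scheme.Modules.pullback ψ).obj E, U') →+ C)
    (hl : ∀ r x, l (r • x) = γ r * l x) (hl' : ∀ r x, l' (r • x) = γ r * l' x)
    (h : ∀ x : Γ(E, U), l (res _ hle (Groth.Agent.Fdesc.LocGen.pullSec ψ x)) =
      l' (res _ hle (Groth.Agent.Fdesc.LocGen.pullSec ψ x))) : l = l' := by
  let _ := secAlg ψ hle
  let _ := secModule ψ hle ((Scheme.Modules.pullback ψ).obj E)
  have := isScalarTower_sec ψ hle ((Scheme.Modules.pullback ψ).obj E)
  have hb := isBaseChange_pullSec ψ hle hU hU' E hE (Groth.Agent.FormalA.PullbackQC.isQCoh_pullback ψ E hE)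
  let _ : Module Γ(Y', U') C := Module.compHom C γ
  let _ : Module Γ(Y, U) C := Module.compHom C (γ.comp (ψ.appLE U U' hle).hom)
  have : IsScalarTower Γ(Y, U) Γ(Y', U') C := ⟨fun r a c => by
    rw [Algebra.smul_def]
    change γ ((ψ.appLE U U' hle).hom r * a) * c = γ ((ψ.appLE U U' hle).hom r) * (γ a * c)
    rw [map_mul, mul_assoc]⟩
  let l1 : Γ((Scheme.Modules.pullback ψ).obj E, U') →ₗ[Γ(Y', U')] C := { l with map_smul' := fun r x => hl r x }
  let l2 : Γ((Scheme.Modules.pullback ψ).obj E, U') →ₗ[Γ(Y', U')] C := { l' with map_smul' := fun r x => hl' r x }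
  have h12 : l1 = l2 := hb.algHom_ext l1 l2 h
  ext x
  exact congr($h12 x)

end bc

/-- **Base change of the symmetric algebra**, on an affine pair. -/
theorem isPushout (hE : Coh.IsQCoh E) (hj : IsGrSymAlg E 𝒮 j)
    (hj' : IsGrSymAlg ((Scheme.Modules.pullback ψ).obj E) 𝒮' j') (u : RelSpec.QHom ψ 𝒮.toQCAlg 𝒮'.toQCAlg)
    (hu : ∀ (U : Y.Opens), IsAffineOpen U → ∀ e : Γ(E, U), (u.app U).hom (jv j e) = lp ψ j' U e)
    (U : Y.Opens) (hU : IsAffineOpen U) (U' : Y'.Opens) (hU' : IsAffineOpen U') (hle : U' ≤ ψ ⁻¹ᵁ U) :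
    IsPushout (ψ.appLE U U' hle) (𝒮.str.app (op U)) (𝒮'.str.app (op U')) (u.appLE U U' hle) := by
  have hE' := Groth.Agent.FormalA.PullbackQC.isQCoh_pullback ψ E hE
  refine isPushout_of_sym (M := Γ(E, U)) (M' := Γ((Scheme.Modules.pullback ψ).obj E, U'))
    (ψ.appLE U U' hle) (𝒮.str.app (op U)) (𝒮'.str.app (op U')) (u.appLE U U' hle)
    (u.str_appLE U U' hle).symm (AddMonoidHom.mk' (jv j) (jv_add j)) (AddMonoidHom.mk' (jv j') (jv_add j'))
    (AddMonoidHom.mk' (fun x => res _ hle (pullSec ψ x)) (fun a b => by rw [pullSec_add, map_add]))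
    (fun r x => jv_smul j r x) ?_ ?_ ?_ ?_ ?_ ?_ (fun r x => jv_smul j' r x)
  · intro x
    change (𝒮'.presheaf.map (homOfLE hle).op).hom ((u.app U).hom (jv j x)) = jv j' (res _ hle (pullSec ψ x))
    rw [hu U hU, jv_res]
    rfl
  · intro C γ l hl
    exact K35.PE.exists_ringHom hE' hj' hU' C γ l hl
  · intro C f g h0 h1
    exact ringHom_ext hE hj hU h0 h1
  · intro C f g h0 h1
    exact ringHom_ext hE' hj' hU' h0 h1
  · intro C γ l hl
    exact exists_extend ψ hE hU hU' hle γ l hl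
  · intro C γ l l' hl hl' h
    exact extend_ext ψ hE hU hU' hle γ l l' hl hl' h

/-- **Base change of the graded symmetric algebra.** -/
theorem exists_isQBaseChange (hE : Coh.IsQCoh E) (hj : IsGrSymAlg E 𝒮 j)
    (hj' : IsGrSymAlg ((Scheme.Modules.pullback ψ).obj E) 𝒮' j') :
    ∃ u : QGrHom ψ 𝒮 𝒮', RelSpec.IsQBaseChange u.toQHom ∧ ∀ (U : Y.Opens), IsAffineOpen U → ∀ e : Γ(E, U),
      (u.app U).hom (jv j e) = lp ψ j' U e := by
  obtain ⟨u, hu⟩ := exists_qGrHom ψ j' hE hj hj'.2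
  exact ⟨u, isPushout ψ j' hE hj hj' u.toQHom hu, hu⟩

end K35.SymPull
end
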