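import Groth.Agent.EGA2.K35.PE
import Groth.Agent.EGA2.K35.SymPull
import Groth.Agent.EGA2.K35.RelProjMapExists
import Groth.Agent.EGA2.K37.GenOne
import Groth.Agent.EGA2.K37.ProjRing
import Groth.Agent.EGA2.K43.GrSym
import Groth.Agent.EGA2.K32.ProjVA
import Groth.Agent.EGA2.K34.ProjCrit

/-!
# A relative Proj is a closed subscheme of a projective bundle

`exists_isClosedImmersion`: for `𝒮` generated in degree one and `P = Proj(𝒮)`, `P` is a closed subscheme of `P(𝒮_1)`.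
-/

set_option autoImplicit false
universe u
open CategoryTheory CategoryTheory.Limits AlgebraicGeometry TopologicalSpace Opposite
open scoped HomogeneousIdeal

noncomputable section
namespace K35.ProjBundle
open K43.CanMap RelProj K43.Piece K35.RelProjExists K35.RelProjMap

variable {Y : Scheme.{u}}

/-- The homomorphism out of a graded symmetric algebra extending a map in degree one is graded. -/
theorem isGradedHom_of_degOne {E : Y.Modules} (hE : Coh.IsQCoh E) {𝒯 : QCGrAlg Y} {j : E ⟶ 𝒯.toModule}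
    (hj : IsGrSymAlg E 𝒯 j) {𝒮 : QCGrAlg Y} {k : E ⟶ 𝒮.toModule} (hk : DegOne k) (v : 𝒯.toQCAlg ⟶ 𝒮.toQCAlg)
    (hv : j ≫ RelSpec.QCAlg.Hom.toModuleMap v = k) : IsGradedHom v := by
  intro U hU d x hx
  refine K35.SymPull.map_mem_of_closure (Set.range (𝒯.str.app (op U)).hom) (Set.range (jv j (U := U))) ?_ ?_
    (K35.PE.gen hE hj U hU) (v.hom.app (op U)).hom ?_ ?_ hx
  · rintro _ ⟨r, rfl⟩
    exact 𝒯.str_mem U hU r
  · rintro _ ⟨e, rfl⟩
    exact hj.2 U hU e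
  · rintro _ ⟨r, rfl⟩
    have h1 : (v.hom.app (op U)).hom ((𝒯.str.app (op U)).hom r) = (𝒮.str.app (op U)).hom r :=
      congr(($(NatTrans.congr_app v.comm (op U))).hom r)
    rw [h1]
    exact 𝒮.str_mem U hU r
  · rintro _ ⟨e, rfl⟩
    have h1 : (v.hom.app (op U)).hom (jv j e) = jv k e := by rw [← hv]; rfl
    rw [h1]
    exact hk U hU e

theorem isGenDegOne {E : Y.Modules} (hE : Coh.IsQCoh E) {𝒯 : QCGrAlg Y} {j : E ⟶ 𝒯.toModule}
    (hj : IsGrSymAlg E 𝒯 j) : 𝒯.IsGenDegOne := by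
  intro U hU
  rw [eq_top_iff, ← K35.PE.gen hE hj U hU]
  apply Subring.closure_mono
  apply Set.union_subset_union
  · rintro _ ⟨r, rfl⟩
    exact 𝒯.str_mem U hU r
  · rintro _ ⟨e, rfl⟩
    exact hj.2 U hU e

/-- `Sym(𝒮_1) → 𝒮` is surjective in positive degrees. -/
theorem posSurj {𝒮 : QCGrAlg Y} (hgen : 𝒮.IsGenDegOne) {𝒯 : QCGrAlg Y} {j : piece 𝒮 1 ⟶ 𝒯.toModule}
    (hj : IsGrSymAlg (piece 𝒮 1) 𝒯 j) (v : 𝒯.toQCAlg ⟶ 𝒮.toQCAlg) (hv : IsGradedHom v)
    (hjv : j ≫ RelSpec.QCAlg.Hom.toModuleMap v = pieceι 𝒮 1) (U : Y.Opens) (hU : IsAffineOpen U) :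
    K37.ProjRing.PosSurj (gradedHomAt v hv U hU) := by
  intro i hi b hb
  have h1 := K37.GenOne.mem_pow (𝒜 := 𝒮.deg U hU) (hgen U hU) hi hb
  have h2 : K37.GenOne.one (𝒮.deg U hU) ≤
      (K37.GenOne.one (𝒯.deg U hU)).map (RingHom.toIntAlgHom (v.hom.app (op U)).hom).toLinearMap := by
    intro x hx
    obtain ⟨s, rfl⟩ := exists_pieceι 𝒮 1 hU (K37.GenOne.mem_one.mp hx)
    refine ⟨jv j s, K37.GenOne.mem_one.mpr (hj.2 U hU s), ?_⟩
    change (v.hom.app (op U)).hom (jv j s) = _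
    rw [← hjv]
    rfl
  have h3 := pow_le_pow_left' h2 i h1
  rw [← Submodule.map_pow] at h3
  obtain ⟨a, ha, rfl⟩ := h3
  exact ⟨a, K37.GenOne.pow_le i ha, rfl⟩

/-- The relative Proj of an algebra generated in degree one is a closed subscheme of the projective bundle of its
degree-one part. -/
theorem exists_isClosedImmersion {𝒮 : QCGrAlg Y} (hgen : 𝒮.IsGenDegOne) {P₀ : Scheme.{u}} {p₀ : P₀ ⟶ Y}
    {chart₀ : ∀ (U : Y.Opens) (hU : IsAffineOpen U), (((p₀ ⁻¹ᵁ U : P₀.Opens) : Scheme.{u}) ≅ Proj (𝒮.deg U hU))}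
    (hP₀ : IsRelProj 𝒮 p₀ chart₀) {𝒯 : QCGrAlg Y} {j : piece 𝒮 1 ⟶ 𝒯.toModule}
    (hj : IsGrSymAlg (piece 𝒮 1) 𝒯 j) {P : Scheme.{u}} {p : P ⟶ Y}
    {chart : ∀ (U : Y.Opens) (hU : IsAffineOpen U), (((p ⁻¹ᵁ U : P.Opens) : Scheme.{u}) ≅ Proj (𝒯.deg U hU))}
    (hP : IsRelProj 𝒯 p chart) : ∃ i : P₀ ⟶ P, IsClosedImmersion i ∧ i ≫ p = p₀ := by
  obtain ⟨v, hjv, -⟩ := hj.1 𝒮.toQCAlg (pieceι 𝒮 1)
  have hv : IsGradedHom v := isGradedHom_of_degOne (isQCoh_piece 𝒮 1) hj (fun U hU x => pieceι_mem 𝒮 1 hU x) v hjv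
  have hpos := posSurj hgen hj v hv hjv
  obtain ⟨i, hi, -⟩ := K35.RelProjMap.existsUnique (φ := v) (hφ := hv)
    (hirr := fun U hU => K37.ProjRing.irrelevant_le_map (hpos U hU)) hP hP₀
  exact ⟨i, of_map hi hP hP₀ @IsClosedImmersion fun U hU => K37.ProjRing.isClosedImmersion_map _ (hpos U hU),
    map_p hi hP hP₀⟩

/-- One half of S5729. -/
theorem of_isProjective {X : Scheme.{u}} (f : X ⟶ Y) (hf : IsProjective f) :
      ∃ (E : Y.Modules) (𝒯 : RelProj.QCGrAlg Y) (j : E ⟶ 𝒯.toModule) (P : Scheme.{u}) (p : P ⟶ Y)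
        (chart : ∀ (U : Y.Opens) (hU : IsAffineOpen U), ((p ⁻¹ᵁ U : P.Opens) : Scheme.{u}) ≅ Proj (𝒯.deg U hU))
        (i : X ⟶ P),
        Coh.IsQCoh E ∧ CohB1.IsFT E ∧ RelProj.IsGrSymAlg E 𝒯 j ∧ RelProj.IsRelProj 𝒯 p chart ∧
          IsClosedImmersion i ∧ i ≫ p = f := by
  obtain ⟨𝒮, P₀, p₀, chart₀, e, hgen, hft, hP₀, he⟩ := hf
  obtain ⟨𝒯, j, hj⟩ := K43.GrSym.exists_grSym (isQCoh_piece 𝒮 1)
  obtain ⟨i, hi, hip⟩ := exists_isClosedImmersion hgen hP₀ hj (K35.RelProjExists.isRelProj 𝒯)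
  exact ⟨piece 𝒮 1, 𝒯, j, _, _, _, e.hom ≫ i, isQCoh_piece 𝒮 1, isFT_piece 𝒮 1 hft, hj,
    K35.RelProjExists.isRelProj 𝒯, inferInstance, by rw [Category.assoc, hip, he]⟩

/-- The degree-one part is the image of `j`. -/
theorem exists_jv_eq {E : Y.Modules} {𝒯 : QCGrAlg Y} {j : E ⟶ 𝒯.toModule} (hj : DegOne j) {U : Y.Opens}
    (hU : IsAffineOpen U)
    (hgen : Subring.closure (Set.range (𝒯.str.app (op U)).hom ∪ Set.range (jv j (U := U))) = ⊤)
    {x : 𝒯.presheaf.obj (op U)} (hx : x ∈ 𝒯.deg U hU 1) : ∃ e : Γ(E, U), jv j e = x := by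
  let B : AddSubgroup (𝒯.presheaf.obj (op U)) :=
    { carrier := Set.range (jv j (U := U))
      zero_mem' := ⟨0, map_zero (Groth.Agent.CohqB.FiniteType2.appLinear j U)⟩
      add_mem' := by rintro _ _ ⟨a, rfl⟩ ⟨b, rfl⟩; exact ⟨a + b, jv_add j a b⟩
      neg_mem' := by rintro _ ⟨a, rfl⟩; exact ⟨-a, map_neg (Groth.Agent.CohqB.FiniteType2.appLinear j U) a⟩ }
  have h0 : ∀ c ∈ 𝒯.deg U hU 0, ∃ r, (𝒯.str.app (op U)).hom r = c := fun c hc =>
    exists_str_eq hU (by rintro _ ⟨t, rfl⟩; exact hj U hU t) hgen hc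
  have hmon : ∀ m ∈ Submonoid.closure (Set.range (𝒯.str.app (op U)).hom ∪ Set.range (jv j (U := U))),
      ∃ i, m ∈ 𝒯.deg U hU i ∧ (i = 1 → m ∈ B) := by
    intro m hm
    induction hm using Submonoid.closure_induction with
    | mem m hm =>
      rcases hm with ⟨r, rfl⟩ | ⟨e, rfl⟩
      · exact ⟨0, 𝒯.str_mem U hU r, by omega⟩
      · exact ⟨1, hj U hU e, fun _ => ⟨e, rfl⟩⟩
    | one => exact ⟨0, SetLike.GradedOne.one_mem, by omega⟩
    | mul a b _ _ ha hb =>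
      obtain ⟨i, ha, ha'⟩ := ha
      obtain ⟨k, hb, hb'⟩ := hb
      refine ⟨i + k, SetLike.mul_mem_graded ha hb, fun hik => ?_⟩
      rcases Nat.eq_zero_or_pos i with hi | hi
      · subst hi
        obtain ⟨r, rfl⟩ := h0 a ha
        obtain ⟨e, rfl⟩ := hb' (by omega)
        exact ⟨r • e, jv_smul j r e⟩
      · obtain rfl : k = 0 := by omega
        obtain ⟨r, rfl⟩ := h0 b hb
        obtain ⟨e, rfl⟩ := ha' (by omega)
        exact ⟨r • e, by rw [mul_comm]; exact jv_smul j r e⟩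
  have hadd : ∀ y ∈ AddSubgroup.closure (Submonoid.closure
      (Set.range (𝒯.str.app (op U)).hom ∪ Set.range (jv j (U := U))) : Set (𝒯.presheaf.obj (op U))),
      (DirectSum.decompose (𝒯.deg U hU) y 1 : 𝒯.presheaf.obj (op U)) ∈ B := by
    intro y hy
    induction hy using AddSubgroup.closure_induction with
    | mem m hm =>
      obtain ⟨i, hi, hi'⟩ := hmon m hm
      by_cases h : i = 1
      · subst h
        rw [DirectSum.decompose_of_mem_same _ hi]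
        exact hi' rfl
      · rw [DirectSum.decompose_of_mem_ne _ hi h]
        exact B.zero_mem
    | zero => rw [DirectSum.decompose_zero]; exact B.zero_mem
    | add a b _ _ ha hb => rw [DirectSum.decompose_add]; exact B.add_mem ha hb
    | neg a _ ha => rw [DirectSum.decompose_neg]; exact B.neg_mem ha
  have h1 := hadd x (by rw [← Subring.mem_closure_iff, hgen]; trivial)
  rwa [DirectSum.decompose_of_mem_same _ hx] at h1

/-- The degree-one part of the graded symmetric algebra of a module of finite type is of finite type. -/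
theorem isFTDeg_one {E : Y.Modules} (hE : Coh.IsQCoh E) (hE' : CohB1.IsFT E) {𝒯 : QCGrAlg Y} {j : E ⟶ 𝒯.toModule}
    (hj : IsGrSymAlg E 𝒯 j) : 𝒯.IsFTDeg 1 := by
  classical
  intro U hU
  have : Coh.IsQCoh E := hE
  obtain ⟨⟨s, hs⟩⟩ := Groth.Agent.CohqB.FiniteType2.finite_sections_of_isFT E hE' hU
  refine ⟨s.image (jv j), ?_, fun x hx => ?_⟩
  · intro x hx
    rw [Finset.coe_image] at hx
    obtain ⟨e, -, rfl⟩ := hx
    exact hj.2 U hU e
  · obtain ⟨e, rfl⟩ := exists_jv_eq hj.2 hU (K35.PE.gen hE hj U hU) hx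
    have h1 : e ∈ Submodule.span Γ(Y, U) (s : Set Γ(E, U)) := by rw [hs]; trivial
    rw [Submodule.mem_span_finset] at h1
    obtain ⟨c, -, rfl⟩ := h1
    have h2 : ∀ t : s, ∃ b, b ∈ s.image (jv j) := fun t => ⟨_, Finset.mem_image_of_mem _ t.2⟩
    refine ⟨fun y => ∑ t ∈ s with jv j t = y, c t, ?_⟩
    have h3 : jv j (∑ t ∈ s, c t • t) = ∑ t ∈ s, (𝒯.str.app (op U)).hom (c t) * jv j t := by
      refine (map_sum (Groth.Agent.CohqB.FiniteType2.appLinear j U) (fun t => c t • t) s).trans ?_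
      exact Finset.sum_congr rfl fun t _ => jv_smul j _ _
    rw [h3, ← Finset.sum_fiberwise_of_maps_to (s := s) (t := s.image (jv j)) (g := jv j)
      fun t ht => Finset.mem_image_of_mem _ ht]
    refine Finset.sum_congr rfl fun y _ => ?_
    rw [map_sum, Finset.sum_mul]
    refine Finset.sum_congr rfl fun t ht => ?_
    rw [(Finset.mem_filter.1 ht).2]

/-- A closed subscheme of the projective bundle of a module of finite type is projective (from `O(1)`). -/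
theorem isProjective_of_isClosedImmersion {E : Y.Modules} (hE : Coh.IsQCoh E) (hE' : CohB1.IsFT E) {𝒯 : QCGrAlg Y}
    {j : E ⟶ 𝒯.toModule} (hj : IsGrSymAlg E 𝒯 j) {P : Scheme.{u}} {p : P ⟶ Y}
    {chart : ∀ (U : Y.Opens) (hU : IsAffineOpen U), (((p ⁻¹ᵁ U : P.Opens) : Scheme.{u}) ≅ Proj (𝒯.deg U hU))}
    (hP : IsRelProj 𝒯 p chart) {X : Scheme.{u}} (i : X ⟶ P) [IsClosedImmersion i]
    (hT : Groth.Agent.EGA2.K32.ProjVA.TwistEx 𝒯 p chart) : IsProjective (i ≫ p) := by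
  have hp : IsProper p :=
    Groth.Agent.EGA2.K32.ProjProper.isProper_of_isRelProj hP (isGenDegOne hE hj) (isFTDeg_one hE hE' hj)
  have h1 := Groth.Agent.EGA2.K32.ProjVA.fva_of_isRelProj hP (isGenDegOne hE hj) (isFTDeg_one hE hE' hj) hT
  obtain ⟨L, F, φ, hL, hF, hF', hva⟩ := h1.pull (q₂ := i ≫ p) (a := i) (b := 𝟙 Y) (Category.comp_id _).symm
    (Groth.Agent.EGA2.K32.VAPull.immProd_of_isImmersion inferInstance)
  exact K34.ProjCrit.isProjective_of_va (i ≫ p) hL hF hF' φ hva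

end K35.ProjBundle
end
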