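import Groth.Agent.EGA2.K35.PE
import Groth.Agent.EGA2.K35.ProjBundle
import Groth.Agent.EGA2.K40.RelZero
import Groth.Agent.Ega2.Normal
import Groth.Agent.Ega2.TensGen
import Groth.Agent.Fdesc.LocGenGlue

/-!
# `P(E ⊗ L) ≅ P(E)` for `L` invertible
-/

set_option autoImplicit false
universe u
open CategoryTheory CategoryTheory.Limits AlgebraicGeometry TopologicalSpace Opposite
open scoped HomogeneousIdeal

noncomputable section
namespace K35.BunTens
open Groth.Agent.Fdesc.LocGen Groth.Agent.Ega2.Nv K43.VADef K42.VATens K35.Univ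

variable {Y P Q : Scheme.{u}}

/-- The unit `L ⟶ p_* p^* L`. -/
def unitH (p : P ⟶ Y) (L : Y.Modules) :
    L ⟶ (Scheme.Modules.pushforward p).obj ((Scheme.Modules.pullback p).obj L) :=
  (Scheme.Modules.pullbackPushforwardAdjunction p).unit.app L

theorem se_unitH (p : P ⟶ Y) (L : Y.Modules) {U : Y.Opens} (l : Γ(L, U)) : se p (unitH p L) l = pullSec p l := rfl

variable {p : P ⟶ Y} {E L : Y.Modules} {A : P.Modules} (φ : E ⟶ (Scheme.Modules.pushforward p).obj A)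

variable (L) in
/-- `E ⊗ L ⟶ p_* (A ⊗ p^* L)`. -/
def twH : CohB1.tensorMod E L ⟶
    (Scheme.Modules.pushforward p).obj (CohB1.tensorMod A ((Scheme.Modules.pullback p).obj L)) :=
  tensHom p φ (unitH p L)

theorem se_twH {U : Y.Opens} (e : Γ(E, U)) (l : Γ(L, U)) :
    se p (twH L φ) (tmul e l) = tmul (se p φ e) (pullSec p l) := se_tens p φ (unitH p L) e l

theorem nz_twH (hA : PicF.IsInvertible A) {U : Y.Opens} (e : Γ(E, U)) {l : Γ(L, U)} (hL : PicF.IsInvertible L)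
    (hl : IsGen l) : nz p (twH L φ) (tmul e l) = nz p φ e := by
  rw [nz, se_twH, nv_tmul (locGen_of_isInvertible hA _) (locGen_of_isInvertible (isInvertible_pullback p hL) _)]
  have h1 : nv ((Scheme.Modules.pullback p).obj L) (pullSec p l) = p ⁻¹ᵁ U :=
    le_antisymm (nv_le _ _) ((le_nv_iff _ _ le_rfl).mpr (by rw [res_refl]; exact hl.pullSec p))
  rw [h1]
  exact inf_eq_left.mpr (nz_le p φ e)

theorem exists_gen (hL : PicF.IsInvertible L) (y : Y) : ∃ (U : Y.Opens) (_ : IsAffineOpen U) (l : Γ(L, U)),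
    y ∈ U ∧ IsGen l := by
  obtain ⟨V, l, hy, hl⟩ := (isInvertible_iff L).mp hL y
  obtain ⟨U, hU, hyU, hle⟩ := exists_isAffineOpen_mem_and_subset (x := y) (U := V) hy
  exact ⟨U, hU, res L hle l, hyU, hl.res _⟩

theorem gn_twH (hA : PicF.IsInvertible A) (hL : PicF.IsInvertible L) (hφ : Gn p φ) : Gn p (twH L φ) := by
  intro x
  obtain ⟨V, hV, l, hx, hl⟩ := exists_gen hL (p x)
  obtain ⟨U, hU, hUV, e, he⟩ := hφ.exists_le x V hx
  exact ⟨U, tmul e (res L hUV l), by rw [nz_twH φ hA e hL (hl.res hUV)]; exact he⟩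

theorem exists_tmul {U : Y.Opens} {l : Γ(L, U)} (hl : IsGen l) (s : Γ(CohB1.tensorMod E L, U)) :
    ∃ t : Γ(E, U), tmul t l = s := by
  obtain ⟨t, ht⟩ := (tmul_right_bijective E hl (le_refl U)).2 s
  exact ⟨t, by rw [← ht, res_refl]⟩

theorem tmul_right_injective {M N : P.Modules} {U : P.Opens} {l : Γ(N, U)} (hl : IsGen l) {a b : Γ(M, U)}
    (h : tmul a l = tmul b l) : a = b :=
  (tmul_right_bijective M hl (le_refl U)).1 (by simpa only [res_refl] using h)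

theorem exists_cover {q : Q ⟶ Y} (hL : PicF.IsInvertible L) {B : Q.Modules}
    {θ : CohB1.tensorMod E L ⟶ (Scheme.Modules.pushforward q).obj B} (hθ : Gn q θ) (y : Q) :
    ∃ (U : Y.Opens) (_ : IsAffineOpen U) (l : Γ(L, U)) (_ : IsGen l) (e : Γ(E, U)), y ∈ nz q θ (tmul e l) := by
  obtain ⟨V, hV, l, hx, hl⟩ := exists_gen hL (q y)
  obtain ⟨U, hU, hUV, s, hs⟩ := hθ.exists_le y V hx
  obtain ⟨e, rfl⟩ := exists_tmul (hl.res hUV) s
  exact ⟨U, hU, _, hl.res hUV, e, hs⟩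

section iso

variable {φ} {q : Q ⟶ Y} {B : Q.Modules} {θ : CohB1.tensorMod E L ⟶ (Scheme.Modules.pushforward q).obj B}
  {i : P ⟶ Q} {hi : i ≫ q = p} (hc : Comp (twH L φ) θ i hi)

include hc in
/-- Ratios correspond. -/
theorem ratio_eq {U : Y.Opens} {l : Γ(L, U)} (hl : IsGen l) (e t : Γ(E, U)) (a : Γ(Q, nz q θ (tmul e l)))
    (ha : res B (nz_le q θ (tmul e l)) (se q θ (tmul t l)) =
      a • res B (nz_le q θ (tmul e l)) (se q θ (tmul e l))) (h : nz p φ e ≤ i ⁻¹ᵁ (nz q θ (tmul e l))) :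
    res A (nz_le p φ e) (se p φ t) = (ores h (i.app _ a)) • res A (nz_le p φ e) (se p φ e) := by
  obtain ⟨-, h2⟩ := hc _ _ (tmul e l) (tmul t l) _ (nz_le q θ (tmul e l)) (nz_le q θ (tmul e l)) a (isGen_nz q θ _) ha
  have h3 := congrArg (res _ h) h2
  rw [res_smul, res_res, res_res, se_twH, se_twH, res_tmul, res_tmul, ← smul_tmul] at h3
  exact tmul_right_injective ((hl.pullSec p).res (nz_le p φ e)) h3

include hc in
theorem bijective_app (hφ : IsUniv p φ) (hθ : IsUniv q θ) (hA : PicF.IsInvertible A) (hL : PicF.IsInvertible L)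
    {U : Y.Opens} (hU : IsAffineOpen U) {l : Γ(L, U)} (hl : IsGen l) (e : Γ(E, U)) :
    Function.Bijective (i.app (nz q θ (tmul e l))).hom := by
  have h : i ⁻¹ᵁ (nz q θ (tmul e l)) = nz p φ e := by
    rw [hc.preimage_nz hθ.gn, nz_twH φ hA e hL hl]
  have happ : ∀ a : Γ(Y, U), ores h.ge (i.app (nz q θ (tmul e l)) (ores (nz_le q θ (tmul e l)) (q.app U a))) =
      ores (nz_le p φ e) (p.app U a) := by
    intro a
    subst hi
    rw [app_ores, ores_ores]
    rfl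
  suffices H : Function.Bijective ((ores h.ge).comp (i.app (nz q θ (tmul e l))).hom) by
    refine ⟨fun a b hab => H.1 (congrArg (ores h.ge) hab), fun b => ?_⟩
    obtain ⟨a, ha⟩ := H.2 (ores h.ge b)
    refine ⟨a, ?_⟩
    have := congrArg (ores h.le) ha
    change ores h.le (ores h.ge _) = ores h.le (ores h.ge _) at this
    rwa [ores_ores, ores_ores, ores_refl, ores_refl] at this
  constructor
  · -- a left inverse
    choose l' hl' using fun t : Γ(E, U) => (isGen_nz q θ (tmul e l)).exists_eq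
      (res B (nz_le q θ (tmul e l)) (se q θ (tmul t l)))
    obtain ⟨ψ, hψ1, hψ2⟩ := hφ.lift hU e Γ(Q, nz q θ (tmul e l))
      ((ores (nz_le q θ (tmul e l))).comp (q.app U).hom) (AddMonoidHom.mk' l' (by
        intro t t'
        apply (isGen_nz q θ (tmul e l)).ext
        rw [← hl', add_tmul, se_add, map_add, add_smul, ← hl', ← hl'])) (by
        intro a t
        change l' (a • t) = _ * l' t
        apply (isGen_nz q θ (tmul e l)).ext
        rw [← hl', smul_tmul, se_smul, res_smul, mul_smul, ← hl']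
        rfl) (by
        change l' e = 1
        apply (isGen_nz q θ (tmul e l)).ext
        rw [← hl', one_smul])
    have key : ∀ a, ψ (ores h.ge (i.app (nz q θ (tmul e l)) a)) = a := by
      intro a
      have ha : a ∈ ratioRing q θ (tmul e l) := by rw [hθ.gen hU]; trivial
      revert a
      suffices ratioRing q θ (tmul e l) ≤
          (ψ.comp ((ores h.ge).comp (i.app (nz q θ (tmul e l))).hom)).eqLocus (RingHom.id _) from fun a ha => this ha
      rw [ratioRing, Subring.closure_le]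
      rintro a (⟨b, rfl⟩ | ⟨s, hs⟩)
      · change ψ (ores h.ge (i.app (nz q θ (tmul e l)) (ores (nz_le q θ (tmul e l)) (q.app U b)))) = _
        rw [happ]
        exact hψ1 b
      · obtain ⟨t, rfl⟩ := exists_tmul hl s
        change ψ (ores h.ge (i.app (nz q θ (tmul e l)) a)) = a
        rw [hψ2 t _ (ratio_eq hc hl e t a hs h.ge)]
        apply (isGen_nz q θ (tmul e l)).ext
        exact (hl' t).symm.trans hs
    intro a b hab
    rw [← key a, ← key b]
    exact congrArg ψ hab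
  · intro b
    have hb : b ∈ ratioRing p φ e := by rw [hφ.gen hU]; trivial
    revert b
    suffices ratioRing p φ e ≤ ((ores h.ge).comp (i.app (nz q θ (tmul e l))).hom).range from fun b hb => this hb
    rw [ratioRing, Subring.closure_le]
    rintro b (⟨a, rfl⟩ | ⟨t, ht⟩)
    · exact ⟨_, happ a⟩
    · obtain ⟨a, ha⟩ := (isGen_nz q θ (tmul e l)).exists_eq (res B (nz_le q θ (tmul e l)) (se q θ (tmul t l)))
      refine ⟨a, ?_⟩
      apply (isGen_nz p φ e).ext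
      exact (ratio_eq hc hl e t a ha h.ge).symm.trans ht

include hc in
/-- **The morphism between the projective bundles is an isomorphism.** -/
theorem isIso_of_comp (hφ : IsUniv p φ) (hθ : IsUniv q θ) (hA : PicF.IsInvertible A) (hL : PicF.IsInvertible L) :
    IsIso i := by
  have h1 : IsAffineHom i := by
    apply isAffineHom_of_forall_exists_isAffineOpen
    intro y
    obtain ⟨U, hU, l, hl, e, he⟩ := exists_cover hL hθ.gn y
    exact ⟨_, he, hθ.affine hU _, by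
      rw [hc.preimage_nz hθ.gn, nz_twH φ hA e hL hl]
      exact hφ.affine hU e⟩
  refine Groth.Agent.Ega2.Normal.isIso_of_bijective_app i fun y => ?_
  obtain ⟨U, hU, l, hl, e, he⟩ := exists_cover hL hθ.gn y
  exact ⟨_, he, hθ.affine hU _, bijective_app hc hφ hθ hA hL hU hl e⟩

end iso

open RelProj K43.CanMap

section rel

variable {𝒮 : QCGrAlg Y} {j : E ⟶ 𝒮.toModule} {𝒯 : QCGrAlg Y} {k : CohB1.tensorMod E L ⟶ 𝒯.toModule} {q : Q ⟶ Y}
  {chart : ∀ (U : Y.Opens) (hU : IsAffineOpen U), ((p ⁻¹ᵁ U : P.Opens) : Scheme.{u}) ≅ Proj (𝒮.deg U hU)}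
  {chartQ : ∀ (U : Y.Opens) (hU : IsAffineOpen U), ((q ⁻¹ᵁ U : Q.Opens) : Scheme.{u}) ≅ Proj (𝒯.deg U hU)}

/-- Uniqueness of `O_P(n)`, algebra generated in degree one. -/
theorem nonempty_iso_twist {𝒮 : QCGrAlg Y} (hgen : 𝒮.IsGenDegOne)
    {chart : ∀ (U : Y.Opens) (hU : IsAffineOpen U), ((p ⁻¹ᵁ U : P.Opens) : Scheme.{u}) ≅ Proj (𝒮.deg U hU)}
    (hP : IsRelProj 𝒮 p chart) {n : ℤ} {M M' : P.Modules}
    {lam : ∀ (U : Y.Opens) (hU : IsAffineOpen U),
      M ⟶ (Scheme.Modules.pushforward (emb p chart U hU)).obj (GrTwist.twist (𝒮.deg U hU) n)}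
    {lam' : ∀ (U : Y.Opens) (hU : IsAffineOpen U),
      M' ⟶ (Scheme.Modules.pushforward (emb p chart U hU)).obj (GrTwist.twist (𝒮.deg U hU) n)}
    (hM : IsRelTwist 𝒮 p chart n M lam) (hM' : IsRelTwist 𝒮 p chart n M' lam') : Nonempty (M ≅ M') := by
  obtain ⟨a⟩ := K40.RelMul.nonempty_iso_twist hP hgen (zero_add n) (K40.RelZero.isRelTwist_zero hP) hM hM'
  exact ⟨(Groth.Agent.Ega2.Tens.lunit M).symm ≪≫ a⟩

/-- `O_P(n)` exists for all `n ≥ 0`. -/
def Twists (𝒮 : QCGrAlg Y) (p : P ⟶ Y)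
    (chart : ∀ (U : Y.Opens) (hU : IsAffineOpen U), ((p ⁻¹ᵁ U : P.Opens) : Scheme.{u}) ≅ Proj (𝒮.deg U hU)) : Prop :=
  ∀ n : ℕ, ∃ (M : P.Modules) (lam : ∀ (U : Y.Opens) (hU : IsAffineOpen U),
      M ⟶ (Scheme.Modules.pushforward (emb p chart U hU)).obj (GrTwist.twist (𝒮.deg U hU) (n : ℤ))),
      IsRelTwist 𝒮 p chart (n : ℤ) M lam

theorem isInvertible_twist {𝒮 : QCGrAlg Y} (hgen : 𝒮.IsGenDegOne)
    {chart : ∀ (U : Y.Opens) (hU : IsAffineOpen U), ((p ⁻¹ᵁ U : P.Opens) : Scheme.{u}) ≅ Proj (𝒮.deg U hU)}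
    {n : ℤ} {M : P.Modules}
    {lam : ∀ (U : Y.Opens) (hU : IsAffineOpen U),
      M ⟶ (Scheme.Modules.pushforward (emb p chart U hU)).obj (GrTwist.twist (𝒮.deg U hU) n)}
    (hM : IsRelTwist 𝒮 p chart n M lam) : PicF.IsInvertible M := by
  rw [isInvertible_iff]
  intro x
  obtain ⟨U, hU, f, W, hxW, hWU, hW⟩ := K40.RelMul.exists_degOne (p := p) (chart := chart) hgen x
  obtain ⟨e, -, hg⟩ := K40.RelMul.exists_powFrac hM U hU f n (by simp) W hWU hW
  exact ⟨W, e, hxW, hg⟩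

open Groth.Agent.Ega3B.PullTensor Groth.Agent.Ega2.TensPow Groth.Agent.Ega2 in
/-- The twist relation. -/
theorem nonempty_iso (hgP : 𝒮.IsGenDegOne) (hgQ : 𝒯.IsGenDegOne) (hP : IsRelProj 𝒮 p chart)
    (hQ : IsRelProj 𝒯 q chartQ) (hTP : Twists 𝒮 p chart) (hTQ : Twists 𝒯 q chartQ) (hL : PicF.IsInvertible L)
    {A : P.Modules} {B : Q.Modules}
    {lamA : ∀ (U : Y.Opens) (hU : IsAffineOpen U),
      A ⟶ (Scheme.Modules.pushforward (emb p chart U hU)).obj (GrTwist.twist (𝒮.deg U hU) 1)}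
    {lamB : ∀ (U : Y.Opens) (hU : IsAffineOpen U),
      B ⟶ (Scheme.Modules.pushforward (emb q chartQ U hU)).obj (GrTwist.twist (𝒯.deg U hU) 1)}
    (hA : IsRelTwist 𝒮 p chart 1 A lamA) (hB : IsRelTwist 𝒯 q chartQ 1 B lamB) (i : P ⟶ Q)
    (τ : (Scheme.Modules.pullback i).obj B ≅ CohB1.tensorMod A ((Scheme.Modules.pullback p).obj L)) (n : ℕ) :
      ∀ (OP : P.Modules)
        (lamP : ∀ (U : Y.Opens) (hU : IsAffineOpen U),
          OP ⟶ (Scheme.Modules.pushforward (RelProj.emb p chart U hU)).obj (GrTwist.twist (𝒮.deg U hU) (n : ℤ)))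
        (OQ : Q.Modules)
        (lamQ : ∀ (U : Y.Opens) (hU : IsAffineOpen U),
          OQ ⟶ (Scheme.Modules.pushforward (RelProj.emb q chartQ U hU)).obj (GrTwist.twist (𝒯.deg U hU) (n : ℤ))),
        RelProj.IsRelTwist 𝒮 p chart (n : ℤ) OP lamP → RelProj.IsRelTwist 𝒯 q chartQ (n : ℤ) OQ lamQ →
          Nonempty ((Scheme.Modules.pullback i).obj OQ ≅
            CohB1.tensorMod OP ((Scheme.Modules.pullback p).obj (CohB1.tensorPow L n))) := by
  induction n with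
  | zero =>
    intro OP lamP OQ lamQ hOP hOQ
    obtain ⟨a⟩ := nonempty_iso_twist hgP hP hOP (K40.RelZero.isRelTwist_zero hP)
    obtain ⟨b⟩ := nonempty_iso_twist hgQ hQ hOQ (K40.RelZero.isRelTwist_zero hQ)
    obtain ⟨c⟩ := nonempty_pullUnitIso i
    obtain ⟨d⟩ := nonempty_pullUnitIso p
    exact ⟨(Scheme.Modules.pullback i).mapIso b ≪≫ c ≪≫ (Tens.runit _).symm ≪≫ Tens.mapTIso a.symm d.symm⟩
  | succ n ih =>
    intro OP lamP OQ lamQ hOP hOQ
    obtain ⟨MP, lMP, hMP⟩ := hTP n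
    obtain ⟨MQ, lMQ, hMQ⟩ := hTQ n
    obtain ⟨e⟩ := ih MP lMP MQ lMQ hMP hMQ
    obtain ⟨a⟩ := K40.RelMul.nonempty_iso_twist hP hgP (by push_cast; rfl) hMP hA hOP
    obtain ⟨b⟩ := K40.RelMul.nonempty_iso_twist hQ hgQ (by push_cast; rfl) hMQ hB hOQ
    exact ⟨(Scheme.Modules.pullback i).mapIso b.symm ≪≫
      pullTensorIso i (isInvertible_twist hgQ hMQ) (isInvertible_twist hgQ hB) ≪≫ Tens.mapTIso e τ ≪≫
      inter _ _ _ _ ≪≫ Tens.mapTIso a (pullTensorIso p (isInvertible_tensorPow hL n) hL).symm⟩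

end rel

/-- **`P(E ⊗ L) ≅ P(E)`**, from the existence of the twisting sheaves. -/
theorem main {E : Y.Modules} (hE : Coh.IsQCoh E)
    {L : Y.Modules} (hL : PicF.IsInvertible L)
    {𝒮 : RelProj.QCGrAlg Y} {j : E ⟶ 𝒮.toModule} (hj : RelProj.IsGrSymAlg E 𝒮 j)
    {𝒯 : RelProj.QCGrAlg Y} {k : CohB1.tensorMod E L ⟶ 𝒯.toModule} (hk : RelProj.IsGrSymAlg (CohB1.tensorMod E L) 𝒯 k)
    {p : P ⟶ Y}
    {chart : ∀ (U : Y.Opens) (hU : IsAffineOpen U), ((p ⁻¹ᵁ U : P.Opens) : Scheme.{u}) ≅ Proj (𝒮.deg U hU)}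
    (hP : RelProj.IsRelProj 𝒮 p chart) {q : Q ⟶ Y}
    {chartQ : ∀ (U : Y.Opens) (hU : IsAffineOpen U), ((q ⁻¹ᵁ U : Q.Opens) : Scheme.{u}) ≅ Proj (𝒯.deg U hU)}
    (hQ : RelProj.IsRelProj 𝒯 q chartQ) (hTP : Twists 𝒮 p chart) (hTQ : Twists 𝒯 q chartQ) :
    ∃ i : P ≅ Q, i.hom ≫ q = p ∧
      ∀ (n : ℕ) (OP : P.Modules)
        (lamP : ∀ (U : Y.Opens) (hU : IsAffineOpen U),
          OP ⟶ (Scheme.Modules.pushforward (RelProj.emb p chart U hU)).obj (GrTwist.twist (𝒮.deg U hU) (n : ℤ)))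
        (OQ : Q.Modules)
        (lamQ : ∀ (U : Y.Opens) (hU : IsAffineOpen U),
          OQ ⟶ (Scheme.Modules.pushforward (RelProj.emb q chartQ U hU)).obj (GrTwist.twist (𝒯.deg U hU) (n : ℤ))),
        RelProj.IsRelTwist 𝒮 p chart (n : ℤ) OP lamP → RelProj.IsRelTwist 𝒯 q chartQ (n : ℤ) OQ lamQ →
          Nonempty ((Scheme.Modules.pullback i.hom).obj OQ ≅
            CohB1.tensorMod OP ((Scheme.Modules.pullback p).obj (CohB1.tensorPow L n))) := by
  have hEL : Coh.IsQCoh (CohB1.tensorMod E L) := Groth.Agent.Ega2.TensGen.isQCoh_tensor hE hL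
  have hgP := K35.ProjBundle.isGenDegOne hE hj
  have hgQ := K35.ProjBundle.isGenDegOne hEL hk
  obtain ⟨A, lamA, hA⟩ := hTP 1
  obtain ⟨B, lamB, hB⟩ := hTQ 1
  have hφ := K35.PE.isUniv_canMap hP hA hE hj
  have hθ := K35.PE.isUniv_canMap hQ hB hEL hk
  have hAi : PicF.IsInvertible A := isInvertible_twist hgP hA
  obtain ⟨i, hi, hc⟩ := exists_comp hθ hEL (gn_twH _ hAi hL hφ.gn)
  have h1 : IsIso i := isIso_of_comp hc hφ hθ hAi hL
  refine ⟨asIso i, hi, ?_⟩
  subst hi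
  obtain ⟨τ, -⟩ := K35.UnivIso.exists_iso_of_comp hθ.gn hc
  exact nonempty_iso hgP hgQ hP hQ hTP hTQ hL hA hB i τ

end K35.BunTens
end
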