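import Groth.Agent.EGA2.K35.RelProjBasic
import Groth.Agent.Sga5.ProjSurj
import Mathlib.AlgebraicGeometry.Morphisms.ClosedImmersion

/-!
# Morphisms of relative homogeneous spectra induced by graded homomorphisms

For `hh : IsRelProjMap φ hφ hirr chartA chartB h`:
* `emb_map : emb pB chartB U hU ≫ h = Proj.map (φ(U)) ≫ emb pA chartA U hU`;
* `map_p : h ≫ pA = pB`; `isPullback_emb_map`: the square of the charts over `U` is cartesian;
* `of_map`: a property local at the target holds for `h` if it holds for all `Proj.map (φ(U))`.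
-/

set_option autoImplicit false
universe u

open CategoryTheory CategoryTheory.Limits AlgebraicGeometry TopologicalSpace Opposite
open scoped HomogeneousIdeal

noncomputable section

namespace K35.RelProjMap

open K35.ProjZero K35.ProjPull K35.RelProjExists K35.RelProjBasic RelProj

variable {S PA PB : Scheme.{u}} {𝒜 ℬ : RelProj.QCGrAlg S}
    {φ : 𝒜.toQCAlg ⟶ ℬ.toQCAlg} {hφ : RelProj.IsGradedHom φ}
    {hirr : ∀ (U : S.Opens) (hU : IsAffineOpen U),
      (ℬ.deg U hU)₊ ≤ ((𝒜.deg U hU)₊).map (RelProj.gradedHomAt φ hφ U hU)}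
    {pA : PA ⟶ S} {pB : PB ⟶ S}
    {chartA : ∀ (U : S.Opens) (hU : IsAffineOpen U), (((pA ⁻¹ᵁ U : PA.Opens) : Scheme.{u}) ≅ Proj (𝒜.deg U hU))}
    {chartB : ∀ (U : S.Opens) (hU : IsAffineOpen U), (((pB ⁻¹ᵁ U : PB.Opens) : Scheme.{u}) ≅ Proj (ℬ.deg U hU))}

/-- The structure maps are compatible with `φ` over each affine open. -/
theorem gradedHomAt_strZero (U : S.Opens) (hU : IsAffineOpen U) (r : Γ(S, U)) :
    (((ℬ.strZero U hU).hom r : ℬ.deg U hU 0) : ℬ.presheaf.obj (op U)) =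
      gradedHomAt φ hφ U hU (((𝒜.strZero U hU).hom r : 𝒜.deg U hU 0) : 𝒜.presheaf.obj (op U)) := by
  have h := NatTrans.congr_app φ.comm (op U)
  change (ℬ.str.app (op U)).hom r = (φ.hom.app (op U)).hom ((𝒜.str.app (op U)).hom r)
  rw [← h]
  rfl

theorem map_toSpecO (U : S.Opens) (hU : IsAffineOpen U) :
    Proj.map (gradedHomAt φ hφ U hU) (hirr U hU) ≫ toSpecO 𝒜 U hU = toSpecO ℬ U hU := by
  have h := map_toSpecZero_comp (gradedHomAt φ hφ U hU) (hirr U hU) (𝒜.strZero U hU) (ℬ.strZero U hU) (𝟙 _)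
    (fun r => gradedHomAt_strZero U hU r)
  rwa [Spec.map_id, Category.comp_id] at h

theorem map_toOpen (U : S.Opens) (hU : IsAffineOpen U) :
    Proj.map (gradedHomAt φ hφ U hU) (hirr U hU) ≫ toOpen 𝒜 U hU = toOpen ℬ U hU := by
  rw [toOpen, toOpen, ← Category.assoc, map_toSpecO]

variable {h : PB ⟶ PA} (hh : IsRelProjMap φ hφ hirr chartA chartB h)

include hh

@[reassoc]
theorem emb_map (U : S.Opens) (hU : IsAffineOpen U) :
    emb pB chartB U hU ≫ h = Proj.map (gradedHomAt φ hφ U hU) (hirr U hU) ≫ emb pA chartA U hU := by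
  rw [emb_eq, Category.assoc, hh U hU, Iso.inv_hom_id_assoc]
  rfl

variable (hA : IsRelProj 𝒜 pA chartA) (hB : IsRelProj ℬ pB chartB)

include hA hB

@[reassoc]
theorem map_p : h ≫ pA = pB := by
  refine (PB.openCoverOfIsOpenCover (fun U : S.affineOpens => pB ⁻¹ᵁ U.1) ?_).hom_ext _ _ fun U => ?_
  · rw [TopologicalSpace.IsOpenCover, ← Scheme.Hom.preimage_iSup, iSup_affineOpens_eq_top]
    rfl
  · change (pB ⁻¹ᵁ U.1).ι ≫ h ≫ pA = (pB ⁻¹ᵁ U.1).ι ≫ pB
    have h1 : (pB ⁻¹ᵁ U.1).ι = (chartB U.1 U.2).hom ≫ emb pB chartB U.1 U.2 := (chart_hom_emb U.1 U.2).symm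
    rw [h1, Category.assoc, emb_map_assoc hh, emb_p hA, Category.assoc, emb_p hB]
    congr 1
    have h2 := map_toSpecO (hφ := hφ) (hirr := hirr) U.1 U.2
    unfold toSpecO at h2
    rw [reassoc_of% h2]

theorem isPullback_emb_map (U : S.Opens) (hU : IsAffineOpen U) :
    IsPullback (emb pB chartB U hU) (Proj.map (gradedHomAt φ hφ U hU) (hirr U hU)) h (emb pA chartA U hU) := by
  refine (IsOpenImmersion.isPullback _ (emb pB chartB U hU) (emb pA chartA U hU) h ?_ ?_).flip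
  · rw [emb_map hh]
  · rw [opensRange_emb, opensRange_emb, ← Scheme.Hom.comp_preimage, map_p hh hA hB]

theorem of_map (Q : MorphismProperty Scheme.{u}) [IsZariskiLocalAtTarget Q]
    (H : ∀ (U : S.Opens) (hU : IsAffineOpen U), Q (Proj.map (gradedHomAt φ hφ U hU) (hirr U hU))) : Q h := by
  refine (IsZariskiLocalAtTarget.iff_of_openCover (P := Q) (PA.openCoverOfIsOpenCover
    (fun U : S.affineOpens => pA ⁻¹ᵁ U.1) ?_)).mpr fun U => ?_
  · rw [TopologicalSpace.IsOpenCover, ← Scheme.Hom.preimage_iSup, iSup_affineOpens_eq_top]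
    rfl
  · change Q (pullback.snd h (pA ⁻¹ᵁ U.1).ι)
    have h1 := isPullback_emb_map hh hA hB U.1 U.2
    have h2 : IsPullback (emb pB chartB U.1 U.2)
        (Proj.map (gradedHomAt φ hφ U.1 U.2) (hirr U.1 U.2) ≫ (chartA U.1 U.2).inv) h (pA ⁻¹ᵁ U.1).ι := by
      refine IsPullback.of_iso h1 (Iso.refl _) (Iso.refl _) (chartA U.1 U.2).symm (Iso.refl _) ?_ ?_ ?_ ?_
      · simp
      · simp
      · simp
      · simp [emb_eq]
    have h3 : pullback.snd h (pA ⁻¹ᵁ U.1).ι = h2.isoPullback.inv ≫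
        (Proj.map (gradedHomAt φ hφ U.1 U.2) (hirr U.1 U.2) ≫ (chartA U.1 U.2).inv) := by
      rw [IsPullback.isoPullback_inv_snd]
    rw [h3, MorphismProperty.cancel_left_of_respectsIso (P := Q), MorphismProperty.cancel_right_of_respectsIso (P := Q)]
    exact H U.1 U.2

end K35.RelProjMap

end
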