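import Groth.Agent.EGA2.K35.PE
import Groth.Agent.EGA2.K35.RelProjMap
import Groth.Agent.Variety.K429.LinEmb
import Groth.Agent.PerfB.ResolQC

/-!
# `P(E) ⨿ P(F) ⟶ P(E ⊕ F)` is a closed immersion
-/

set_option autoImplicit false
universe u
open CategoryTheory CategoryTheory.Limits AlgebraicGeometry TopologicalSpace Opposite
open scoped HomogeneousIdeal

noncomputable section
namespace K35.CoprodPE
open K43.CanMap RelProj K35.RelProjMap K35.RelProjBasic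

section ring

variable {A B σ τ : Type u} [CommRing A] [SetLike σ A] [AddSubgroupClass σ A]
  [CommRing B] [SetLike τ B] [AddSubgroupClass τ B]
  {𝒜 : ℕ → σ} {ℬ : ℕ → τ} [GradedRing 𝒜] [GradedRing ℬ] (f : 𝒜 →+*ᵍ ℬ)

/-- A surjective homomorphism of graded rings is surjective in each degree. -/
theorem degSurj_of_surjective (h : Function.Surjective f) : Groth.Agent.Sga5.ProjSurj.DegSurj f := by
  classical
  intro i b hb
  obtain ⟨a, rfl⟩ := h b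
  have key : ∀ a : A, f (GradedRing.proj 𝒜 i a) = GradedRing.proj ℬ i (f a) := by
    intro a
    induction a using DirectSum.Decomposition.inductionOn 𝒜 with
    | zero => simp only [map_zero]
    | @homogeneous k m =>
      rw [GradedRing.proj_apply, GradedRing.proj_apply]
      have hm : f (m : A) ∈ ℬ k := f.2 m.2
      by_cases hk : k = i
      · subst hk
        rw [DirectSum.decompose_of_mem_same 𝒜 m.2, DirectSum.decompose_of_mem_same ℬ hm]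
      · rw [DirectSum.decompose_of_mem_ne 𝒜 m.2 hk, DirectSum.decompose_of_mem_ne ℬ hm hk, map_zero]
    | add x y hx hy => rw [map_add, map_add, map_add, map_add, hx, hy]
  refine ⟨GradedRing.proj 𝒜 i a, ?_, ?_⟩
  · rw [GradedRing.proj_apply]
    exact SetLike.coe_mem _
  · rw [key, GradedRing.proj_apply, DirectSum.decompose_of_mem_same ℬ hb]

end ring

variable {Y : Scheme.{u}}

/-- A homomorphism onto the symmetric algebra of `E` is surjective over the affine opens when `E` is in the image. -/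
theorem surjective_app {E F : Y.Modules} (hE : Coh.IsQCoh E) {𝒮E 𝒮 : QCGrAlg Y} {jE : E ⟶ 𝒮E.toModule}
    (hjE : IsGrSymAlg E 𝒮E jE) {j : F ⟶ 𝒮.toModule} (π : 𝒮.toQCAlg ⟶ 𝒮E.toQCAlg) (q : F ⟶ E) (i : E ⟶ F)
    (hi : i ≫ q = 𝟙 E) (hπ : j ≫ RelSpec.QCAlg.Hom.toModuleMap π = q ≫ jE) (U : Y.Opens) (hU : IsAffineOpen U) :
    Function.Surjective (π.hom.app (op U)).hom := by
  rw [← RingHom.range_eq_top, eq_top_iff, ← K35.PE.gen hE hjE U hU, Subring.closure_le]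
  rintro _ (⟨r, rfl⟩ | ⟨x, rfl⟩)
  · exact ⟨(𝒮.str.app (op U)).hom r, congr(($(NatTrans.congr_app π.comm (op U))).hom r)⟩
  · refine ⟨jv j (i.app U x), ?_⟩
    have h1 : (π.hom.app (op U)).hom (jv j (i.app U x)) = ((j ≫ RelSpec.QCAlg.Hom.toModuleMap π).app U) (i.app U x) := rfl
    rw [h1, hπ]
    change jE.app U ((i ≫ q).app U x) = _
    rw [hi]
    rfl

/-- The morphism of projective bundles induced by a split surjection is a closed immersion. -/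
theorem isClosedImmersion {PE P : Scheme.{u}} {𝒮E 𝒮 : QCGrAlg Y}
    {p : P ⟶ Y} {pE : PE ⟶ Y}
    {chart : ∀ (U : Y.Opens) (hU : IsAffineOpen U), ((p ⁻¹ᵁ U : P.Opens) : Scheme.{u}) ≅ Proj (𝒮.deg U hU)}
    {chartE : ∀ (U : Y.Opens) (hU : IsAffineOpen U), ((pE ⁻¹ᵁ U : PE.Opens) : Scheme.{u}) ≅ Proj (𝒮E.deg U hU)}
    {πE : 𝒮.toQCAlg ⟶ 𝒮E.toQCAlg} {hπE : IsGradedHom πE}
    {hirrE : ∀ (U : Y.Opens) (hU : IsAffineOpen U),
      (𝒮E.deg U hU)₊ ≤ ((𝒮.deg U hU)₊).map (RelProj.gradedHomAt πE hπE U hU)}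
    (hP : IsRelProj 𝒮 p chart) (hPE : IsRelProj 𝒮E pE chartE) {hE' : PE ⟶ P}
    (hhE : IsRelProjMap πE hπE hirrE chart chartE hE')
    (hs : ∀ (U : Y.Opens), IsAffineOpen U → Function.Surjective (πE.hom.app (op U)).hom) : IsClosedImmersion hE' :=
  of_map hhE hP hPE @IsClosedImmersion fun U hU =>
    Groth.Agent.Sga5.ProjSurj.isClosedImmersion_map _ (degSurj_of_surjective _ (hs U hU))

/-- Points of the image of `P(E)`: elements killed by `πE` vanish there. -/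
theorem mem_of_killed {PE P : Scheme.{u}} {𝒮E 𝒮 : QCGrAlg Y}
    {p : P ⟶ Y} {pE : PE ⟶ Y}
    {chart : ∀ (U : Y.Opens) (hU : IsAffineOpen U), ((p ⁻¹ᵁ U : P.Opens) : Scheme.{u}) ≅ Proj (𝒮.deg U hU)}
    {chartE : ∀ (U : Y.Opens) (hU : IsAffineOpen U), ((pE ⁻¹ᵁ U : PE.Opens) : Scheme.{u}) ≅ Proj (𝒮E.deg U hU)}
    {πE : 𝒮.toQCAlg ⟶ 𝒮E.toQCAlg} {hπE : IsGradedHom πE}
    {hirrE : ∀ (U : Y.Opens) (hU : IsAffineOpen U),
      (𝒮E.deg U hU)₊ ≤ ((𝒮.deg U hU)₊).map (RelProj.gradedHomAt πE hπE U hU)}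
    (hP : IsRelProj 𝒮 p chart) (hPE : IsRelProj 𝒮E pE chartE) {hE' : PE ⟶ P}
    (hhE : IsRelProjMap πE hπE hirrE chart chartE hE') {U : Y.Opens} (hU : IsAffineOpen U)
    (w : Proj (𝒮.deg U hU)) (hw : emb p chart U hU w ∈ Set.range hE') (x : 𝒮.presheaf.obj (op U))
    (hx : (πE.hom.app (op U)).hom x = 0) : x ∈ (show ProjectiveSpectrum (𝒮.deg U hU) from w).asHomogeneousIdeal := by
  obtain ⟨a, ha⟩ := hw
  have haU : a ∈ pE ⁻¹ᵁ U := by
    have h1 : emb p chart U hU w ∈ p ⁻¹ᵁ U := by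
      rw [← opensRange_emb (chart := chart) U hU]
      exact ⟨w, rfl⟩
    rw [← ha] at h1
    have h2 := map_p hhE hP hPE
    rw [← h2]
    exact h1
  rw [← opensRange_emb (chart := chartE) U hU] at haU
  obtain ⟨y, rfl⟩ := haU
  have h3 : emb p chart U hU (Proj.map (gradedHomAt πE hπE U hU) (hirrE U hU) y) = emb p chart U hU w := by
    rw [← ha]
    exact congrArg (fun k : Proj (𝒮E.deg U hU) ⟶ P => k y) (emb_map hhE U hU).symm
  have h4 := (emb p chart U hU).isOpenEmbedding.injective h3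
  rw [← h4]
  change (πE.hom.app (op U)).hom x ∈ (show ProjectiveSpectrum (𝒮E.deg U hU) from y).asHomogeneousIdeal
  rw [hx]
  exact zero_mem _

theorem main {PE PF P : Scheme.{u}} (E F : Y.Modules)
    (hE : Coh.IsQCoh E) (hF : Coh.IsQCoh F) (𝒮E 𝒮F 𝒮 : RelProj.QCGrAlg Y)
    (jE : E ⟶ 𝒮E.toModule) (hjE : RelProj.IsGrSymAlg E 𝒮E jE)
    (jF : F ⟶ 𝒮F.toModule) (hjF : RelProj.IsGrSymAlg F 𝒮F jF)
    (j : E ⊞ F ⟶ 𝒮.toModule) (hj : RelProj.IsGrSymAlg (E ⊞ F) 𝒮 j)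
    (πE : 𝒮.toQCAlg ⟶ 𝒮E.toQCAlg) (hπE : RelProj.IsGradedHom πE)
    (hjπE : j ≫ RelSpec.QCAlg.Hom.toModuleMap πE = biprod.fst ≫ jE)
    (πF : 𝒮.toQCAlg ⟶ 𝒮F.toQCAlg) (hπF : RelProj.IsGradedHom πF)
    (hjπF : j ≫ RelSpec.QCAlg.Hom.toModuleMap πF = biprod.snd ≫ jF)
    (hirrE : ∀ (U : Y.Opens) (hU : IsAffineOpen U),
      (𝒮E.deg U hU)₊ ≤ ((𝒮.deg U hU)₊).map (RelProj.gradedHomAt πE hπE U hU))
    (hirrF : ∀ (U : Y.Opens) (hU : IsAffineOpen U),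
      (𝒮F.deg U hU)₊ ≤ ((𝒮.deg U hU)₊).map (RelProj.gradedHomAt πF hπF U hU))
    (p : P ⟶ Y) (pE : PE ⟶ Y) (pF : PF ⟶ Y)
    (chart : ∀ (U : Y.Opens) (hU : IsAffineOpen U), ((p ⁻¹ᵁ U : P.Opens) : Scheme.{u}) ≅ Proj (𝒮.deg U hU))
    (chartE : ∀ (U : Y.Opens) (hU : IsAffineOpen U), ((pE ⁻¹ᵁ U : PE.Opens) : Scheme.{u}) ≅ Proj (𝒮E.deg U hU))
    (chartF : ∀ (U : Y.Opens) (hU : IsAffineOpen U), ((pF ⁻¹ᵁ U : PF.Opens) : Scheme.{u}) ≅ Proj (𝒮F.deg U hU))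
    (hP : RelProj.IsRelProj 𝒮 p chart) (hPE : RelProj.IsRelProj 𝒮E pE chartE) (hPF : RelProj.IsRelProj 𝒮F pF chartF)
    (hE' : PE ⟶ P) (hhE : RelProj.IsRelProjMap πE hπE hirrE chart chartE hE')
    (hF' : PF ⟶ P) (hhF : RelProj.IsRelProjMap πF hπF hirrF chart chartF hF') :
    IsClosedImmersion (coprod.desc hE' hF') := by
  have h1 : IsClosedImmersion hE' := isClosedImmersion hP hPE hhE fun U hU =>
    surjective_app hE hjE πE biprod.fst biprod.inl biprod.inl_fst hjπE U hU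
  have h2 : IsClosedImmersion hF' := isClosedImmersion hP hPF hhF fun U hU =>
    surjective_app hF hjF πF biprod.snd biprod.inr biprod.inr_snd hjπF U hU
  apply K429.LinEmb.isClosedImmersion_coprodDesc
  rw [Set.disjoint_left]
  rintro z hzE hzF
  obtain ⟨U, hU, hzU, -⟩ := exists_isAffineOpen_mem_and_subset (x := p z) (U := ⊤) trivial
  have hzU' : z ∈ (emb p chart U hU).opensRange := by
    rw [opensRange_emb]
    exact hzU
  obtain ⟨w, rfl⟩ := hzU'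
  obtain ⟨x, hx⟩ := (K35.PE.pack (Groth.Agent.PerfB.ResolQC.isQCoh_biprod hE hF) hj).exists_notMem hU w
  have hsum : x = (biprod.fst ≫ biprod.inl : E ⊞ F ⟶ E ⊞ F).app U x + (biprod.snd ≫ biprod.inr : E ⊞ F ⟶ E ⊞ F).app U x := by
    have h3 : (biprod.fst ≫ biprod.inl + biprod.snd ≫ biprod.inr : E ⊞ F ⟶ E ⊞ F) = 𝟙 _ := biprod.total
    have h4 := congrArg (fun k : E ⊞ F ⟶ E ⊞ F => k.app U x) h3
    exact h4.symm
  apply hx
  rw [hsum, jv_add]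
  have key : ∀ {𝒮G : QCGrAlg Y} {G : Y.Modules} {jG : G ⟶ 𝒮G.toModule} (π : 𝒮.toQCAlg ⟶ 𝒮G.toQCAlg) (q : E ⊞ F ⟶ G)
      (hπ : j ≫ RelSpec.QCAlg.Hom.toModuleMap π = q ≫ jG) (k : E ⊞ F ⟶ E ⊞ F) (hk : k ≫ q = 0),
      (π.hom.app (op U)).hom (jv j (k.app U x)) = 0 := by
    intro 𝒮G G jG π q hπ k hk
    have h5 : (π.hom.app (op U)).hom (jv j (k.app U x)) = ((k ≫ j ≫ RelSpec.QCAlg.Hom.toModuleMap π).app U) x := rfl
    rw [h5, hπ, ← Category.assoc, hk, zero_comp]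
    rfl
  refine add_mem ?_ ?_
  · exact mem_of_killed hP hPF hhF hU w hzF _ (key πF biprod.snd hjπF _ (by simp))
  · exact mem_of_killed hP hPE hhE hU w hzE _ (key πE biprod.fst hjπE _ (by simp))

end K35.CoprodPE
end
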