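import Groth.Agent.EGA2.K42.VATens
import Groth.Agent.PerfB.ModExact

/-!
# `p^* E ⟶ L` is an epimorphism when `L` is generated by the sections coming from `E`
-/

set_option autoImplicit false
universe u
open CategoryTheory CategoryTheory.Limits AlgebraicGeometry TopologicalSpace Opposite

noncomputable section
namespace K35.EpiGn
open Groth.Agent.Fdesc.LocGen Groth.Agent.Ega2.Nv K43.VADef K42.VATens

variable {X Y : Scheme.{u}} (q : X ⟶ Y) {E : Y.Modules} {L : X.Modules}
  (φ : E ⟶ (Scheme.Modules.pushforward q).obj L)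

/-- The adjoint of `φ` on pulled back sections. -/
theorem symm_app_pullSec {U : Y.Opens} (t : Γ(E, U)) :
    (((Scheme.Modules.pullbackPushforwardAdjunction q).homEquiv E L).symm φ).app (q ⁻¹ᵁ U) (pullSec q t) =
      se q φ t := by
  have h1 := homEquiv_app q (((Scheme.Modules.pullbackPushforwardAdjunction q).homEquiv E L).symm φ) t
  rw [Equiv.apply_symm_apply] at h1
  exact h1.symm

variable {q φ} in
theorem epi_of_gn (h : Gn q φ) :
    Epi (((Scheme.Modules.pullbackPushforwardAdjunction q).homEquiv E L).symm φ) := by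
  refine Groth.Agent.PerfB.ModExact.epi_of_locally_surjective _ fun U y x hx => ?_
  obtain ⟨V, s, hs⟩ := h x
  have hle : U ⊓ nz q φ s ≤ q ⁻¹ᵁ V := inf_le_right.trans (nz_le q φ s)
  have hg : IsGen (res L hle (se q φ s)) := (le_nv_iff L _ hle).1 inf_le_right
  obtain ⟨a, ha⟩ := hg.exists_eq (res L inf_le_left y)
  refine ⟨U ⊓ nz q φ s, inf_le_left, ⟨hx, hs⟩, a • res _ hle (pullSec q s), ?_⟩
  rw [Scheme.Modules.Hom.app_smul, app_res, symm_app_pullSec]
  exact ha.symm

end K35.EpiGn
end
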