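import Groth.Agent.EGA2.K35.RelProjBasic
import Groth.Agent.S3557

/-!
# Integral relative homogeneous spectra
-/

set_option autoImplicit false
universe u

open CategoryTheory CategoryTheory.Limits AlgebraicGeometry TopologicalSpace Opposite
open scoped HomogeneousIdeal

noncomputable section

namespace K35.RelProjInt

open K35.Regrade K35.ProjZero K35.ProjPull K35.RelProjExists K35.RelProjBasic RelProj

section ring

variable {A σ : Type u} [CommRing A] [SetLike σ A] [AddSubgroupClass σ A] (𝒜 : ℕ → σ) [GradedRing 𝒜]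

theorem algebraMap_zero_mem (r : 𝒜 0) : algebraMap (𝒜 0) A r ∈ 𝒜 0 := r.2

theorem mem_irr_subm {R : Type*} [CommRing R] [Algebra R A] (h0 : ∀ r : R, algebraMap R A r ∈ 𝒜 0) (f : A) :
    f ∈ (subm 𝒜 h0)₊.toIdeal ↔ f ∈ (𝒜₊).toIdeal := by
  change f ∈ (subm 𝒜 h0)₊ ↔ f ∈ 𝒜₊
  rw [HomogeneousIdeal.mem_irrelevant_iff, HomogeneousIdeal.mem_irrelevant_iff, GradedRing.proj_apply,
    GradedRing.proj_apply]
  have h : (DirectSum.decompose 𝒜 f 0 : A) = (DirectSum.decompose (subm 𝒜 h0) f 0 : A) :=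
    (toSub 𝒜 h0).map_directSumDecompose
  rw [h]

omit [CommRing A] [SetLike σ A] [AddSubgroupClass σ A] in
theorem isIntegral_of_isIso' {X Z : Scheme.{u}} (f : X ⟶ Z) [IsIso f] [IsIntegral Z] : IsIntegral X := by
  have : Nonempty X := Nonempty.map (inv f) (inferInstance : Nonempty Z)
  exact isIntegral_of_isOpenImmersion f

/-- `Proj` of an essentially reduced graded ring is integral iff the ring is essentially integral. -/
theorem isIntegral_proj_iff (hred : ∀ f ∈ (𝒜₊).toIdeal, IsNilpotent f → f = 0) :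
    AlgebraicGeometry.IsIntegral (Proj 𝒜) ↔
      ((∃ f ∈ (𝒜₊).toIdeal, f ≠ 0) ∧
        ∀ f ∈ (𝒜₊).toIdeal, ∀ g ∈ (𝒜₊).toIdeal, f * g = 0 → f = 0 ∨ g = 0) := by
  have h := Groth.Agent.S3557.result (subm 𝒜 (algebraMap_zero_mem 𝒜))
    (by simpa only [mem_irr_subm] using hred)
  simp only [mem_irr_subm] at h
  rw [← h]
  constructor
  · intro h1
    exact isIntegral_of_isIso' (projIso 𝒜 (algebraMap_zero_mem 𝒜)).hom
  · intro h1
    exact isIntegral_of_isIso' (projIso 𝒜 (algebraMap_zero_mem 𝒜)).inv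

theorem basicOpen_ne_bot {d : ℕ} (hd : 0 < d) {f : A} (hf : f ∈ 𝒜 d) (hn : ¬ IsNilpotent f) :
    Proj.basicOpen 𝒜 f ≠ ⊥ := by
  intro h
  apply hn
  refine Groth.Agent.S3557.isNilpotent_of_basicOpen_eq_bot (subm 𝒜 (algebraMap_zero_mem 𝒜)) hd hf ?_
  have h1 := congrArg (fun W => (projIso 𝒜 (algebraMap_zero_mem 𝒜)).hom ⁻¹ᵁ W) h
  exact h1

end ring

/-- A scheme over an integral scheme is integral if the preimages of the nonempty affine opens are. -/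
theorem isIntegral_of_base {P Y : Scheme.{u}} [IsIntegral Y] (p : P ⟶ Y)
    (h : ∀ U : Y.Opens, IsAffineOpen U → (U : Set Y).Nonempty → IsIntegral ((p ⁻¹ᵁ U : P.Opens) : Scheme.{u})) :
    IsIntegral P := by
  have hnb : ∀ (y : Y) (W : Y.Opens), y ∈ W → ∃ U : Y.Opens, IsAffineOpen U ∧ y ∈ U ∧ U ≤ W := fun y W hy => by
    obtain ⟨U, hU, hyU, hUW⟩ := (Opens.isBasis_iff_nbhd.mp Y.isBasis_affineOpens) hy
    exact ⟨U, hU, hyU, hUW⟩
  have hirr : ∀ U : Y.Opens, IsAffineOpen U → (U : Set Y).Nonempty → IsPreirreducible ((p ⁻¹ᵁ U : P.Opens) : Set P) := by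
    intro U hU hne
    have h1 := h U hU hne
    have h2 : PreirreducibleSpace ((p ⁻¹ᵁ U : P.Opens) : Set P) :=
      (inferInstance : PreirreducibleSpace ((p ⁻¹ᵁ U : P.Opens) : Scheme.{u}))
    exact IsPreirreducible.of_subtype
  have hne : ∀ U : Y.Opens, IsAffineOpen U → (U : Set Y).Nonempty → ((p ⁻¹ᵁ U : P.Opens) : Set P).Nonempty := by
    intro U hU hne
    have h1 := h U hU hne
    obtain ⟨x⟩ := h1.nonempty
    exact ⟨x.1, x.2⟩
  have hred : IsReduced P := by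
    have h1 : ∀ x : P, _root_.IsReduced (P.presheaf.stalk x) := fun x => by
      obtain ⟨U, hU, hx, -⟩ := hnb (p x) ⊤ trivial
      have h2 := h U hU ⟨_, hx⟩
      have e := (Scheme.Opens.stalkIso (p ⁻¹ᵁ U) ⟨x, hx⟩).commRingCatIsoToRingEquiv
      exact isReduced_of_injective e.symm e.symm.injective
    exact isReduced_of_isReduced_stalk P
  have hnon : Nonempty P := by
    obtain ⟨U, hU, hy, -⟩ := hnb (genericPoint Y) ⊤ trivial
    obtain ⟨x, -⟩ := hne U hU ⟨_, hy⟩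
    exact ⟨x⟩
  have hpre : PreirreducibleSpace P := by
    refine PreirreducibleSpace.of_forall_nonempty_inter fun V W hV hW hVne hWne => ?_
    obtain ⟨x, hx⟩ := hVne
    obtain ⟨y, hy⟩ := hWne
    obtain ⟨U₁, hU₁, hx₁, -⟩ := hnb (p x) ⊤ trivial
    obtain ⟨U₂, hU₂, hy₂, -⟩ := hnb (p y) ⊤ trivial
    have hmeet : ((U₁ ⊓ U₂ : Y.Opens) : Set Y).Nonempty :=
      nonempty_preirreducible_inter U₁.2 U₂.2 ⟨_, hx₁⟩ ⟨_, hy₂⟩
    obtain ⟨z, hz⟩ := hmeet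
    obtain ⟨U₃, hU₃, hz₃, h₃⟩ := hnb z (U₁ ⊓ U₂) hz
    obtain ⟨w, hw⟩ := hne U₃ hU₃ ⟨z, hz₃⟩
    obtain ⟨x', hx'1, hx'V, hx'3⟩ := hirr U₁ hU₁ ⟨_, hx₁⟩ V (p ⁻¹ᵁ U₃) hV (p ⁻¹ᵁ U₃).2 ⟨x, hx₁, hx⟩
      ⟨w, (h₃ hw).1, hw⟩
    obtain ⟨y', hy'2, hy'W, hy'3⟩ := hirr U₂ hU₂ ⟨_, hy₂⟩ W (p ⁻¹ᵁ U₃) hW (p ⁻¹ᵁ U₃).2 ⟨y, hy₂, hy⟩
      ⟨w, (h₃ hw).2, hw⟩
    obtain ⟨v, -, hvV, hvW⟩ := hirr U₃ hU₃ ⟨z, hz₃⟩ V W hV hW ⟨x', hx'3, hx'V⟩ ⟨y', hy'3, hy'W⟩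
    exact ⟨v, hvV, hvW⟩
  have hirr : IrreducibleSpace P := ⟨hnon⟩
  exact isIntegral_of_irreducibleSpace_of_isReduced P

variable {Y P : Scheme.{u}} [IsIntegral Y] {𝒮 : RelProj.QCGrAlg Y} {p : P ⟶ Y}
  (chart : ∀ (U : Y.Opens) (hU : IsAffineOpen U), (((p ⁻¹ᵁ U : P.Opens) : Scheme.{u}) ≅ Proj (𝒮.deg U hU)))

include chart in
theorem isIntegral_and_dense
    (hint : ∀ (U : Y.Opens) (hU : IsAffineOpen U), (U : Set Y).Nonempty →
      IsDomain (𝒮.presheaf.obj (op U)) ∧ ((𝒮.deg U hU)₊).toIdeal ≠ ⊥) :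
    IsIntegral P ∧ DenseRange p.base := by
  have h1 : ∀ (U : Y.Opens) (hU : IsAffineOpen U), (U : Set Y).Nonempty →
      IsIntegral ((p ⁻¹ᵁ U : P.Opens) : Scheme.{u}) := by
    intro U hU hne
    obtain ⟨h2, h3⟩ := hint U hU hne
    have h4 : IsIntegral (Proj (𝒮.deg U hU)) := by
      rw [isIntegral_proj_iff (𝒮.deg U hU) (fun f _ hf => hf.eq_zero)]
      exact ⟨Submodule.exists_mem_ne_zero_of_ne_bot h3, fun f _ g _ h => mul_eq_zero.1 h⟩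
    exact isIntegral_of_isIso' (chart U hU).hom
  refine ⟨isIntegral_of_base p h1, ?_⟩
  rw [DenseRange, dense_iff_inter_open]
  rintro W hW ⟨y, hy⟩
  obtain ⟨U, hU, hyU, hUW⟩ := (Opens.isBasis_iff_nbhd.mp Y.isBasis_affineOpens) (show y ∈ (⟨W, hW⟩ : Y.Opens) from hy)
  obtain ⟨x⟩ := (h1 U hU ⟨y, hyU⟩).nonempty
  exact ⟨p x.1, hUW x.2, x.1, rfl⟩

end K35.RelProjInt

end
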