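import Groth.Agent.EGA2.K35.RelProjInt
import Groth.Agent.EGA2.K35.ProjBasicZero
import Mathlib.RingTheory.GradedAlgebra.Radical

/-!
# The algebra of an integral relative homogeneous spectrum dominating the base
-/

set_option autoImplicit false
universe u

open CategoryTheory CategoryTheory.Limits AlgebraicGeometry TopologicalSpace Opposite
open scoped HomogeneousIdeal

noncomputable section

namespace K35.RelProjInt

open K35.Regrade K35.ProjZero K35.ProjPull K35.RelProjExists K35.RelProjBasic RelProj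

/-- A graded ring without homogeneous zero divisors is a domain. -/
theorem isDomain_of_homogeneous {A σ : Type*} [CommRing A] [Nontrivial A] [SetLike σ A] [AddSubgroupClass σ A]
    (𝒜 : ℕ → σ) [GradedRing 𝒜]
    (h : ∀ {i j : ℕ} {x y : A}, x ∈ 𝒜 i → y ∈ 𝒜 j → x * y = 0 → x = 0 ∨ y = 0) : IsDomain A := by
  have h1 : (⊥ : Ideal A).IsPrime := by
    refine Ideal.IsHomogeneous.isPrime_of_homogeneous_mem_or_mem (𝒜 := 𝒜) (Ideal.IsHomogeneous.bot 𝒜) ?_ ?_
    · exact bot_ne_top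
    · rintro x y ⟨i, hi⟩ ⟨j, hj⟩ hxy
      exact h hi hj hxy
  have h2 : NoZeroDivisors A := ⟨fun {a b} hab => by
    rcases h1.mem_or_mem (show a * b ∈ (⊥ : Ideal A) by rw [hab]; exact zero_mem _) with h | h
    · exact Or.inl h
    · exact Or.inr h⟩
  exact NoZeroDivisors.to_isDomain A

/-- The preimage of a basic open of the base in a chart of a relative Proj. -/
theorem preimage_basicOpen {Y : Scheme.{u}} {𝒮 : RelProj.QCGrAlg Y} (U : Y.Opens) (hU : IsAffineOpen U) (r : Γ(Y, U)) :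
    (Proj.toSpecZero (𝒮.deg U hU) ≫ Spec.map (𝒮.strZero U hU) ≫ hU.fromSpec) ⁻¹ᵁ Y.basicOpen r =
      Proj.basicOpen (𝒮.deg U hU) ((𝒮.str.app (op U)).hom r) := by
  rw [Scheme.Hom.comp_preimage, Scheme.Hom.comp_preimage, hU.fromSpec_preimage_basicOpen]
  exact K35.ProjBasicZero.toSpecZero_preimage (𝒮.deg U hU) ((𝒮.strZero U hU).hom r)

variable {Y P : Scheme.{u}} [IsIntegral Y] {𝒮 : RelProj.QCGrAlg Y} {p : P ⟶ Y}
  {chart : ∀ (U : Y.Opens) (hU : IsAffineOpen U), (((p ⁻¹ᵁ U : P.Opens) : Scheme.{u}) ≅ Proj (𝒮.deg U hU))}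

theorem isDomain_of_isIntegral (hP : IsRelProj 𝒮 p chart)
    (h0 : ∀ (U : Y.Opens) (hU : IsAffineOpen U), Function.Bijective (𝒮.strZero U hU).hom)
    (hred : ∀ (U : Y.Opens) (hU : IsAffineOpen U) (x : 𝒮.presheaf.obj (op U)),
      x ∈ (𝒮.deg U hU)₊ → IsNilpotent x → x = 0)
    [IsIntegral P] (hdom : DenseRange p.base)
    (U : Y.Opens) (hU : IsAffineOpen U) (hne : (U : Set Y).Nonempty) :
    IsDomain (𝒮.presheaf.obj (op U)) ∧ ((𝒮.deg U hU)₊).toIdeal ≠ ⊥ := by
  have hnon : ∀ W : Y.Opens, (W : Set Y).Nonempty → ((p ⁻¹ᵁ W : P.Opens) : Set P).Nonempty := by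
    intro W hW
    obtain ⟨_, hy, x, rfl⟩ := hdom.inter_open_nonempty W W.2 hW
    exact ⟨x, hy⟩
  have hInt : IsIntegral (Proj (𝒮.deg U hU)) := by
    have h1 : Nonempty ((p ⁻¹ᵁ U : P.Opens) : Scheme.{u}) := by
      obtain ⟨x, hx⟩ := hnon U hne
      exact ⟨⟨x, hx⟩⟩
    have h2 : IsIntegral ((p ⁻¹ᵁ U : P.Opens) : Scheme.{u}) := isIntegral_of_isOpenImmersion (p ⁻¹ᵁ U).ι
    exact isIntegral_of_isIso' (chart U hU).inv
  obtain ⟨⟨f₀, hf₀, hf₀'⟩, hmul⟩ := (isIntegral_proj_iff (𝒮.deg U hU) (hred U hU)).1 hInt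
  have hne' : ((𝒮.deg U hU)₊).toIdeal ≠ ⊥ := fun h => hf₀' (by rw [h] at hf₀; exact hf₀)
  have hU' : Nonempty (U : Scheme.{u}) := by
    obtain ⟨y, hy⟩ := hne
    exact ⟨⟨y, hy⟩⟩
  have hD : IsDomain Γ(Y, U) := IsIntegral.component_integral U
  -- homogeneous elements of degree zero act without torsion on positive degrees
  have key : ∀ {d : ℕ} {a f : 𝒮.presheaf.obj (op U)}, 0 < d → a ∈ 𝒮.deg U hU 0 → f ∈ 𝒮.deg U hU d →
      a * f = 0 → a = 0 ∨ f = 0 := by
    intro d a f hd ha hf haf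
    by_contra hcon
    push Not at hcon
    obtain ⟨ha0, hf0⟩ := hcon
    obtain ⟨r, hr⟩ := (h0 U hU).2 ⟨a, ha⟩
    have hr' : (𝒮.str.app (op U)).hom r = a := congrArg Subtype.val hr
    have hr0 : r ≠ 0 := by
      rintro rfl
      apply ha0
      rw [← hr', map_zero]
    have h1 : (Y.basicOpen r : Set Y).Nonempty := by
      by_contra hcon
      rw [Set.not_nonempty_iff_eq_empty] at hcon
      apply hr0
      rw [← basicOpen_eq_bot_iff r]
      exact Opens.ext hcon
    obtain ⟨x, hx⟩ := hnon _ h1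
    have hfn : ¬ IsNilpotent f := fun hn => hf0 (hred U hU f (HomogeneousIdeal.mem_irrelevant_of_mem _ hd hf) hn)
    have h2 := basicOpen_ne_bot (𝒮.deg U hU) hd hf hfn
    obtain ⟨y, hy⟩ := (TopologicalSpace.Opens.ne_bot_iff_nonempty _).1 h2
    -- the preimage of the basic open in the chart
    let W : (Proj (𝒮.deg U hU)).Opens := emb p chart U hU ⁻¹ᵁ (p ⁻¹ᵁ Y.basicOpen r)
    have hW : (W : Set (Proj (𝒮.deg U hU))).Nonempty := by
      have hx' : x ∈ (emb p chart U hU).opensRange := by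
        rw [opensRange_emb]
        exact Y.basicOpen_le r hx
      obtain ⟨z, hz⟩ := hx'
      refine ⟨z, ?_⟩
      change emb p chart U hU z ∈ p ⁻¹ᵁ Y.basicOpen r
      rw [hz]
      exact hx
    obtain ⟨z, hz1, hz2⟩ : ((Proj.basicOpen (𝒮.deg U hU) f : Set (Proj (𝒮.deg U hU))) ∩ W).Nonempty :=
      nonempty_preirreducible_inter (Proj.basicOpen (𝒮.deg U hU) f).2 W.2 ⟨y, hy⟩ hW
    have hz3 : a ∉ (ProjectiveSpectrum.asHomogeneousIdeal (𝒜 := 𝒮.deg U hU) z).toIdeal := by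
      have e := emb_p hP U hU
      have h3 : (emb p chart U hU ≫ p) z ∈ Y.basicOpen r := hz2
      rw [e] at h3
      have h4 : z ∈ Proj.basicOpen (𝒮.deg U hU) a := by
        rw [← hr', ← preimage_basicOpen U hU r]
        exact h3
      exact h4
    have hz4 : (ProjectiveSpectrum.asHomogeneousIdeal (𝒜 := 𝒮.deg U hU) z).toIdeal.IsPrime :=
      ProjectiveSpectrum.isPrime (𝒜 := 𝒮.deg U hU) z
    have h6 : a * f ∈ (ProjectiveSpectrum.asHomogeneousIdeal (𝒜 := 𝒮.deg U hU) z).toIdeal := by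
      rw [haf]; exact zero_mem _
    rcases hz4.mem_or_mem h6 with h | h
    · exact hz3 h
    · exact hz1 h
  have hnt : Nontrivial (𝒮.presheaf.obj (op U)) := ⟨f₀, 0, hf₀'⟩
  refine ⟨isDomain_of_homogeneous (𝒮.deg U hU) ?_, hne'⟩
  intro i j x y hx hy hxy
  rcases Nat.eq_zero_or_pos i with rfl | hi
  · rcases Nat.eq_zero_or_pos j with rfl | hj
    · obtain ⟨r, hr⟩ := (h0 U hU).2 ⟨x, hx⟩
      obtain ⟨s, hs⟩ := (h0 U hU).2 ⟨y, hy⟩
      have h7 : (𝒮.strZero U hU).hom (r * s) = (𝒮.strZero U hU).hom 0 := by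
        rw [map_mul, hr, hs, map_zero]
        exact Subtype.ext hxy
      have h8 := (h0 U hU).1 h7
      rcases mul_eq_zero.1 h8 with h | h
      · left
        have := congrArg Subtype.val hr
        rw [h, map_zero] at this
        exact this.symm
      · right
        have := congrArg Subtype.val hs
        rw [h, map_zero] at this
        exact this.symm
    · exact key hj hx hy hxy
  · rcases Nat.eq_zero_or_pos j with rfl | hj
    · rw [mul_comm] at hxy
      exact (key hi hy hx hxy).symm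
    · exact hmul x (HomogeneousIdeal.mem_irrelevant_of_mem _ hi hx) y
        (HomogeneousIdeal.mem_irrelevant_of_mem _ hj hy) hxy

end K35.RelProjInt

end
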