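import Groth.Agent.Divis.CartierStalk
import Groth.Agent.Divis.BlowChart
import Groth.Agent.Flat2D.FiberStalk
import Mathlib.RingTheory.DiscreteValuationRing.TFAE

/-!
# Local rings of fibres along a section with invertible ideal
-/

set_option autoImplicit false
universe u
open CategoryTheory CategoryTheory.Limits AlgebraicGeometry TopologicalSpace Opposite IsLocalRing

noncomputable section
namespace K35.SecDVR

section ring

/-- The image of a local equation of a section is a nonzerodivisor on the fibre. -/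
theorem mem_nonZeroDivisors {A B C : Type*} [CommRing A] [CommRing B] [CommRing C] (a : A →+* B) (s : B →+* A)
    (hs : s.comp a = RingHom.id A) (t : B) (ht : t ∈ nonZeroDivisors B) (hker : RingHom.ker s = Ideal.span {t})
    (γ : B →+* C) (hγ : Function.Surjective γ) (m : Ideal A) (hkγ : RingHom.ker γ = m.map a) :
    γ t ∈ nonZeroDivisors C := by
  rw [mem_nonZeroDivisors_iff_right]
  intro c hc
  obtain ⟨b, rfl⟩ := hγ c
  rw [← map_mul, ← RingHom.mem_ker, hkγ] at hc
  rw [← RingHom.mem_ker, hkγ]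
  -- `b * t ∈ m B`
  have key : ∀ x ∈ m.map a, ∃ y ∈ m.map a, x = a (s x) + y * t := by
    intro x hx
    refine Submodule.span_induction (p := fun x _ => ∃ y ∈ m.map a, x = a (s x) + y * t) ?_ ?_ ?_ ?_ hx
    · rintro _ ⟨r, hr, rfl⟩
      refine ⟨0, zero_mem _, ?_⟩
      have : s (a r) = r := congr($hs r)
      rw [this, zero_mul, add_zero]
    · exact ⟨0, zero_mem _, by simp⟩
    · rintro x y _ _ ⟨x', hx', hx⟩ ⟨y', hy', hy⟩
      refine ⟨x' + y', add_mem hx' hy', ?_⟩
      rw [map_add, map_add]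
      linear_combination hx + hy
    · rintro c x hxm ⟨x', hx', hx⟩
      obtain ⟨d, hd⟩ : ∃ d, c = a (s c) + d * t := by
        have : c - a (s c) ∈ RingHom.ker s := by
          rw [RingHom.mem_ker, map_sub, sub_eq_zero]
          exact congr($hs (s c)).symm
        rw [hker, Ideal.mem_span_singleton'] at this
        obtain ⟨d, hd⟩ := this
        exact ⟨d, by rw [hd]; ring⟩
      refine ⟨a (s c) * x' + d * x, add_mem (Ideal.mul_mem_left _ _ hx') (Ideal.mul_mem_left _ _ hxm), ?_⟩
      rw [smul_eq_mul, map_mul, map_mul]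
      linear_combination (a (s c)) * hx + x * hd
  obtain ⟨y, hy, h1⟩ := key _ hc
  have h2 : s (b * t) = 0 := by
    have : t ∈ RingHom.ker s := by rw [hker]; exact Ideal.mem_span_singleton_self t
    rw [map_mul, RingHom.mem_ker.mp this, mul_zero]
  rw [h2, map_zero, zero_add] at h1
  have h3 : b = y := by
    have := (mem_nonZeroDivisors_iff_right.mp ht) (b - y) (by rw [sub_mul, h1, sub_self])
    exact sub_eq_zero.mp this
  rw [h3]
  exact hy

/-- A Noetherian local ring whose maximal ideal is generated by a nonzerodivisor is a discrete valuation ring. -/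
theorem isDVR (C : Type u) [CommRing C] [IsLocalRing C] [IsNoetherianRing C] (t : C) (ht : t ∈ nonZeroDivisors C)
    (hm : maximalIdeal C = Ideal.span {t}) : ∃ _ : IsDomain C, IsDiscreteValuationRing C := by
  have h1 : ⨅ n : ℕ, maximalIdeal C ^ n = ⊥ := Ideal.iInf_pow_eq_bot_of_isLocalRing _ (Ideal.IsPrime.ne_top inferInstance)
  have h2 : ∀ x : C, x ≠ 0 → ∃ (n : ℕ) (u : C), IsUnit u ∧ x = u * t ^ n := by
    intro x hx
    obtain ⟨n, hn⟩ : ∃ n : ℕ, x ∉ maximalIdeal C ^ (n + 1) := by
      by_contra hcon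
      push Not at hcon
      apply hx
      have : x ∈ ⨅ n : ℕ, maximalIdeal C ^ n := by
        rw [Ideal.mem_iInf]
        rintro (_ | n)
        · rw [pow_zero, Ideal.one_eq_top]; trivial
        · exact hcon n
      rwa [h1] at this
    classical
    obtain ⟨N, hN', hN⟩ : ∃ N : ℕ, x ∈ maximalIdeal C ^ N ∧ x ∉ maximalIdeal C ^ (N + 1) := by
      have hex : ∃ n : ℕ, x ∉ maximalIdeal C ^ (n + 1) := ⟨n, hn⟩
      refine ⟨Nat.find hex, ?_, Nat.find_spec hex⟩
      rcases Nat.eq_zero_or_pos (Nat.find hex) with h | h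
      · rw [h, pow_zero, Ideal.one_eq_top]; trivial
      · have := Nat.find_min hex (m := Nat.find hex - 1) (by omega)
        rw [not_not] at this
        rwa [show Nat.find hex - 1 + 1 = Nat.find hex by omega] at this
    rw [hm, Ideal.span_singleton_pow, Ideal.mem_span_singleton'] at hN'
    obtain ⟨c, hc⟩ := hN'
    refine ⟨N, c, ?_, hc.symm⟩
    by_contra hcu
    apply hN
    have hc' : c ∈ maximalIdeal C := (mem_maximalIdeal c).mpr hcu
    have h3 : c * t ^ N = t ^ N * c := mul_comm _ _
    rw [← hc, h3, pow_succ]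
    exact Ideal.mul_mem_mul (Ideal.pow_mem_pow (by rw [hm]; exact Ideal.mem_span_singleton_self t) _) hc'
  have hdom : IsDomain C := by
    have : NoZeroDivisors C := by
      refine ⟨fun {x y} hxy => ?_⟩
      by_contra hcon
      push Not at hcon
      obtain ⟨n, u, hu, rfl⟩ := h2 x hcon.1
      obtain ⟨m, v, hv, rfl⟩ := h2 y hcon.2
      have h3 : t ^ (n + m) = 0 := by
        have h4 : (u * v) * t ^ (n + m) = 0 := by rw [← hxy]; ring
        exact (hu.mul hv).mul_right_eq_zero.mp h4
      exact nonZeroDivisors.ne_zero (pow_mem ht (n + m)) h3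
    exact NoZeroDivisors.to_isDomain C
  refine ⟨hdom, ?_⟩
  refine IsDiscreteValuationRing.ofHasUnitMulPowIrreducibleFactorization ⟨t, ?_, fun {x} hx => ?_⟩
  · have h0 : t ≠ 0 := nonZeroDivisors.ne_zero ht
    have hp : Prime t := by
      rw [← Ideal.span_singleton_prime h0, ← hm]
      infer_instance
    exact hp.irreducible
  · obtain ⟨n, u, hu, rfl⟩ := h2 x hx
    exact ⟨n, hu.unit, by rw [IsUnit.unit_spec, mul_comm]⟩

end ring

variable {X V : Scheme.{u}}

open Groth.Agent.Divis Groth.Agent.Divis.CartierBasic Groth.Agent.Flat2D.FiberStalk in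
/-- The retraction of local rings given by a section. -/
theorem exists_retr (π : V ⟶ X) (j : X ⟶ V) [IsClosedImmersion j] (hj : j ≫ π = 𝟙 X)
    (hJ : BlowUp.IsEffCartierIdeal j.ker) (v : V) (x : X) (hv : v = j x) :
    ∃ (σ : V.presheaf.stalk v →+* X.presheaf.stalk (π v)) (t : V.presheaf.stalk v),
      σ.comp (π.stalkMap v).hom = RingHom.id _ ∧ t ∈ nonZeroDivisors _ ∧ RingHom.ker σ = Ideal.span {t} := by
  subst hv
  have h1 := Scheme.Hom.stalkMap_congr_hom (j ≫ π) (𝟙 X) hj x
  rw [Scheme.Hom.stalkMap_comp] at h1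
  obtain ⟨U, hyU, f, hf, hfU⟩ := hJ (j x)
  have hxs : π (j x) = x := congr($hj x)
  let e : X.presheaf.stalk (π (j x)) ≅ X.presheaf.stalk x := X.presheaf.stalkCongr (.of_eq hxs)
  have h1' : π.stalkMap (j x) ≫ j.stalkMap x = e.hom :=
    h1.trans (by rw [Scheme.Hom.stalkMap_id]; exact Category.comp_id _)
  refine ⟨(j.stalkMap x ≫ e.inv).hom, V.presheaf.germ U.1 (j x) hyU f, ?_,
    BlowChart.germ_mem_nonZeroDivisors U.2 hf (j x) hyU, ?_⟩
  · have h2 : π.stalkMap (j x) ≫ j.stalkMap x ≫ e.inv = 𝟙 _ := by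
      rw [← Category.assoc, h1']
      exact e.hom_inv_id
    exact congrArg CommRingCat.Hom.hom h2
  · have h3 : RingHom.ker (j.stalkMap x ≫ e.inv).hom = RingHom.ker (j.stalkMap x).hom := by
      have h4 : Function.Injective e.inv := (ConcreteCategory.bijective_of_isIso e.inv).1
      ext a
      rw [RingHom.mem_ker, RingHom.mem_ker]
      change e.inv (j.stalkMap x a) = 0 ↔ j.stalkMap x a = 0
      exact map_eq_zero_iff _ h4
    rw [h3, CartierStalk.ker_stalkMap, stalkIdeal_eq j.ker U hyU, hfU, Ideal.map_span, Set.image_singleton]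

open Groth.Agent.Divis Groth.Agent.Divis.CartierBasic Groth.Agent.Flat2D.FiberStalk in
/-- The local ring of a fibre at a point of a section whose ideal is locally generated by a nonzerodivisor. -/
theorem aux (π : V ⟶ X) [LocallyOfFiniteType π] (j : X ⟶ V) [IsClosedImmersion j] (hj : j ≫ π = 𝟙 X)
    (hJ : BlowUp.IsEffCartierIdeal j.ker) (s : X) (z : π.fiber s) (x : X) (hz : π.fiberι s z = j x) :
    ∃ _ : IsDomain ((π.fiber s).presheaf.stalk z), IsDiscreteValuationRing ((π.fiber s).presheaf.stalk z) := by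
  obtain ⟨σ, t, hσ, ht, hker⟩ := exists_retr π j hj hJ (π.fiberι s z) x hz
  have hγ := stalkMap_fiberι_surjective π s z
  have hkγ := ker_stalkMap_fiberι π s z
  rw [fibreIdeal_def] at hkγ
  have hft : LocallyOfFiniteType (π.fiberToSpecResidueField s) :=
    MorphismProperty.pullback_snd (P := @LocallyOfFiniteType) _ _ inferInstance
  have hN : IsLocallyNoetherian (π.fiber s) := LocallyOfFiniteType.isLocallyNoetherian (π.fiberToSpecResidueField s)
  have htm : t ∈ maximalIdeal (V.presheaf.stalk (π.fiberι s z)) := by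
    rw [mem_maximalIdeal]
    intro hu
    have h1 : t ∈ RingHom.ker σ := by rw [hker]; exact Ideal.mem_span_singleton_self t
    have h2 := hu.map σ
    rw [RingHom.mem_ker.mp h1] at h2
    exact not_isUnit_zero h2
  refine isDVR _ (((π.fiberι s).stalkMap z).hom t)
    (mem_nonZeroDivisors (π.stalkMap (π.fiberι s z)).hom σ hσ t ht hker _ hγ _ hkγ) ?_
  apply le_antisymm
  · intro c hc
    obtain ⟨b, rfl⟩ := hγ c
    have hb : b ∈ maximalIdeal (V.presheaf.stalk (π.fiberι s z)) := by
      rw [mem_maximalIdeal] at hc ⊢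
      exact fun hu => hc (hu.map _)
    obtain ⟨d, hd⟩ : ∃ d, b = (π.stalkMap (π.fiberι s z)).hom (σ b) + d * t := by
      have : b - (π.stalkMap (π.fiberι s z)).hom (σ b) ∈ RingHom.ker σ := by
        rw [RingHom.mem_ker, map_sub, sub_eq_zero]
        exact congr($hσ (σ b)).symm
      rw [hker, Ideal.mem_span_singleton'] at this
      obtain ⟨d, hd⟩ := this
      exact ⟨d, by rw [hd]; ring⟩
    have h1 : (π.stalkMap (π.fiberι s z)).hom (σ b) ∈ RingHom.ker ((π.fiberι s).stalkMap z).hom := by
      rw [hkγ]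
      apply Ideal.mem_map_of_mem
      rw [mem_maximalIdeal]
      intro hu
      have h2 := hu.map (π.stalkMap (π.fiberι s z)).hom
      have h3 : (π.stalkMap (π.fiberι s z)).hom (σ b) ∈ maximalIdeal (V.presheaf.stalk (π.fiberι s z)) := by
        have : (π.stalkMap (π.fiberι s z)).hom (σ b) = b - d * t := eq_sub_of_add_eq hd.symm
        rw [this]
        exact sub_mem hb (Ideal.mul_mem_left _ _ htm)
      exact h3 h2
    rw [Ideal.mem_span_singleton']
    refine ⟨((π.fiberι s).stalkMap z).hom d, ?_⟩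
    rw [← map_mul]
    have h4 : ((π.fiberι s).stalkMap z).hom b = ((π.fiberι s).stalkMap z).hom ((π.stalkMap (π.fiberι s z)).hom (σ b) + d * t) := by
      rw [← hd]
    rw [h4, map_add, RingHom.mem_ker.mp h1, zero_add]
  · rw [Ideal.span_singleton_le_iff_mem, mem_maximalIdeal]
    intro hu
    exact htm (isUnit_of_map_unit ((π.fiberι s).stalkMap z).hom t hu)

theorem main (π : V ⟶ X) [LocallyOfFiniteType π]
    (j : X ⟶ V) [IsClosedImmersion j] (hj : j ≫ π = 𝟙 X) (hJ : BlowUp.IsEffCartierIdeal j.ker) (x : X) :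
    ∃ _ : IsDomain ((π.fiber (π.base (j.base x))).presheaf.stalk (π.asFiber (j.base x))),
      IsDiscreteValuationRing ((π.fiber (π.base (j.base x))).presheaf.stalk (π.asFiber (j.base x))) :=
  aux π j hj hJ _ _ x (π.fiberι_asFiber (j.base x))

end K35.SecDVR
end
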