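import Groth.Agent.EGA2.K43.VADef
import Groth.Agent.EGA2.K42.VATens
import Groth.Agent.Picfga.LineHom
import Groth.Agent.EGA2.K36.GlueAff

/-!
# Abstract universal property of projective bundles, at the level of sections

For `p : P ⟶ Y`, `φ : E ⟶ p_* O(1)`, `g : X ⟶ Y`, `ρ : E ⟶ g_* L`:
* `pullD f g ρ`: pulled back data `E ⟶ (f ≫ g)_* f^* L`; `se_pullD`, `nz_pullD` (`f` open immersion);
* `Comp ρ φ r hr` (`hr : r ≫ p = g`): where `φ e` generates `O(1)`, `ρ e` generates `L` and ratios correspond;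
  `Comp.preimage_nz : r ⁻¹ᵁ (nz p φ e) = nz g ρ e`, `Comp.pullD`, `Comp.restrict`, `comp_of_cover`, `comp_of_affine`;
* `IsUniv p φ`: the `nz p φ e` are affine, cover `P`, their functions are generated by ratios and have the lifting property;
* `Comp.eq` (uniqueness), `exists_comp`, `existsUnique_comp`.
-/

set_option autoImplicit false
universe u
open CategoryTheory CategoryTheory.Limits AlgebraicGeometry TopologicalSpace Opposite

noncomputable section
namespace K35.Univ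
open Groth.Agent.Fdesc.LocGen Groth.Agent.Ega2.Nv K43.VADef K42.VATens

variable {X Y P Z : Scheme.{u}}

/-- The data `(g, L, ρ : E ⟶ g_* L)` pulled back along `f : Z ⟶ X`. -/
def pullD (f : Z ⟶ X) (g : X ⟶ Y) {E : Y.Modules} {L : X.Modules} (ρ : E ⟶ (Scheme.Modules.pushforward g).obj L) :
    E ⟶ (Scheme.Modules.pushforward (f ≫ g)).obj ((Scheme.Modules.pullback f).obj L) :=
  ρ ≫ (Scheme.Modules.pushforward g).map ((Scheme.Modules.pullbackPushforwardAdjunction f).unit.app L)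

theorem se_pullD (f : Z ⟶ X) (g : X ⟶ Y) {E : Y.Modules} {L : X.Modules} (ρ : E ⟶ (Scheme.Modules.pushforward g).obj L)
    {U : Y.Opens} (t : Γ(E, U)) : se (f ≫ g) (pullD f g ρ) t = pullSec f (se g ρ t) := rfl

/-- Nonvanishing locus of a pulled back section, along an open immersion. -/
theorem nv_pullSec_openImmersion (f : Z ⟶ X) [IsOpenImmersion f] {L : X.Modules} {U : X.Opens} (s : Γ(L, U)) :
    nv ((Scheme.Modules.pullback f).obj L) (pullSec f s) = f ⁻¹ᵁ (nv L s) := by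
  apply le_antisymm
  · obtain ⟨V', hV', hr, hV⟩ : ∃ V' : X.Opens, V' ≤ U ∧ V' ≤ f.opensRange ∧
        f ⁻¹ᵁ V' = nv ((Scheme.Modules.pullback f).obj L) (pullSec f s) := by
      refine ⟨f ''ᵁ _, ?_, ?_, f.preimage_image_eq _⟩
      · refine (f.image_mono (nv_le _ _)).trans ?_
        rw [f.image_preimage_eq_opensRange_inf]
        exact inf_le_right
      · rw [← f.image_top_eq_opensRange]
        exact f.image_mono le_top
    rw [← hV]
    apply f.preimage_mono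
    rw [le_nv_iff L s hV', ← isGen_pullSec_openImmersion_iff f _ hr, ← res_pullSec, ← le_nv_iff, hV]
  · rw [le_nv_iff _ _ (f.preimage_mono (nv_le L s)), res_pullSec]
    exact (isGen_nv L s).pullSec f

theorem nz_pullD (f : Z ⟶ X) [IsOpenImmersion f] (g : X ⟶ Y) {E : Y.Modules} {L : X.Modules}
    (ρ : E ⟶ (Scheme.Modules.pushforward g).obj L) {U : Y.Opens} (t : Γ(E, U)) :
    nz (f ≫ g) (pullD f g ρ) t = f ⁻¹ᵁ (nz g ρ t) := nv_pullSec_openImmersion f _


/-! ### Compatibility of a morphism `r : X ⟶ P` with `(g, ρ)` and `(p, φ)` -/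

variable {g : X ⟶ Y} {p : P ⟶ Y} {E : Y.Modules} {L : X.Modules} {O1 : P.Modules}
  {ρ : E ⟶ (Scheme.Modules.pushforward g).obj L} {φ : E ⟶ (Scheme.Modules.pushforward p).obj O1}

theorem pre_le {r : X ⟶ P} (hr : r ≫ p = g) {D : P.Opens} {V : Y.Opens} (h : D ≤ p ⁻¹ᵁ V) :
    r ⁻¹ᵁ D ≤ g ⁻¹ᵁ V := by
  subst hr; exact r.preimage_mono h

variable (ρ φ) in
/-- `r` is compatible with `ρ` and `φ`: where `φ e` generates `O(1)`, `ρ e` generates `L`, and the ratios of sections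
correspond. -/
def Comp (r : X ⟶ P) (hr : r ≫ p = g) : Prop :=
  ∀ (V V' : Y.Opens) (e : Γ(E, V)) (t : Γ(E, V')) (D : P.Opens) (h : D ≤ p ⁻¹ᵁ V) (h' : D ≤ p ⁻¹ᵁ V') (a : Γ(P, D)),
    IsGen (res O1 h (se p φ e)) → res O1 h' (se p φ t) = a • res O1 h (se p φ e) →
    IsGen (res L (pre_le hr h) (se g ρ e)) ∧
      res L (pre_le hr h') (se g ρ t) = (r.app D a : Γ(X, r ⁻¹ᵁ D)) • res L (pre_le hr h) (se g ρ e)

theorem Comp.isGen {r : X ⟶ P} {hr : r ≫ p = g} (h : Comp ρ φ r hr) {V : Y.Opens} (e : Γ(E, V)) {D : P.Opens}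
    (hD : D ≤ p ⁻¹ᵁ V) (he : IsGen (res O1 hD (se p φ e))) : IsGen (res L (pre_le hr hD) (se g ρ e)) :=
  (h V V e e D hD hD 1 he (one_smul _ _).symm).1

/-- Compatibility passes to pulled back data. -/
theorem Comp.pullD {r : X ⟶ P} {hr : r ≫ p = g} (h : Comp ρ φ r hr) (f : Z ⟶ X) :
    Comp (pullD f g ρ) φ (f ≫ r) (by rw [Category.assoc, hr]) := by
  intro V V' e t D hD hD' a he ha
  obtain ⟨h1, h2⟩ := h V V' e t D hD hD' a he ha
  have h3 : ∀ {V : Y.Opens} (hD : D ≤ p ⁻¹ᵁ V) (t : Γ(E, V)), res ((Scheme.Modules.pullback f).obj L)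
      (pre_le (r := f ≫ r) (g := f ≫ g) (by rw [Category.assoc, hr]) hD) (se (f ≫ g) (K35.Univ.pullD f g ρ) t) =
      pullSec f (res L (pre_le hr hD) (se g ρ t)) := by
    intro V hD t
    rw [se_pullD]
    exact res_pullSec f (pre_le hr hD) (se g ρ t)
  refine ⟨?_, ?_⟩
  · rw [h3 hD]
    exact h1.pullSec f
  · rw [h3 hD, h3 hD', h2, pullSec_smul]
    rfl

/-- The preimage of the locus where `φ e` generates is the locus where `ρ e` generates. -/
theorem Comp.preimage_nz {r : X ⟶ P} {hr : r ≫ p = g} (h : Comp ρ φ r hr) (hP : Gn p φ) {V : Y.Opens} (e : Γ(E, V)) :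
    r ⁻¹ᵁ (nz p φ e) = nz g ρ e := by
  apply le_antisymm
  · rw [nz, nz, le_nv_iff L _ (pre_le hr (nv_le _ _))]
    exact h.isGen e _ (isGen_nz p φ e)
  · intro x hx
    have hx' : r x ∈ p ⁻¹ᵁ V := by
      have := nz_le g ρ e hx
      subst hr
      exact this
    obtain ⟨U', hU', hU'V, e', hxe'⟩ := hP.exists_le (r x) V hx'
    have hD : nz p φ e' ≤ p ⁻¹ᵁ V := (nz_le p φ e').trans (p.preimage_mono hU'V)
    obtain ⟨a, ha⟩ := (isGen_nz p φ e').exists_eq (res O1 hD (se p φ e))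
    obtain ⟨h1, h2⟩ := h U' V e' e (nz p φ e') (nz_le p φ e') hD a (isGen_nz p φ e') ha
    have h3 := nv_inf_of_eq_smul (se g ρ e) (pre_le hr hD) h1 _ h2
    have h4 : x ∈ X.basicOpen (r.app _ a) := by
      rw [← h3]
      exact ⟨hxe', hx⟩
    rw [← Scheme.preimage_basicOpen] at h4
    have h5 := nv_inf_of_eq_smul (se p φ e) hD (isGen_nz p φ e') a ha
    have h6 : r x ∈ P.basicOpen a := h4
    rw [← h5] at h6
    exact h6.2

/-- Two morphisms into an affine open which agree on functions are equal. -/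
theorem eq_of_appLE {W T : Scheme.{u}} {a b : W ⟶ T} {D : T.Opens} (hD : IsAffineOpen D) {N : W.Opens}
    (ha : N ≤ a ⁻¹ᵁ D) (hb : N ≤ b ⁻¹ᵁ D) (h : a.appLE D N ha = b.appLE D N hb) : N.ι ≫ a = N.ι ≫ b := by
  have key : ∀ (a : W ⟶ T) (ha : N ≤ a ⁻¹ᵁ D), N.ι ≫ a = N.toSpecΓ ≫ Spec.map (a.appLE D N ha) ≫ hD.fromSpec := by
    intro a ha
    rw [Scheme.Opens.toSpecΓ_SpecMap_appLE_assoc, IsAffineOpen.toSpecΓ_fromSpec, Scheme.Hom.resLE_comp_ι]
  rw [key a ha, key b hb, h]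

/-- The universal property of the projective bundle, on functions. -/
structure IsUniv (p : P ⟶ Y) (φ : E ⟶ (Scheme.Modules.pushforward p).obj O1) : Prop where
  affine : ∀ {U : Y.Opens} (_ : IsAffineOpen U) (e : Γ(E, U)), IsAffineOpen (nz p φ e)
  gen : ∀ {U : Y.Opens} (_ : IsAffineOpen U) (e : Γ(E, U)), ratioRing p φ e = ⊤
  gn : Gn p φ
  lift : ∀ {U : Y.Opens} (_ : IsAffineOpen U) (e : Γ(E, U)) (C : CommRingCat.{u}) (γ : Γ(Y, U) →+* C)
    (l : Γ(E, U) →+ C), (∀ a t, l (a • t) = γ a * l t) → l e = 1 → ∃ ψ : Γ(P, nz p φ e) →+* C,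
      (∀ a : Γ(Y, U), ψ (ores (nz_le p φ e) (p.app U a)) = γ a) ∧
      ∀ (t : Γ(E, U)) (a : Γ(P, nz p φ e)),
        res O1 (nz_le p φ e) (se p φ t) = a • res O1 (nz_le p φ e) (se p φ e) → ψ a = l t

/-- **Uniqueness.** -/
theorem Comp.eq (hφ : IsUniv p φ) (hρ : Gn g ρ) {r r' : X ⟶ P} {hr : r ≫ p = g} {hr' : r' ≫ p = g}
    (h : Comp ρ φ r hr) (h' : Comp ρ φ r' hr') : r = r' := by
  have key : ∀ x : X, ∃ (U : Y.Opens) (_ : IsAffineOpen U) (e : Γ(E, U)), x ∈ nz g ρ e := by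
    intro x
    obtain ⟨U, hU, -, e, he⟩ := hρ.exists_le x ⊤ trivial
    exact ⟨U, hU, e, he⟩
  choose U hU e he using key
  refine K36.GlueAff.hom_ext_opens (fun x => nz g ρ (e x)) (fun x => ⟨x, he x⟩) fun x => ?_
  have h1 := h.preimage_nz hφ.gn (e x)
  have h2 := h'.preimage_nz hφ.gn (e x)
  refine eq_of_appLE (hφ.affine (hU x) (e x)) h1.ge h2.ge ?_
  ext a
  have ha : a ∈ ratioRing p φ (e x) := by rw [hφ.gen (hU x)]; trivial
  revert a
  suffices ratioRing p φ (e x) ≤ ((r.appLE _ _ h1.ge).hom).eqLocus ((r'.appLE _ _ h2.ge).hom) from fun a ha => this ha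
  rw [ratioRing, Subring.closure_le]
  have happ : ∀ (r : X ⟶ P) (hr : r ≫ p = g) (h1 : nz g ρ (e x) ≤ r ⁻¹ᵁ nz p φ (e x)) (a : Γ(Y, U x)),
      r.appLE _ _ h1 (ores (nz_le p φ (e x)) (p.app (U x) a)) = ores (nz_le g ρ (e x)) (g.app (U x) a) := by
    intro r hr h1 a
    subst hr
    have : P.presheaf.map (homOfLE (nz_le p φ (e x))).op ≫ r.appLE _ _ h1 =
        r.app _ ≫ X.presheaf.map (homOfLE (nz_le (r ≫ p) ρ (e x))).op := by
      rw [Scheme.Hom.map_appLE, Scheme.Hom.appLE]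
      rfl
    exact congr(($this).hom (p.app (U x) a))
  rintro a (⟨b, rfl⟩ | ⟨t, ht⟩)
  · change r.appLE _ _ h1.ge _ = r'.appLE _ _ h2.ge _
    dsimp only
    rw [happ r hr, happ r' hr']
  · change r.appLE _ _ h1.ge a = r'.appLE _ _ h2.ge a
    have h3 : ∀ (r : X ⟶ P) (hr : r ≫ p = g) (h : Comp ρ φ r hr) (h1 : nz g ρ (e x) ≤ r ⁻¹ᵁ nz p φ (e x)),
        res L (nz_le g ρ (e x)) (se g ρ t) = r.appLE _ _ h1 a • res L (nz_le g ρ (e x)) (se g ρ (e x)) := by
      intro r hr h h1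
      obtain ⟨-, h4⟩ := h _ _ (e x) t (nz p φ (e x)) (nz_le _ _ _) (nz_le _ _ _) a (isGen_nz p φ (e x)) ht
      have h5 := congrArg (res L h1) h4
      rw [res_res, res_smul, res_res] at h5
      exact h5
    exact (isGen_nz g ρ (e x)).ext ((h3 r hr h h1.ge).symm.trans (h3 r' hr' h' h2.ge))


section aux

variable (g ρ) in
theorem se_pow_smul {U V' : Y.Opens} {h : Γ(Y, U)} {n : ℕ} {t₀ : Γ(E, U)} {t : Γ(E, V')} (hle : Y.basicOpen h ≤ V')
    (ht : res E (Y.basicOpen_le h) t₀ = (ores (Y.basicOpen_le h) h) ^ n • res E hle t) {D : X.Opens}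
    (hD : D ≤ g ⁻¹ᵁ (Y.basicOpen h)) (hDU : D ≤ g ⁻¹ᵁ U) (hDV : D ≤ g ⁻¹ᵁ V') :
    res L hDU (se g ρ t₀) = (ores hDU (g.app U h)) ^ n • res L hDV (se g ρ t) := by
  have h1 : res L hDU (se g ρ t₀) = res L hD (se g ρ (res E (Y.basicOpen_le h) t₀)) := by
    rw [← res_se, res_res]
  have h2 : res L hDV (se g ρ t) = res L hD (se g ρ (res E hle t)) := by
    rw [← res_se, res_res]
  have h3 : ores hDU (g.app U h) = ores hD (g.app _ (ores (Y.basicOpen_le h) h)) := by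
    have h2 : (g.app _ (ores (Y.basicOpen_le h) h) : Γ(X, g ⁻¹ᵁ _)) =
        ores (g.preimage_mono (Y.basicOpen_le h)) (g.app U h) :=
      congr(($(g.naturality (homOfLE (Y.basicOpen_le h)).op)).hom h)
    rw [h2, ores_ores]
  rw [h1, ht, se_smul, res_smul, h2, h3, map_pow, map_pow]

theorem isUnit_app {U : Y.Opens} (h : Γ(Y, U)) {D : X.Opens}
    (hD : D ≤ g ⁻¹ᵁ (Y.basicOpen h)) (hDU : D ≤ g ⁻¹ᵁ U) : IsUnit (ores hDU (g.app U h)) := by
  have h1 : D ≤ X.basicOpen (g.app U h) := by rw [← Scheme.preimage_basicOpen]; exact hD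
  have h2 := (RingedSpace.isUnit_res_basicOpen X.toRingedSpace (g.app U h)).map (ores h1)
  have h3 : (ores h1) (ores (X.basicOpen_le (g.app U h)) (g.app U h)) = ores hDU (g.app U h) := ores_ores _ _ _
  rw [← h3]
  exact h2

theorem appLE_toSpecΓ {T : Scheme.{u}} {D : T.Opens} (hD : IsAffineOpen D) (ψ : Γ(T, D) ⟶ Γ(X, ⊤)) {r : X ⟶ T}
    (hr : r = X.toSpecΓ ≫ Spec.map ψ ≫ hD.fromSpec) (h : (⊤ : X.Opens) ≤ r ⁻¹ᵁ D) : r.appLE D ⊤ h = ψ := by
  have h1 : (⊤ : X.Opens).toSpecΓ ≫ Spec.map (r.appLE D ⊤ h) ≫ hD.fromSpec =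
      (⊤ : X.Opens).toSpecΓ ≫ Spec.map ψ ≫ hD.fromSpec := by
    rw [Scheme.Opens.toSpecΓ_SpecMap_appLE_assoc, IsAffineOpen.toSpecΓ_fromSpec, Scheme.Hom.resLE_comp_ι,
      Scheme.Opens.toSpecΓ_top, Category.assoc, ← hr]
  rw [← Category.assoc, ← Category.assoc, cancel_mono] at h1
  have h2 := congrArg (fun k => (Scheme.ΓSpecIso _).inv ≫ Scheme.Hom.appTop k ≫ (⊤ : X.Opens).topIso.hom) h1
  simpa only [Scheme.Hom.comp_appTop, Scheme.Opens.toSpecΓ_appTop, Category.assoc, Iso.inv_hom_id, Category.comp_id,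
    ← Scheme.ΓSpecIso_inv_naturality_assoc, Iso.inv_hom_id_assoc] using h2

theorem app_ores (r : X ⟶ P) {D D' : P.Opens} (h : D' ≤ D) (a : Γ(P, D)) :
    (r.app D' (ores h a) : Γ(X, r ⁻¹ᵁ D')) = ores (r.preimage_mono h) (r.app D a) :=
  congr(($(r.naturality (homOfLE h).op)).hom a)

end aux

/-- A morphism compatible with sections over one affine open is compatible. -/
theorem comp_of_affine (hE : Coh.IsQCoh E) {U : Y.Opens} (hU : IsAffineOpen U) (e : Γ(E, U))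
    {r : X ⟶ P} (hr : r ≫ p = g) (hrD : (⊤ : X.Opens) ≤ r ⁻¹ᵁ nz p φ e)
    (hgen : IsGen (res L (hrD.trans (pre_le hr (nz_le p φ e))) (se g ρ e)))
    (hrat : ∀ (t : Γ(E, U)) (a : Γ(P, nz p φ e)),
        res O1 (nz_le p φ e) (se p φ t) = a • res O1 (nz_le p φ e) (se p φ e) →
        res L (hrD.trans (pre_le hr (nz_le p φ e))) (se g ρ t) =
          r.appLE _ _ hrD a • res L (hrD.trans (pre_le hr (nz_le p φ e))) (se g ρ e)) :
    Comp ρ φ r hr := by
  have K : ∀ {V' : Y.Opens} (t : Γ(E, V')) (D : P.Opens) (h1 : D ≤ nz p φ e) (h2 : D ≤ p ⁻¹ᵁ V') (c : Γ(P, D)),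
      res O1 h2 (se p φ t) = c • res O1 (h1.trans (nz_le _ _ _)) (se p φ e) →
      res L (pre_le hr h2) (se g ρ t) =
        (r.app D c : Γ(X, r ⁻¹ᵁ D)) • res L (pre_le hr (h1.trans (nz_le _ _ _))) (se g ρ e) := by
    intro V' t D h1 h2 c hc
    have key : ∀ x : r ⁻¹ᵁ D, ∃ h : Γ(Y, U), Y.basicOpen h ≤ V' ∧ p (r x.1) ∈ Y.basicOpen h := by
      intro x
      exact hU.exists_basicOpen_le ⟨p (r x.1), h2 x.2⟩ (nz_le p φ e (h1 x.2))
    choose h hle hx using key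
    refine res_ext L (fun x => r ⁻¹ᵁ (D ⊓ p ⁻¹ᵁ (Y.basicOpen (h x)))) (fun x => r.preimage_mono inf_le_left) ?_ ?_
    · intro x hx'
      exact Opens.mem_iSup.mpr ⟨⟨x, hx'⟩, hx', hx ⟨x, hx'⟩⟩
    · intro x
      obtain ⟨n, t₀, ht₀⟩ := exists_res_eq hE hU (h x) (res E (hle x) t)
      obtain ⟨a₀, ha₀⟩ := (isGen_nz p φ e).exists_eq (res O1 (nz_le p φ e) (se p φ t₀))
      have hX := hrat t₀ a₀ ha₀
      set D' := D ⊓ p ⁻¹ᵁ (Y.basicOpen (h x)) with hD'
      have hD1 : D' ≤ p ⁻¹ᵁ (Y.basicOpen (h x)) := inf_le_right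
      have hD2 : D' ≤ p ⁻¹ᵁ U := hD1.trans (p.preimage_mono (Y.basicOpen_le _))
      have hD3 : D' ≤ p ⁻¹ᵁ V' := inf_le_left.trans h2
      have hD4 : D' ≤ nz p φ e := inf_le_left.trans h1
      -- on `P`
      have e1 := se_pow_smul p φ (hle x) ht₀ hD1 hD2 hD3
      have e2 : res O1 hD2 (se p φ t₀) = ores hD4 a₀ • res O1 hD2 (se p φ e) := by
        have := congrArg (res O1 hD4) ha₀
        rwa [res_res, res_smul, res_res] at this
      have e3 : res O1 hD3 (se p φ t) = ores (inf_le_left : D' ≤ D) c • res O1 hD2 (se p φ e) := by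
        have := congrArg (res O1 (inf_le_left : D' ≤ D)) hc
        rwa [res_res, res_smul, res_res] at this
      have e4 : (ores hD2 (p.app U (h x))) ^ n * ores (inf_le_left : D' ≤ D) c = ores hD4 a₀ := by
        have hg := (isGen_nz p φ e).res hD4
        rw [res_res] at hg
        apply hg.ext
        rw [mul_smul, ← e3, ← e1, e2]
      -- on `X`
      have f1 := se_pow_smul g ρ (hle x) ht₀ (pre_le hr hD1) (pre_le hr hD2) (pre_le hr hD3)
      have f2 : res L (pre_le hr hD2) (se g ρ t₀) =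
          (r.app D' (ores hD4 a₀) : Γ(X, r ⁻¹ᵁ D')) • res L (pre_le hr hD2) (se g ρ e) := by
        have := congrArg (res L (le_top : r ⁻¹ᵁ D' ≤ ⊤)) hX
        rw [res_res, res_smul, res_res] at this
        rw [this, app_ores]
        congr 1
        have h5 : ores (le_top : r ⁻¹ᵁ D' ≤ ⊤) (r.appLE _ _ hrD a₀) = (r.app _ ≫ X.presheaf.map (homOfLE hrD).op ≫
          X.presheaf.map (homOfLE (le_top : r ⁻¹ᵁ D' ≤ ⊤)).op) a₀ := rfl
        rw [h5, ← Functor.map_comp]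
        rfl
      have f3 : (r.app D' (ores hD2 (p.app U (h x))) : Γ(X, r ⁻¹ᵁ D')) =
          ores (pre_le hr hD2) (g.app U (h x)) := by
        subst hr
        rw [app_ores]
        rfl
      have f4 : IsUnit (ores (pre_le hr hD2) (g.app U (h x))) := isUnit_app (h x) (pre_le hr hD1) _
      have f5 : ores (pre_le hr hD2) (g.app U (h x)) ^ n • res L (pre_le hr hD3) (se g ρ t) =
          ores (pre_le hr hD2) (g.app U (h x)) ^ n • ((r.app D' (ores (inf_le_left : D' ≤ D) c) : Γ(X, r ⁻¹ᵁ D')) •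
            res L (pre_le hr hD2) (se g ρ e)) := by
        rw [← f1, f2, ← e4, map_mul, map_pow, f3, mul_smul]
      have f6 := ((f4.pow n).smul_left_cancel).mp f5
      rw [res_res, f6, res_smul, res_res, app_ores]
  intro V V' e' t D h h' a he' ha
  -- replace `D` by `D ∩ nz e`
  have hD : r ⁻¹ᵁ D ≤ r ⁻¹ᵁ (D ⊓ nz p φ e) := fun x hx => ⟨hx, hrD (x := x) trivial⟩
  have hgen' : ∀ {W : X.Opens} (hW : W ≤ g ⁻¹ᵁ U), IsGen (res L hW (se g ρ e)) := by
    intro W hW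
    have := hgen.res (le_top : W ≤ ⊤)
    rwa [res_res] at this
  have hgP : IsGen (res O1 ((inf_le_right : D ⊓ nz p φ e ≤ _).trans (nz_le p φ e)) (se p φ e)) := by
    have := (isGen_nz p φ e).res (inf_le_right : D ⊓ nz p φ e ≤ _)
    rwa [res_res] at this
  have he'' := he'.res (inf_le_left : D ⊓ nz p φ e ≤ D)
  rw [res_res] at he''
  obtain ⟨b, hb, hb'⟩ := hgP.exists_unit he''
  have k1 := K e' (D ⊓ nz p φ e) inf_le_right (inf_le_left.trans h) b hb'
  have k2 := K t (D ⊓ nz p φ e) inf_le_right (inf_le_left.trans h') (ores inf_le_left a * b) (by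
    have := congrArg (res O1 (inf_le_left : D ⊓ nz p φ e ≤ D)) ha
    rw [res_res, res_smul, res_res] at this
    rw [this, hb', mul_smul])
  have k3 : IsGen (res L (pre_le hr (inf_le_left.trans h)) (se g ρ e') : Γ(L, r ⁻¹ᵁ (D ⊓ nz p φ e))) := by
    rw [k1]
    exact (hgen' _).unit_smul (hb.map (r.app _).hom)
  refine ⟨?_, ?_⟩
  · have := k3.res hD
    rwa [res_res] at this
  · rw [map_mul, mul_smul, ← k1] at k2
    have := congrArg (res L hD) k2
    rw [res_res, res_smul, res_res] at this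
    rw [this, app_ores, ores_ores, ores_refl]

/-- **Local existence.** -/
theorem exists_comp_of_isGen (hφ : IsUniv p φ) (hE : Coh.IsQCoh E) {U : Y.Opens} (hU : IsAffineOpen U) (e : Γ(E, U))
    (hg : (⊤ : X.Opens) ≤ g ⁻¹ᵁ U) (he : IsGen (res L hg (se g ρ e))) :
    ∃ (r : X ⟶ P) (hr : r ≫ p = g), Comp ρ φ r hr := by
  -- ratios
  choose l hl using fun t : Γ(E, U) => he.exists_eq (res L hg (se g ρ t))
  obtain ⟨ψ, hψ1, hψ2⟩ := hφ.lift hU e Γ(X, ⊤) (g.appLE U ⊤ hg).hom (AddMonoidHom.mk' l (by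
    intro t t'
    apply he.ext
    rw [← hl, se_add, map_add, add_smul, ← hl, ← hl])) (by
    intro a t
    change l (a • t) = _ * l t
    apply he.ext
    rw [← hl, se_smul, res_smul, mul_smul, ← hl]
    rfl) (by
    change l e = 1
    apply he.ext
    rw [← hl, one_smul])
  have hD := hφ.affine hU e
  let r : X ⟶ P := X.toSpecΓ ≫ Spec.map (CommRingCat.ofHom ψ) ≫ hD.fromSpec
  have hrD : (⊤ : X.Opens) ≤ r ⁻¹ᵁ nz p φ e := by
    intro x _
    have := Set.mem_range_self (f := hD.fromSpec) ((X.toSpecΓ ≫ Spec.map (CommRingCat.ofHom ψ)) x)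
    rw [hD.range_fromSpec] at this
    exact this
  have happ : r.appLE _ _ hrD = CommRingCat.ofHom ψ := appLE_toSpecΓ hD _ rfl hrD
  have hr : r ≫ p = g := by
    have hle : (⊤ : X.Opens) ≤ (r ≫ p) ⁻¹ᵁ U := hrD.trans (r.preimage_mono (nz_le p φ e))
    have h1 := eq_of_appLE hU hle hg (by
      rw [Scheme.Hom.comp_appLE]
      ext a
      have h2 : r.appLE (p ⁻¹ᵁ U) ⊤ hle = P.presheaf.map (homOfLE (nz_le p φ e)).op ≫ r.appLE _ _ hrD := by
        rw [Scheme.Hom.map_appLE]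
      rw [h2, happ]
      exact hψ1 a)
    have : Epi (⊤ : X.Opens).ι := by
      rw [← Scheme.topIso_hom]
      infer_instance
    rwa [cancel_epi] at h1
  refine ⟨r, hr, comp_of_affine hE hU e hr hrD he ?_⟩
  intro t a ha
  rw [happ]
  have := hψ2 t a ha
  change _ = ψ a • _
  rw [this]
  exact hl t

/-! ### Gluing -/

/-- Sections over an open inside the image of an open immersion are determined by their pullback. -/
theorem pullSec_injective (f : Z ⟶ X) [IsOpenImmersion f] {M : X.Modules} {U : X.Opens} (hU : U ≤ f.opensRange) :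
    Function.Injective (pullSec f : Γ(M, U) → _) := by
  intro a b hab
  rw [← restrictFunctorIsoPullback_hom_app, ← restrictFunctorIsoPullback_hom_app] at hab
  have h1 : Function.Injective (((Scheme.Modules.restrictFunctorIsoPullback f).hom.app M).app (f ⁻¹ᵁ U)) :=
    (ConcreteCategory.bijective_of_isIso (((Scheme.Modules.restrictFunctorIsoPullback f).hom.app M).app (f ⁻¹ᵁ U))).1
  have h2 := (toRestrict f).injective (h1 hab)
  have h3 : U ≤ f ''ᵁ (f ⁻¹ᵁ U) := by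
    rw [f.image_preimage_eq_opensRange_inf]
    exact le_inf hU le_rfl
  have h4 := congrArg (res M h3) h2
  rwa [res_res, res_res, res_refl, res_refl] at h4

theorem Comp.restrict {f : Z ⟶ X} {r : Z ⟶ P} {hr : r ≫ p = f ≫ g} (h : Comp (K35.Univ.pullD f g ρ) φ r hr)
    {Z' : Scheme.{u}} (k : Z' ⟶ Z) {f' : Z' ⟶ X} (hf : k ≫ f = f') :
    Comp (K35.Univ.pullD f' g ρ) φ (k ≫ r) (by rw [Category.assoc, hr, ← hf, Category.assoc]) := by
  subst hf
  intro V V' e t D hD hD' a he ha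
  obtain ⟨h1, h2⟩ := h.pullD k V V' e t D hD hD' a he ha
  have key : ∀ {V : Y.Opens} (hD : D ≤ p ⁻¹ᵁ V) (t : Γ(E, V)),
      ((Scheme.Modules.pullbackComp k f).hom.app L).app ((k ≫ r) ⁻¹ᵁ D)
        (res _ (pre_le (r := k ≫ r) (g := k ≫ f ≫ g) (by rw [Category.assoc, hr]) hD)
          (se (k ≫ f ≫ g) (K35.Univ.pullD k (f ≫ g) (K35.Univ.pullD f g ρ)) t)) =
      res _ (pre_le (r := k ≫ r) (g := (k ≫ f) ≫ g) (by rw [Category.assoc, hr, Category.assoc]) hD)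
        (se ((k ≫ f) ≫ g) (K35.Univ.pullD (k ≫ f) g ρ) t) := by
    intro V hD t
    rw [app_res]
    have h3 := pullSec_comp' k f (M := L) (se g ρ t)
    exact congrArg _ h3
  refine ⟨?_, ?_⟩
  · rw [← key hD]
    exact h1.app _
  · rw [← key hD, ← key hD', ← Scheme.Modules.Hom.app_smul]
    exact congrArg _ h2

/-- Compatibility is local on the source. -/
theorem comp_of_cover {r : X ⟶ P} (hr : r ≫ p = g)
    (H : ∀ x : X, ∃ (Z : Scheme.{u}) (f : Z ⟶ X) (_ : IsOpenImmersion f), x ∈ f.opensRange ∧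
      Comp (pullD f g ρ) φ (f ≫ r) (by rw [Category.assoc, hr])) : Comp ρ φ r hr := by
  intro V V' e t D hD hD' a he ha
  have key : ∀ x : r ⁻¹ᵁ D, ∃ (W : X.Opens) (hW : W ≤ r ⁻¹ᵁ D), x.1 ∈ W ∧
      IsGen (res L hW (res L (pre_le hr hD) (se g ρ e))) ∧
      res L hW (res L (pre_le hr hD') (se g ρ t)) =
        res L hW ((r.app D a : Γ(X, r ⁻¹ᵁ D)) • res L (pre_le hr hD) (se g ρ e)) := by
    intro x
    obtain ⟨Z, f, hf, hx, hc⟩ := H x.1
    obtain ⟨h1, h2⟩ := hc V V' e t D hD hD' a he ha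
    refine ⟨r ⁻¹ᵁ D ⊓ f.opensRange, inf_le_left, ⟨x.2, hx⟩, ?_⟩
    have h3 : ∀ (s : Γ(L, r ⁻¹ᵁ D)), pullSec f (res L (inf_le_left : r ⁻¹ᵁ D ⊓ f.opensRange ≤ r ⁻¹ᵁ D) s) =
        res _ (f.preimage_mono inf_le_left) (pullSec f s) := fun s => (res_pullSec f _ s).symm
    have h4 : ∀ {V : Y.Opens} (hD : D ≤ p ⁻¹ᵁ V) (t : Γ(E, V)), res _
        (pre_le (r := f ≫ r) (g := f ≫ g) (by rw [Category.assoc, hr]) hD) (se (f ≫ g) (K35.Univ.pullD f g ρ) t) =
        pullSec f (res L (pre_le hr hD) (se g ρ t)) := fun hD t => res_pullSec f (pre_le hr hD) (se g ρ t)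
    rw [h4 hD] at h1
    rw [h4 hD, h4 hD'] at h2
    refine ⟨?_, ?_⟩
    · rw [← isGen_pullSec_openImmersion_iff f _ inf_le_right, h3]
      exact h1.res _
    · apply pullSec_injective f inf_le_right
      rw [h3, h3, h2, pullSec_smul]
      rfl
  choose W hW hxW h1 h2 using key
  have hcov : r ⁻¹ᵁ D ≤ ⨆ x, W x := fun x hx => Opens.mem_iSup.mpr ⟨⟨x, hx⟩, hxW ⟨x, hx⟩⟩
  exact ⟨IsGen.of_cover W hW hcov h1, res_ext L W hW hcov h2⟩

/-- **Existence.** -/
theorem exists_comp (hφ : IsUniv p φ) (hE : Coh.IsQCoh E) (hρ : Gn g ρ) :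
    ∃ (r : X ⟶ P) (hr : r ≫ p = g), Comp ρ φ r hr := by
  have key : ∀ x : X, ∃ (U : Y.Opens) (_ : IsAffineOpen U) (e : Γ(E, U)), x ∈ nz g ρ e := by
    intro x
    obtain ⟨U, hU, -, e, he⟩ := hρ.exists_le x ⊤ trivial
    exact ⟨U, hU, e, he⟩
  choose U hU e he using key
  have loc : ∀ x : X, ∃ (r : (nz g ρ (e x) : Scheme.{u}) ⟶ P) (hr : r ≫ p = (nz g ρ (e x)).ι ≫ g),
      Comp (pullD (nz g ρ (e x)).ι g ρ) φ r hr := by
    intro x
    have h1 : (⊤ : (nz g ρ (e x) : Scheme.{u}).Opens) ≤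
        nz ((nz g ρ (e x)).ι ≫ g) (pullD (nz g ρ (e x)).ι g ρ) (e x) := by
      rw [nz_pullD]
      intro y _
      exact y.2
    have h2 := h1.trans (nz_le _ _ _)
    exact exists_comp_of_isGen hφ hE (hU x) (e x) h2 ((le_nv_iff _ _ h2).mp h1)
  choose r hr hc using loc
  have hgn : ∀ {Z : Scheme.{u}} (f : Z ⟶ X), Gn (f ≫ g) (pullD f g ρ) := by
    intro Z f z
    refine ⟨U (f z), e (f z), ?_⟩
    have h1 : f ⁻¹ᵁ (nz g ρ (e (f z))) ≤ nz (f ≫ g) (pullD f g ρ) (e (f z)) := by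
      have := (isGen_nv L (se g ρ (e (f z)))).pullSec f
      rw [← res_pullSec] at this
      exact (le_nv_iff _ _ (f.preimage_mono (nv_le _ _))).mpr this
    exact h1 (he (f z))
  obtain ⟨R, hR⟩ := K36.GlueAff.exists_glue_opens (Z := P) (fun x => nz g ρ (e x)) (fun x => ⟨x, he x⟩) r (by
    intro x y
    exact ((hc x).restrict (X.homOfLE inf_le_left) (Scheme.homOfLE_ι _ _)).eq hφ (hgn _)
      ((hc y).restrict (X.homOfLE inf_le_right) (Scheme.homOfLE_ι _ _)))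
  have hRg : R ≫ p = g := by
    refine K36.GlueAff.hom_ext_opens (fun x => nz g ρ (e x)) (fun x => ⟨x, he x⟩) fun x => ?_
    rw [← Category.assoc, hR, hr]
  refine ⟨R, hRg, comp_of_cover hRg fun x => ⟨_, (nz g ρ (e x)).ι, inferInstance, ?_, ?_⟩⟩
  · rw [Scheme.Opens.opensRange_ι]
    exact he x
  · have h1 := hc x
    have aux : ∀ (a b : (nz g ρ (e x) : Scheme.{u}) ⟶ P) (hab : a = b) (ha : a ≫ p = (nz g ρ (e x)).ι ≫ g)
        (hb : b ≫ p = (nz g ρ (e x)).ι ≫ g), Comp (pullD (nz g ρ (e x)).ι g ρ) φ a ha →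
        Comp (pullD (nz g ρ (e x)).ι g ρ) φ b hb := by
      rintro a b rfl ha hb h
      exact h
    exact aux _ _ (hR x).symm _ _ h1

/-- **The universal property**, in terms of compatibility. -/
theorem existsUnique_comp (hφ : IsUniv p φ) (hE : Coh.IsQCoh E) (hρ : Gn g ρ) :
    ∃! r : X ⟶ P, ∃ hr : r ≫ p = g, Comp ρ φ r hr := by
  obtain ⟨r, hr, hc⟩ := exists_comp hφ hE hρ
  refine ⟨r, ⟨hr, hc⟩, ?_⟩
  rintro r' ⟨hr', hc'⟩
  exact hc'.eq hφ hρ hc

end K35.Univ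
end
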