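import Groth.Agent.EGA2.K36.SymAlg
import Groth.Agent.EGA2.K36.SpecLocal

/-!
# `V(E ⊕ F) = V(E) ×_S V(F)`
-/

set_option autoImplicit false
universe u
open CategoryTheory CategoryTheory.Limits AlgebraicGeometry TopologicalSpace Opposite

noncomputable section
namespace K35.VBSum
open K36.SymAlg K36.SpecLocal

section ring

/-- The symmetric algebra of a direct sum, abstractly. -/
theorem isPushout_sum {R AE AF A : CommRingCat.{u}} (a : R ⟶ AE) (b : R ⟶ AF) (v : AE ⟶ A) (w : AF ⟶ A)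
    (h : a ≫ v = b ≫ w) {M N K : Type u} [AddCommGroup M] [AddCommGroup N] [AddCommGroup K] [Module R M] [Module R N]
    [Module R K] (iE : M →+ AE) (iF : N →+ AF) (i : K →+ A) (inl : M →+ K) (inr : N →+ K)
    (fst : K →ₗ[R] M) (snd : K →ₗ[R] N) (hsum : ∀ x, inl (fst x) + inr (snd x) = x)
    (hll : ∀ x, fst (inl x) = x) (hlr : ∀ x, snd (inl x) = 0) (hrl : ∀ x, fst (inr x) = 0) (hrr : ∀ x, snd (inr x) = x)
    (hv : ∀ x, v (iE x) = i (inl x)) (hw : ∀ x, w (iF x) = i (inr x))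
    (hiE : ∀ (r : R) x, iE (r • x) = a r * iE x) (hiF : ∀ (r : R) x, iF (r • x) = b r * iF x)
    (univ : ∀ (C : CommRingCat.{u}) (γ : R →+* C) (l : K →+ C), (∀ (r : R) x, l (r • x) = γ r * l x) →
      ∃ z : A →+* C, (∀ r, z (v (a r)) = γ r) ∧ ∀ x, z (i x) = l x)
    (extE : ∀ (C : CommRingCat.{u}) (f g : AE →+* C), (∀ r, f (a r) = g (a r)) → (∀ x, f (iE x) = g (iE x)) → f = g)
    (extF : ∀ (C : CommRingCat.{u}) (f g : AF →+* C), (∀ r, f (b r) = g (b r)) → (∀ x, f (iF x) = g (iF x)) → f = g)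
    (ext : ∀ (C : CommRingCat.{u}) (f g : A →+* C), (∀ r, f (v (a r)) = g (v (a r))) →
      (∀ x, f (i x) = g (i x)) → f = g) : IsPushout a b v w := by
  have key : ∀ (C : CommRingCat.{u}) (f : AE ⟶ C) (g : AF ⟶ C), a ≫ f = b ≫ g →
      ∃ z : A ⟶ C, v ≫ z = f ∧ w ≫ z = g := by
    intro C f g hfg
    have hfg' : ∀ r, g (b r) = f (a r) := fun r => congr(($hfg).hom r).symm
    obtain ⟨z, hz, hzi⟩ := univ C (f.hom.comp a.hom)
      ((f.hom.toAddMonoidHom.comp iE).comp fst.toAddMonoidHom + (g.hom.toAddMonoidHom.comp iF).comp snd.toAddMonoidHom) (by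
        intro r x
        change f (iE (fst (r • x))) + g (iF (snd (r • x))) = f (a r) * (f (iE (fst x)) + g (iF (snd x)))
        rw [fst.map_smul, snd.map_smul, hiE, hiF, map_mul, map_mul, hfg', mul_add])
    refine ⟨CommRingCat.ofHom z, ?_, ?_⟩
    · have : z.comp v.hom = f.hom := by
        apply extE C
        · intro r
          exact hz r
        · intro x
          change z (v (iE x)) = _
          rw [hv, hzi]
          change f (iE (fst (inl x))) + g (iF (snd (inl x))) = _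
          rw [hll, hlr, map_zero, map_zero, add_zero]
      ext x
      exact congr($this x)
    · have : z.comp w.hom = g.hom := by
        apply extF C
        · intro r
          have h1 : w (b r) = v (a r) := congr(($h).hom r).symm
          change z (w (b r)) = g (b r)
          rw [h1, hfg']
          exact hz r
        · intro x
          change z (w (iF x)) = _
          rw [hw, hzi]
          change f (iE (fst (inr x))) + g (iF (snd (inr x))) = _
          rw [hrl, hrr, map_zero, map_zero, zero_add]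
      ext x
      exact congr($this x)
  refine ⟨⟨h⟩, ⟨PushoutCocone.IsColimit.mk _ (fun s => (key s.pt s.inl s.inr s.condition).choose)
    (fun s => (key s.pt s.inl s.inr s.condition).choose_spec.1)
    (fun s => (key s.pt s.inl s.inr s.condition).choose_spec.2) ?_⟩⟩
  intro s z hz1 hz2
  have h3 := (key s.pt s.inl s.inr s.condition).choose_spec
  set z' := (key s.pt s.inl s.inr s.condition).choose
  have h1 : v ≫ z = v ≫ z' := hz1.trans h3.1.symm
  have h2 : w ≫ z = w ≫ z' := hz2.trans h3.2.symm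
  have : z.hom = z'.hom := by
    apply ext s.pt
    · intro r
      exact congr(($h1).hom (a r))
    · intro x
      have h4 : z (i (inl (fst x))) = z' (i (inl (fst x))) := by
        rw [← hv]; exact congr(($h1).hom (iE (fst x)))
      have h5 : z (i (inr (snd x))) = z' (i (inr (snd x))) := by
        rw [← hw]; exact congr(($h2).hom (iF (snd x)))
      have h6 : i x = i (inl (fst x)) + i (inr (snd x)) := by rw [← map_add, hsum]
      change z (i x) = z' (i x)
      rw [h6, map_add, map_add, h4, h5]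
  ext x
  exact congr($this x)

end ring

variable {S : Scheme.{u}}

theorem ringHom_ext_sym {E : S.Modules} (hE : Coh.IsQCoh E) {A : RelSpec.QCAlg S} {j : E ⟶ A.toModule}
    (hA : RelSpec.IsSymAlg E A j) {U : S.Opens} (hU : IsAffineOpen U) {C : Type u} [CommRing C]
    {f g : A.presheaf.obj (op U) →+* C} (h0 : ∀ r, f ((A.str.app (op U)).hom r) = g ((A.str.app (op U)).hom r))
    (h1 : ∀ x, f (jApp E A j U x) = g (jApp E A j U x)) : f = g := by
  have h2 : f.comp (symHom E A j U) = g.comp (symHom E A j U) := by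
    apply Groth.Agent.CohqB.SymLoc.ringHom_ext
    · intro r
      rw [RingHom.comp_apply, RingHom.comp_apply, symHom_algebraMap]
      exact h0 r
    · intro m
      rw [RingHom.comp_apply, RingHom.comp_apply, symHom_ι]
      exact h1 m
  ext x
  obtain ⟨y, rfl⟩ := (bijective_symHom hE hA U hU).2 x
  exact congr($h2 y)

theorem exists_ringHom_sym {E : S.Modules} (hE : Coh.IsQCoh E) {A : RelSpec.QCAlg S} {j : E ⟶ A.toModule}
    (hA : RelSpec.IsSymAlg E A j) {U : S.Opens} (hU : IsAffineOpen U)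
    (C : Type u) [CommRing C] (γ : Γ(S, U) →+* C) (l : Γ(E, U) →+ C) (hl : ∀ a t, l (a • t) = γ a * l t) :
    ∃ v : A.presheaf.obj (op U) →+* C, (∀ a, v ((A.str.app (op U)).hom a) = γ a) ∧ ∀ t, v (jApp E A j U t) = l t := by
  let e := RingEquiv.ofBijective _ (bijective_symHom hE hA U hU)
  refine ⟨(Groth.Agent.CohqB.SymLoc.desc γ l hl).comp e.symm.toRingHom, fun a => ?_, fun t => ?_⟩
  · have h1 : e.symm ((A.str.app (op U)).hom a) = algebraMap _ _ a := by
      rw [RingEquiv.symm_apply_eq]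
      exact (symHom_algebraMap E A j U a).symm
    change Groth.Agent.CohqB.SymLoc.desc γ l hl (e.symm _) = _
    rw [h1, Groth.Agent.CohqB.SymLoc.desc_algebraMap]
  · have h1 : e.symm (jApp E A j U t) = SymmetricAlgebra.ι _ _ t := by
      rw [RingEquiv.symm_apply_eq]
      exact (symHom_ι E A j U t).symm
    change Groth.Agent.CohqB.SymLoc.desc γ l hl (e.symm _) = _
    rw [h1, Groth.Agent.CohqB.SymLoc.desc_ι]

/-- A map of modules on sections. -/
def mapΓ {E F : S.Modules} (f : E ⟶ F) (U : S.Opens) : Γ(E, U) →ₗ[Γ(S, U)] Γ(F, U) where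
  toFun x := f.app U x
  map_add' x y := map_add (f.app U).hom x y
  map_smul' r x := Scheme.Modules.Hom.app_smul f r x

theorem mapΓ_comp {E F G : S.Modules} (f : E ⟶ F) (g : F ⟶ G) (U : S.Opens) (x : Γ(E, U)) :
    mapΓ g U (mapΓ f U x) = mapΓ (f ≫ g) U x := rfl

theorem isPushout_sections (E F : S.Modules) (hE : Coh.IsQCoh E) (hF : Coh.IsQCoh F)
    (AE AF A : RelSpec.QCAlg S) (jE : E ⟶ AE.toModule) (jF : F ⟶ AF.toModule) (j : E ⊞ F ⟶ A.toModule)
    (hAE : RelSpec.IsSymAlg E AE jE) (hAF : RelSpec.IsSymAlg F AF jF) (hA : RelSpec.IsSymAlg (E ⊞ F) A j)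
    (ψE : AE ⟶ A) (ψF : AF ⟶ A)
    (hψE : jE ≫ RelSpec.QCAlg.Hom.toModuleMap ψE = biprod.inl ≫ j)
    (hψF : jF ≫ RelSpec.QCAlg.Hom.toModuleMap ψF = biprod.inr ≫ j) (hEF : Coh.IsQCoh (E ⊞ F))
    (U : S.Opens) (hU : IsAffineOpen U) :
    IsPushout (AE.str.app (op U)) (AF.str.app (op U)) (ψE.hom.app (op U)) (ψF.hom.app (op U)) := by
  have e1 : AE.str.app (op U) ≫ ψE.hom.app (op U) = A.str.app (op U) := NatTrans.congr_app ψE.comm (op U)
  have e2 : AF.str.app (op U) ≫ ψF.hom.app (op U) = A.str.app (op U) := NatTrans.congr_app ψF.comm (op U)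
  have e1' : ∀ r, (ψE.hom.app (op U)) ((AE.str.app (op U)).hom r) = (A.str.app (op U)).hom r :=
    fun r => congr(($e1).hom r)
  refine isPushout_sum (AE.str.app (op U)) (AF.str.app (op U)) (ψE.hom.app (op U)) (ψF.hom.app (op U))
    (e1.trans e2.symm) (jApp E AE jE U) (jApp F AF jF U) (jApp (E ⊞ F) A j U)
    (mapΓ biprod.inl U).toAddMonoidHom (mapΓ biprod.inr U).toAddMonoidHom (mapΓ biprod.fst U) (mapΓ biprod.snd U)
    ?_ ?_ ?_ ?_ ?_ ?_ ?_ (jApp_smul _ _ _ _) (jApp_smul _ _ _ _) ?_ ?_ ?_ ?_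
  · intro x
    have h1 : (biprod.fst ≫ biprod.inl + biprod.snd ≫ biprod.inr : E ⊞ F ⟶ E ⊞ F) = 𝟙 _ := biprod.total
    exact congr(($h1).app U x)
  · intro x
    exact congr(($(biprod.inl_fst (X := E) (Y := F))).app U x)
  · intro x
    exact congr(($(biprod.inl_snd (X := E) (Y := F))).app U x)
  · intro x
    exact congr(($(biprod.inr_fst (X := E) (Y := F))).app U x)
  · intro x
    exact congr(($(biprod.inr_snd (X := E) (Y := F))).app U x)
  · intro x
    exact congr(($hψE).app U x)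
  · intro x
    exact congr(($hψF).app U x)
  · intro C γ l hl
    obtain ⟨z, hz, hz'⟩ := exists_ringHom_sym hEF hA hU C γ l hl
    refine ⟨z, fun r => ?_, hz'⟩
    rw [← hz]
    exact congrArg z (e1' r)
  · intro C f g h0 h1
    exact ringHom_ext_sym hE hAE hU h0 h1
  · intro C f g h0 h1
    exact ringHom_ext_sym hF hAF hU h0 h1
  · intro C f g h0 h1
    refine ringHom_ext_sym hEF hA hU (fun r => ?_) h1
    rw [← e1']
    exact h0 r

/-- A square of relative spectra which is cocartesian on sections over the affine opens is cartesian. -/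
theorem isPullback_spec {AE AF A : RelSpec.QCAlg S} (ψE : AE ⟶ A) (ψF : AF ⟶ A)
    (H : ∀ (U : S.Opens), IsAffineOpen U →
      IsPushout (AE.str.app (op U)) (AF.str.app (op U)) (ψE.hom.app (op U)) (ψF.hom.app (op U))) :
    IsPullback (RelSpec.QCAlg.specMap ψE) (RelSpec.QCAlg.specMap ψF) AE.π AF.π := by
  apply Scheme.isPullback_of_openCover _ _ _ _ (cover AE)
  intro V
  let U : S.AffineZariskiSite := V
  change IsPullback (pullback.snd (RelSpec.QCAlg.specMap ψE) (AE.ι U.1 U.2))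
    (pullback.fst (RelSpec.QCAlg.specMap ψE) (AE.ι U.1 U.2) ≫ RelSpec.QCAlg.specMap ψF) (AE.ι U.1 U.2 ≫ AE.π) AF.π
  have h1 := isPullback_specMap ψE U.1 U.2
  have h2 : IsPullback (Spec.map (ψE.hom.app (op U.1))) (Spec.map (ψF.hom.app (op U.1)))
      (Spec.map (AE.str.app (op U.1))) (Spec.map (AF.str.app (op U.1))) :=
    isPullback_SpecMap_of_isPushout _ _ _ _ (H U.1 U.2)
  have h3 := h2.paste_vert (isPullback_ι AF U.1 U.2).flip
  have h4 : AE.ι U.1 U.2 ≫ AE.π = Spec.map (AE.str.app (op U.1)) ≫ U.2.fromSpec := (isPullback_ι AE U.1 U.2).w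
  have h5 : A.ι U.1 U.2 ≫ RelSpec.QCAlg.specMap ψF = Spec.map (ψF.hom.app (op U.1)) ≫ AF.ι U.1 U.2 :=
    RelSpec.QCAlg.ι_specMap U.1 U.2 ψF
  rw [← h4, ← h5] at h3
  refine h3.of_iso h1.isoPullback (Iso.refl _) (Iso.refl _) (Iso.refl _) ?_ ?_ ?_ ?_
  · simp
  · simp
  · simp
  · simp

theorem main (E F : S.Modules) (hE : Coh.IsQCoh E) (hF : Coh.IsQCoh F)
    (AE AF A : RelSpec.QCAlg S) (jE : E ⟶ AE.toModule) (jF : F ⟶ AF.toModule) (j : E ⊞ F ⟶ A.toModule)
    (hAE : RelSpec.IsSymAlg E AE jE) (hAF : RelSpec.IsSymAlg F AF jF) (hA : RelSpec.IsSymAlg (E ⊞ F) A j)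
    (ψE : AE ⟶ A) (ψF : AF ⟶ A)
    (hψE : jE ≫ RelSpec.QCAlg.Hom.toModuleMap ψE = biprod.inl ≫ j)
    (hψF : jF ≫ RelSpec.QCAlg.Hom.toModuleMap ψF = biprod.inr ≫ j) (hEF : Coh.IsQCoh (E ⊞ F)) :
    IsPullback (RelSpec.QCAlg.specMap ψE) (RelSpec.QCAlg.specMap ψF) AE.π AF.π :=
  isPullback_spec ψE ψF fun U hU => isPushout_sections E F hE hF AE AF A jE jF j hAE hAF hA ψE ψF hψE hψF hEF U hU

end K35.VBSum
end
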